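import Cfsg.Agent.Helper16.S3Core
import Cfsg.Agent.Helper79.Linear
import Cfsg.Agent.Helper80.LinChar
import Cfsg.Agent.Helper80.CharIrr

/-!
# Piece TW of CALL S3805 (helper66): twisting by the sign character does not fix `X₁`, `X₂`
-/

set_option autoImplicit false

namespace Cfsg.Agent.Helper66

open Cfsg Cfsg.Agent.Helper16 DihedralGroup
open scoped ComplexConjugate

/-- Expansion of the inner product of two three-term combinations. -/
theorem s3tw_expand {G : Type*} [Group G] [Fintype G] (a b c a' b' c' : G → ℂ) :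
    classInner (fun g => a g + b g - c g) (fun g => a' g + b' g - c' g)
      = classInner a a' + classInner a b' - classInner a c' + classInner b a' + classInner b b'
        - classInner b c' - classInner c a' - classInner c b' + classInner c c' := by
  unfold classInner
  simp only [← mul_add, ← mul_sub, ← Finset.sum_add_distrib, ← Finset.sum_sub_distrib]
  congr 1
  refine Finset.sum_congr rfl fun g _ => ?_
  simp only [map_add, map_sub]
  ring

/-- Orthonormality of the irreducible characters for `classInner`. -/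
theorem s3tw_orth {G : Type*} [Group G] [Fintype G] (χ ψ : IrrCharacter G) :
    classInner (χ : G → ℂ) (ψ : G → ℂ) = if χ = ψ then 1 else 0 := by
  unfold classInner
  rw [Helper80.irr_orthogonality_conj χ ψ]
  have hcard : (Nat.card G : ℂ) ≠ 0 := by
    rw [Nat.card_eq_fintype_card]
    exact_mod_cast Fintype.card_ne_zero
  by_cases hc : χ = ψ
  · rw [if_pos hc, if_pos hc, ← Nat.card_eq_fintype_card, inv_mul_cancel₀ hcard]
  · rw [if_neg hc, if_neg hc, mul_zero]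

theorem s3_twist_ne {G : Type*} [Group G] [Fintype G] {φ : NM →* G} (h : S3Cfg φ)
    (hTS : ∀ f : G → ℂ, IsClassFunction G f → classInner (cfC φ) f = (1 / 12 : ℂ) * ∑ m ∈ Finset.univ.filter (fun m : NM => m.2 ^ 2 ≠ 1), conj (f (φ m)))
    (f : G →* ℂˣ) (hfa : f (φ (sr 0, 1)) = -1) (hfb : f (φ (1, sr 0)) = 1)
    (X₁ X₂ : IrrCharacter G) (hdec : ∀ g, cfC φ g = 1 + (X₁ : G → ℂ) g - (X₂ : G → ℂ) g)
    (hd₁ : (X₁ : G → ℂ) 1 ≠ 1) (hd₂ : (X₂ : G → ℂ) 1 ≠ 1) (hd : (X₁ : G → ℂ) 1 ≠ (X₂ : G → ℂ) 1) :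
    (fun g => ((f g : ℂˣ) : ℂ) * (X₁ : G → ℂ) g) ≠ (X₁ : G → ℂ) ∧ (fun g => ((f g : ℂˣ) : ℂ) * (X₂ : G → ℂ) g) ≠ (X₂ : G → ℂ) := by
  classical
  obtain ⟨F, hF⟩ : ∃ F : IrrCharacter G, F = Helper80.homIrr f := ⟨_, rfl⟩
  obtain ⟨Y₁, hY₁⟩ : ∃ Y : IrrCharacter G, Y = Helper79.irrTwist f X₁ := ⟨_, rfl⟩
  obtain ⟨Y₂, hY₂⟩ : ∃ Y : IrrCharacter G, Y = Helper79.irrTwist f X₂ := ⟨_, rfl⟩
  obtain ⟨T, hT⟩ : ∃ T : IrrCharacter G, T = Helper80.trivIrr G := ⟨_, rfl⟩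
  have hFv : ∀ g, (F : G → ℂ) g = ((f g : ℂˣ) : ℂ) := fun g => by rw [hF]; rfl
  have hY₁v : ∀ g, (Y₁ : G → ℂ) g = ((f g : ℂˣ) : ℂ) * (X₁ : G → ℂ) g := fun g => by rw [hY₁]; rfl
  have hY₂v : ∀ g, (Y₂ : G → ℂ) g = ((f g : ℂˣ) : ℂ) * (X₂ : G → ℂ) g := fun g => by rw [hY₂]; rfl
  have hTv : ∀ g, (T : G → ℂ) g = 1 := fun g => by rw [hT]; rfl
  have hf1 : ((f 1 : ℂˣ) : ℂ) = 1 := by rw [map_one]; rfl
  -- the class function `f`
  have hfcl : IsClassFunction G (fun g => ((f g : ℂˣ) : ℂ)) := by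
    intro g x
    show ((f (x * g * x⁻¹) : ℂˣ) : ℂ) = ((f g : ℂˣ) : ℂ)
    rw [map_mul, map_mul, map_inv, mul_comm (f x), mul_assoc, mul_inv_cancel, mul_one]
  -- (i) the inner product vanishes
  have hsum : ∑ m ∈ Finset.univ.filter (fun m : NM => m.2 ^ 2 ≠ 1),
      conj (((f (φ m) : ℂˣ) : ℂ)) = 0 := by
    have hneg : ∑ m ∈ Finset.univ.filter (fun m : NM => m.2 ^ 2 ≠ 1),
        -conj (((f (φ m) : ℂˣ) : ℂ))
        = ∑ m ∈ Finset.univ.filter (fun m : NM => m.2 ^ 2 ≠ 1), conj (((f (φ m) : ℂˣ) : ℂ)) := by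
      refine Finset.sum_equiv (Equiv.mulLeft ((sr 0, 1) : NM)) ?_ ?_
      · intro m
        rw [Finset.mem_filter, Finset.mem_filter]
        have e : ((Equiv.mulLeft ((sr 0, 1) : NM)) m).2 = m.2 := by
          show (1 : DihedralGroup 3) * m.2 = m.2
          rw [one_mul]
        rw [e]
        simp
      · intro m _
        have e : (Equiv.mulLeft ((sr 0, 1) : NM)) m = ((sr 0, 1) : NM) * m := rfl
        rw [e, map_mul, map_mul, hfa]
        simp
    rw [Finset.sum_neg_distrib] at hneg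
    have h2 : (2 : ℂ) * ∑ m ∈ Finset.univ.filter (fun m : NM => m.2 ^ 2 ≠ 1),
        conj (((f (φ m) : ℂˣ) : ℂ)) = 0 := by
      linear_combination -hneg
    rcases mul_eq_zero.mp h2 with h3 | h3
    · exact absurd h3 (by norm_num)
    · exact h3
  have hI1 : classInner (cfC φ) (fun g => ((f g : ℂˣ) : ℂ) * cfC φ g) = 0 := by
    have e1 : classInner (cfC φ) (fun g => ((f g : ℂˣ) : ℂ) * cfC φ g)
        = 3 * classInner (cfC φ) (fun g => ((f g : ℂˣ) : ℂ)) := by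
      unfold classInner
      rw [mul_left_comm, Finset.mul_sum _ _ (3 : ℂ)]
      refine congrArg (fun s : ℂ => (Nat.card G : ℂ)⁻¹ * s) (Finset.sum_congr rfl fun g _ => ?_)
      show cfC φ g * conj (((f g : ℂˣ) : ℂ) * cfC φ g)
        = 3 * (cfC φ g * conj ((f g : ℂˣ) : ℂ))
      rcases cfC_eq_three_or_zero φ g with h3 | h0
      · rw [h3, map_mul, map_ofNat]; ring
      · rw [h0]; simp
    rw [e1, hTS _ hfcl, hsum]
    ring
  -- (ii) expansion
  have hI2 : classInner (cfC φ) (fun g => ((f g : ℂˣ) : ℂ) * cfC φ g)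
      = (if X₁ = Y₁ then (1 : ℂ) else 0) + (if X₂ = Y₂ then (1 : ℂ) else 0) := by
    have e1 : cfC φ = fun g => (T : G → ℂ) g + (X₁ : G → ℂ) g - (X₂ : G → ℂ) g :=
      funext fun g => by rw [hdec g, hTv]
    have e2 : (fun g => ((f g : ℂˣ) : ℂ) * cfC φ g)
        = fun g => (F : G → ℂ) g + (Y₁ : G → ℂ) g - (Y₂ : G → ℂ) g :=
      funext fun g => by
        show ((f g : ℂˣ) : ℂ) * cfC φ g = (F : G → ℂ) g + (Y₁ : G → ℂ) g - (Y₂ : G → ℂ) g
        rw [hdec g, hFv, hY₁v, hY₂v]; ring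
    have hTF : T ≠ F := by
      intro e
      have h1 : (T : G → ℂ) (φ (sr 0, 1)) = (F : G → ℂ) (φ (sr 0, 1)) := by rw [e]
      rw [hTv, hFv, hfa] at h1
      norm_num at h1
    have hTY₁ : T ≠ Y₁ := by
      intro e
      have h1 : (T : G → ℂ) 1 = (Y₁ : G → ℂ) 1 := by rw [e]
      rw [hTv, hY₁v, hf1, one_mul] at h1
      exact hd₁ h1.symm
    have hTY₂ : T ≠ Y₂ := by
      intro e
      have h1 : (T : G → ℂ) 1 = (Y₂ : G → ℂ) 1 := by rw [e]
      rw [hTv, hY₂v, hf1, one_mul] at h1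
      exact hd₂ h1.symm
    have hX₁F : X₁ ≠ F := by
      intro e
      have h1 : (X₁ : G → ℂ) 1 = (F : G → ℂ) 1 := by rw [e]
      rw [hFv, hf1] at h1
      exact hd₁ h1
    have hX₂F : X₂ ≠ F := by
      intro e
      have h1 : (X₂ : G → ℂ) 1 = (F : G → ℂ) 1 := by rw [e]
      rw [hFv, hf1] at h1
      exact hd₂ h1
    have hX₁Y₂ : X₁ ≠ Y₂ := by
      intro e
      have h1 : (X₁ : G → ℂ) 1 = (Y₂ : G → ℂ) 1 := by rw [e]
      rw [hY₂v, hf1, one_mul] at h1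
      exact hd h1
    have hX₂Y₁ : X₂ ≠ Y₁ := by
      intro e
      have h1 : (X₂ : G → ℂ) 1 = (Y₁ : G → ℂ) 1 := by rw [e]
      rw [hY₁v, hf1, one_mul] at h1
      exact hd h1.symm
    rw [e2]
    nth_rewrite 1 [e1]
    rw [s3tw_expand, s3tw_orth, s3tw_orth, s3tw_orth, s3tw_orth, s3tw_orth, s3tw_orth, s3tw_orth,
      s3tw_orth, s3tw_orth, if_neg hTF, if_neg hTY₁, if_neg hTY₂, if_neg hX₁F, if_neg hX₁Y₂,
      if_neg hX₂F, if_neg hX₂Y₁]
    ring
  rw [hI1] at hI2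
  have hne₁ : X₁ ≠ Y₁ := by
    intro e
    rw [if_pos e] at hI2
    by_cases e2 : X₂ = Y₂
    · rw [if_pos e2] at hI2; norm_num at hI2
    · rw [if_neg e2] at hI2; norm_num at hI2
  have hne₂ : X₂ ≠ Y₂ := by
    intro e
    rw [if_pos e, if_neg hne₁] at hI2
    norm_num at hI2
  refine ⟨fun e => hne₁ (Subtype.ext ?_), fun e => hne₂ (Subtype.ext ?_)⟩
  · rw [← e]; funext g; exact (hY₁v g).symm
  · rw [← e]; funext g; exact (hY₂v g).symm

end Cfsg.Agent.Helper66
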