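import Mathlib
import Cfsg.Agent.S1350
import Cfsg.Agent.Helper23.Trans
import Cfsg.Agent.Helper23.FittingHall
import Cfsg.Agent.Helper22.Transitivity

/-!
# CALL BG36 (helper2; S1436), piece KE2 (helper66): `bg36_coprime_US`.
-/

set_option autoImplicit false

namespace Cfsg.Agent.Helper66

open Cfsg Subgroup

universe u

variable {G : Type u} [Group G] [Finite G]

/-- PIECE KE2: `U N_σ` has order `|N : K|`, prime to `κ(N)`. -/
theorem bg36_coprime_US (hG : IsMinSimpleOddOrder G) {N K U : Subgroup G} (hN : IsCoatom N)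
    (hKU : IsSigmaDecomposition N K U) {y : G} (hy : y ∈ U ⊔ sigmaCore N) {s : ℕ}
    (hs : s.Prime) (hsy : s ∣ orderOf y) : s ∉ kappa N := by
  intro hκ
  have hsσ : s ∉ sigma N := hκ.2.2.1
  obtain ⟨hUN, hKσN, -, -⟩ := hKU.compl
  obtain ⟨hKN, -, hrel⟩ := hKU.hall
  have hUn : U ≤ normalizer (sigmaCore N : Set G) :=
    hUN.trans (Cfsg.Agent.Helper23.le_normalizer_piCoreOf (sigma N) N)
  have h1 : Nat.card ↥(U ⊔ sigmaCore N) ∣ Nat.card U * Nat.card (sigmaCore N) :=
    Cfsg.Agent.Helper22.card_sup_dvd_of_le_normalizer hUn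
  have h2 : orderOf y ∣ Nat.card ↥(U ⊔ sigmaCore N) := Subgroup.orderOf_dvd_natCard _ hy
  have h3 : s ∣ Nat.card U * Nat.card (sigmaCore N) := (hsy.trans h2).trans h1
  rcases (Nat.Prime.dvd_mul hs).mp h3 with h | h
  · -- `|U|` divides the index of `K` in `N`
    have hcard := Cfsg.Agent.Helper23.card_of_isComplIn _ _ _ hKU.compl
    obtain ⟨t, ht⟩ : Nat.card K ∣ Nat.card ↥(K ⊔ sigmaCore N) :=
      Subgroup.card_dvd_of_le le_sup_left
    have hrc : Nat.card K * K.relIndex N = Nat.card ↥N := by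
      have h4 := Subgroup.relIndex_mul_relIndex (H := (⊥ : Subgroup G)) (K := K) (L := N)
        bot_le hKN
      rw [Subgroup.relIndex_bot_left, Subgroup.relIndex_bot_left] at h4
      exact h4
    have hpos : 0 < Nat.card K := Nat.card_pos
    have h5 : K.relIndex N = Nat.card U * t := by
      have h6 : Nat.card K * K.relIndex N = Nat.card K * (Nat.card U * t) := by
        rw [hrc, hcard, ht]
        ring
      exact Nat.eq_of_mul_eq_mul_left hpos h6
    exact hrel s hs hκ (by rw [h5]; exact Dvd.dvd.mul_right h t)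
  · exact hsσ (Cfsg.Agent.Helper23.mem_of_dvd_card_piCoreOf (sigma N) N hs h)

end Cfsg.Agent.Helper66
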