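import Mathlib
import Cfsg.Agent.Helper9.OrdTools
import Cfsg.Agent.Helper9.OrdCount
import Cfsg.Agent.Helper52.U7920Defs

/-!
# CALL S0435, piece P2d2 (helper66): too many conjugates of the involution `z`

If `z` has a centraliser of order `144` (so `55` conjugates), normalises `19` Sylow `3`-subgroups
and inverts those different from `R`, then the `18 · 8 = 144` elements `s * z` (`s ≠ 1` in such
a Sylow subgroup) are distinct conjugates of `z`: contradiction.
-/

set_option autoImplicit false

namespace Cfsg.Agent.Helper66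

open Cfsg.Agent.Helper52

variable {G : Type*} [Group G] [Finite G]

-- PIECE P2d2
theorem u7920_conj_count (h : U7920Hyp G)
    (hTI : ∀ S S' : Sylow 3 G, S ≠ S' → (S : Subgroup G) ⊓ (S' : Subgroup G) = ⊥)
    (R : Sylow 3 G) (z : G) (hz : orderOf z = 2)
    (hC144 : Nat.card ↥(Subgroup.centralizer ({z} : Set G)) = 144)
    (hfix : Nat.card {S : Sylow 3 G //
      z ∈ Subgroup.normalizer ((S : Subgroup G) : Set G)} = 19)
    (hinv : ∀ S : Sylow 3 G, z ∈ Subgroup.normalizer ((S : Subgroup G) : Set G) → S ≠ R →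
      ∀ s ∈ (S : Subgroup G), z * s * z⁻¹ = s⁻¹) : False := by
  classical
  -- the class of `z` has `55` elements
  have hcl : (MulAction.orbit (ConjAct G) z).ncard = 55 := by
    have h1 := MulAction.index_stabilizer (ConjAct G) z
    have h2 := (MulAction.stabilizer (ConjAct G) z).card_mul_index
    rw [← Subgroup.nat_card_centralizer_nat_card_stabilizer, hC144] at h2
    have h3 : Nat.card (ConjAct G) = 7920 := h.card
    rw [h3, h1] at h2
    omega
  -- at least `18` Sylow subgroups different from `R` are normalised by `z`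
  have hX : 18 ≤ Nat.card {S : Sylow 3 G //
      z ∈ Subgroup.normalizer ((S : Subgroup G) : Set G) ∧ S ≠ R} := by
    let f : {S : Sylow 3 G // z ∈ Subgroup.normalizer ((S : Subgroup G) : Set G)} →
        Option {S : Sylow 3 G // z ∈ Subgroup.normalizer ((S : Subgroup G) : Set G) ∧ S ≠ R} :=
      fun S => if hS : S.1 = R then none else some ⟨S.1, S.2, hS⟩
    have hf : Function.Injective f := by
      intro S S' hSS
      by_cases h1 : S.1 = R
      · by_cases h2 : S'.1 = R
        · exact Subtype.ext (h1.trans h2.symm)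
        · simp [f, h1, h2] at hSS
      · by_cases h2 : S'.1 = R
        · simp [f, h1, h2] at hSS
        · simp [f, h1, h2] at hSS
          exact Subtype.ext hSS
    have h1 := Nat.card_le_card_of_injective f hf
    rw [hfix, Finite.card_option] at h1
    omega
  -- the elements `s * z` are conjugate to `z`
  have hconj : ∀ S : Sylow 3 G, z ∈ Subgroup.normalizer ((S : Subgroup G) : Set G) → S ≠ R →
      ∀ s ∈ (S : Subgroup G), s * z ∈ MulAction.orbit (ConjAct G) z := by
    intro S hS hSR s hs
    rw [ConjAct.mem_orbit_conjAct, isConj_iff]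
    have hu : s ^ 5 ∈ (S : Subgroup G) := Subgroup.pow_mem _ hs 5
    have h1 := hinv S hS hSR (s ^ 5) hu
    have h3 : z * s ^ 5 = (s ^ 5)⁻¹ * z := by
      rw [← h1]
      group
    have h9 : s ^ 9 = 1 := by
      have h4 := orderOf_dvd_natCard (⟨s, hs⟩ : ↥(S : Subgroup G))
      rw [(h.syl3 S).1, Subgroup.orderOf_mk] at h4
      exact orderOf_dvd_iff_pow_eq_one.mp h4
    refine ⟨(s ^ 5)⁻¹, ?_⟩
    rw [inv_inv]
    calc (s ^ 5)⁻¹ * (s * z) * s ^ 5 = (s ^ 5)⁻¹ * s * (z * s ^ 5) := by group
      _ = (s ^ 5)⁻¹ * s * ((s ^ 5)⁻¹ * z) := by rw [h3]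
      _ = (s ^ 9)⁻¹ * z := by group
      _ = z := by rw [h9, inv_one, one_mul]
  -- enumerations of the non-identity elements of the Sylow subgroups
  have h8 : ∀ S : Sylow 3 G, Nat.card {s : ↥(S : Subgroup G) // s ≠ 1} = 8 := by
    intro S
    rw [Cfsg.Agent.Helper9.OrdTools.card_ne_one_eq, (h.syl3 S).1]
  let e : ∀ S : Sylow 3 G, {s : ↥(S : Subgroup G) // s ≠ 1} ≃ Fin 8 :=
    fun S => Finite.equivFinOfCardEq (h8 S)
  let φ : {S : Sylow 3 G // z ∈ Subgroup.normalizer ((S : Subgroup G) : Set G) ∧ S ≠ R} × Fin 8 →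
      ↥(MulAction.orbit (ConjAct G) z) :=
    fun p => ⟨(((e p.1.1).symm p.2).1 : G) * z,
      hconj p.1.1 p.1.2.1 p.1.2.2 _ ((e p.1.1).symm p.2).1.2⟩
  have hφ : Function.Injective φ := by
    rintro ⟨⟨S, hS⟩, k⟩ ⟨⟨S', hS'⟩, k'⟩ hpp
    have h1 : (((e S).symm k).1 : G) * z = (((e S').symm k').1 : G) * z :=
      congrArg Subtype.val hpp
    have h2 : (((e S).symm k).1 : G) = (((e S').symm k').1 : G) := mul_right_cancel h1
    have hSS : S = S' := by
      by_contra hne
      have hb := hTI S S' hne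
      have hm : (((e S).symm k).1 : G) ∈ (S : Subgroup G) ⊓ (S' : Subgroup G) :=
        ⟨((e S).symm k).1.2, by rw [h2]; exact ((e S').symm k').1.2⟩
      rw [hb, Subgroup.mem_bot] at hm
      exact ((e S).symm k).2 (Subtype.ext hm)
    subst hSS
    have h3 : (e S).symm k = (e S).symm k' := Subtype.ext (Subtype.ext h2)
    have h4 : k = k' := (e S).symm.injective h3
    rw [h4]
  have hle := Nat.card_le_card_of_injective φ hφ
  rw [Nat.card_prod, Nat.card_fin, Nat.card_coe_set_eq, hcl] at hle
  omega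

end Cfsg.Agent.Helper66
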