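import Mathlib
import Cfsg.Agent.Helper96.OHDefs
import Cfsg.Agent.Helper13.WittQuad
import Cfsg.Agent.Helper43.OrthEven

set_option autoImplicit false
set_option linter.unusedSectionVars false
set_option linter.unusedVariables false

/-!
# CALL S5992 (helper96), piece OTRANSFIX (helper66)

`o_trans_fix`, statement verbatim from `tools/calls/OHSkel.lean.txt`: two hyperbolic nondegenerate
subspaces `W, W' ≤ K` of the same dimension are mapped to each other by an isometry of `Q` fixing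
the perp of `K` pointwise.  Both are isometric to the standard plus-type space
(`Helper43.exists_plus_of_hasTS`); the isometry `W → W'`, extended by the identity on `K^⊥`, extends
to the whole space by Witt's theorem (`Helper13.witt_quad`).
-/

namespace Cfsg.Agent.Helper66.OH5992

open Module Polynomial Cfsg Cfsg.Geo
open Cfsg.Agent.Helper13.TIu Cfsg.Agent.Helper96.OH

variable {ι : Type} [Fintype ι] [DecidableEq ι] {F : Type*} [Field F] (Q : (ι → F) → F)

/-- two nondegenerate plus-type subspaces of the same positive dimension are isometric -/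
theorem otransfix_iso [Fintype F] (hQ : IsNondegenerateQuadraticForm Q)
    (W W' : Submodule F (ι → F)) (hW : ONd Q W) (hW' : ONd Q W')
    (hdim : finrank F W = finrank F W') (hpl : OPl Q W) (hpl' : OPl Q W')
    (hpos : 0 < finrank F W) :
    ∃ φ : W ≃ₗ[F] W', ∀ w : W, Q ((φ w : W') : ι → F) = Q (w : ι → F) := by
  obtain ⟨U, hUW, hUts, hUd⟩ := id hpl
  have hd : finrank F W = 2 * finrank F U := hUd.symm
  have hd' : finrank F W' = 2 * finrank F U := by rw [← hdim]; exact hd
  have hm : 1 ≤ finrank F U := by omega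
  have hTS := (Cfsg.Agent.Helper33.OType.plus_iff_hasTS Q hQ W hW hd).1 hpl
  have hTS' := (Cfsg.Agent.Helper33.OType.plus_iff_hasTS Q hQ W' hW' hd').1 hpl'
  obtain ⟨Ψ, hΨ⟩ := Cfsg.Agent.Helper43.OrthEven.exists_plus_of_hasTS hm hd
    (Cfsg.Agent.Helper33.OType.restr Q hQ W)
    (Cfsg.Agent.Helper33.OType.polarNondeg_restr Q hQ W hW) hTS
  obtain ⟨Ψ', hΨ'⟩ := Cfsg.Agent.Helper43.OrthEven.exists_plus_of_hasTS hm hd'
    (Cfsg.Agent.Helper33.OType.restr Q hQ W')
    (Cfsg.Agent.Helper33.OType.polarNondeg_restr Q hQ W' hW') hTS'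
  refine ⟨Ψ.symm.trans Ψ', fun w => ?_⟩
  have h1 := hΨ' (Ψ.symm w)
  have h2 := hΨ (Ψ.symm w)
  rw [LinearEquiv.apply_symm_apply] at h2
  rw [Cfsg.Agent.Helper33.OType.restr_apply] at h1 h2
  rw [LinearEquiv.trans_apply, h1, ← h2]

/-- OTRANSFIX: two hyperbolic nondegenerate subspaces `W, W' ≤ K` of the same dimension are mapped to
each other by an isometry fixing the perp of `K` pointwise. -/
theorem o_trans_fix [Fintype F] (hQ : IsNondegenerateQuadraticForm Q)
    (K W W' : Submodule F (ι → F)) (hK : ONd Q K) (hW : ONd Q W) (hW' : ONd Q W') (hWK : W ≤ K)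
    (hW'K : W' ≤ K) (hdim : finrank F W = finrank F W') (hpl : OPl Q W) (hpl' : OPl Q W') :
    ∃ g : Module.End F (ι → F), OPres Q g ∧ Function.Bijective g ∧ W.map g = W' ∧
      ∀ v, (∀ u ∈ K, QuadraticMap.polar Q u v = 0) → g v = v := by
  classical
  rcases Nat.eq_zero_or_pos (finrank F W) with h0 | hpos
  · -- dimension zero
    have hWb : W = ⊥ := Submodule.finrank_eq_zero.1 h0
    have hW'b : W' = ⊥ := Submodule.finrank_eq_zero.1 (by rw [← hdim]; exact h0)
    refine ⟨1, opres_one Q, Function.bijective_id, ?_, fun v _ => rfl⟩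
    rw [hWb, hW'b, Submodule.map_bot]
  · obtain ⟨φ, hφ⟩ := otransfix_iso Q hQ W W' hW hW' hdim hpl hpl' hpos
    have hb := hQ.polar_bilinear
    -- the perp of `K`
    obtain ⟨P, hP⟩ : ∃ P : Submodule F (ι → F),
        ∀ v, v ∈ P ↔ ∀ u ∈ K, QuadraticMap.polar Q u v = 0 := by
      refine ⟨{ carrier := {v | ∀ u ∈ K, QuadraticMap.polar Q u v = 0}
                add_mem' := ?_, zero_mem' := ?_, smul_mem' := ?_ }, fun v => Iff.rfl⟩
      · intro a b ha hb' u hu
        have h1 := QuadraticMap.polar_add_right (Cfsg.Agent.Helper98.op_qf Q hQ) u a b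
        rw [Cfsg.Agent.Helper98.op_qf_coe] at h1
        rw [h1, ha u hu, hb' u hu, add_zero]
      · intro u hu
        have h1 := QuadraticMap.polar_zero_right (Cfsg.Agent.Helper98.op_qf Q hQ) u
        rw [Cfsg.Agent.Helper98.op_qf_coe] at h1
        exact h1
      · intro c a ha u hu
        have h1 := QuadraticMap.polar_smul_right (Cfsg.Agent.Helper98.op_qf Q hQ) c u a
        rw [Cfsg.Agent.Helper98.op_qf_coe] at h1
        rw [h1, ha u hu, smul_zero]
    -- `W ⊓ P = ⊥`, `W' ⊓ P = ⊥`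
    have hdisj : ∀ (Z : Submodule F (ι → F)), ONd Q Z → Z ≤ K → ∀ x, x ∈ Z → x ∈ P → x = 0 := by
      intro Z hZ hZK x hxZ hxP
      by_contra hne
      obtain ⟨⟨y, hy, hyx⟩, -⟩ := hZ x hxZ hne
      exact hyx ((hP x).1 hxP y (hZK hy))
    -- the two parametrisations
    obtain ⟨E, hE⟩ : ∃ E : (W × P) →ₗ[F] (ι → F), ∀ x,
        E x = (x.1 : ι → F) + (x.2 : ι → F) :=
      ⟨LinearMap.coprod W.subtype P.subtype, fun x => by simp [LinearMap.coprod_apply]⟩
    obtain ⟨T, hT⟩ : ∃ T : (W × P) →ₗ[F] (ι → F), ∀ x,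
        T x = ((φ x.1 : W') : ι → F) + (x.2 : ι → F) :=
      ⟨LinearMap.coprod (W'.subtype ∘ₗ (φ : W →ₗ[F] W')) P.subtype, fun x => by
        simp [LinearMap.coprod_apply]⟩
    have hEinj : Function.Injective E := by
      rw [← LinearMap.ker_eq_bot, eq_bot_iff]
      rintro ⟨w, p⟩ hx
      rw [LinearMap.mem_ker, hE] at hx
      simp only at hx
      have hwP : (w : ι → F) ∈ P := by
        have h1 : (w : ι → F) = -(p : ι → F) := eq_neg_of_add_eq_zero_left hx
        rw [h1]
        exact P.neg_mem p.2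
      have hw0 : (w : ι → F) = 0 := hdisj W hW hWK _ w.2 hwP
      rw [hw0, zero_add] at hx
      rw [Submodule.mem_bot]
      exact Prod.ext (Subtype.ext hw0) (Subtype.ext hx)
    obtain ⟨L, hL⟩ := LinearMap.exists_leftInverse_of_injective E (LinearMap.ker_eq_bot.2 hEinj)
    have hLE : ∀ x, L (E x) = x := fun x => by
      have := congrArg (fun h => h x) hL
      simpa using this
    obtain ⟨f, hf⟩ : ∃ f : (ι → F) →ₗ[F] (ι → F), ∀ x, f (E x) = T x :=
      ⟨T ∘ₗ L, fun x => by rw [LinearMap.comp_apply, hLE]⟩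
    -- `f` is an injective isometry on `W ⊔ P`
    have hmemX : ∀ x ∈ W ⊔ P, ∃ y : W × P, E y = x := by
      intro x hx
      obtain ⟨w, hw, p, hp, rfl⟩ := Submodule.mem_sup.1 hx
      exact ⟨(⟨w, hw⟩, ⟨p, hp⟩), by rw [hE]⟩
    have hiso : ∀ x ∈ W ⊔ P, (Cfsg.Agent.Helper98.op_qf Q hQ) (f x) =
        (Cfsg.Agent.Helper98.op_qf Q hQ) x := by
      intro x hx
      obtain ⟨⟨w, p⟩, rfl⟩ := hmemX x hx
      rw [hf, hT, hE]
      show Q (((φ w : W') : ι → F) + (p : ι → F)) = Q ((w : ι → F) + (p : ι → F))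
      rw [q_add Q, q_add Q, hφ, (hP p).1 p.2 _ (hW'K (φ w).2), (hP p).1 p.2 _ (hWK w.2)]
    have hinj : ∀ x ∈ W ⊔ P, f x = 0 → x = 0 := by
      intro x hx hfx
      obtain ⟨⟨w, p⟩, rfl⟩ := hmemX x hx
      rw [hf, hT] at hfx
      simp only at hfx
      have hφP : ((φ w : W') : ι → F) ∈ P := by
        have h1 : ((φ w : W') : ι → F) = -(p : ι → F) := eq_neg_of_add_eq_zero_left hfx
        rw [h1]
        exact P.neg_mem p.2
      have hφ0 : ((φ w : W') : ι → F) = 0 := hdisj W' hW' hW'K _ (φ w).2 hφP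
      rw [hφ0, zero_add] at hfx
      have hw0 : w = 0 := by
        have h2 : φ w = 0 := Subtype.ext hφ0
        exact φ.map_eq_zero_iff.1 h2
      rw [hE]
      simp only
      rw [hw0, hfx]
      simp
    obtain ⟨g, hg, hgf⟩ := Cfsg.Agent.Helper13.witt_quad (Cfsg.Agent.Helper98.op_qf Q hQ)
      (Cfsg.Agent.Helper98.op_qf_nondeg Q hQ) (W ⊔ P) f hiso hinj
    have hgW : ∀ w : W, g (w : ι → F) = ((φ w : W') : ι → F) := by
      intro w
      rw [hgf _ (Submodule.mem_sup_left w.2)]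
      have h1 : E (w, 0) = (w : ι → F) := by rw [hE]; simp
      rw [← h1, hf, hT]
      simp
    have hgP : ∀ p ∈ P, g p = p := by
      intro p hp
      rw [hgf _ (Submodule.mem_sup_right hp)]
      have h1 : E (0, ⟨p, hp⟩) = p := by rw [hE]; simp
      have h2 := hf (0, ⟨p, hp⟩)
      rw [h1, hT] at h2
      simpa using h2
    refine ⟨(g : (ι → F) →ₗ[F] (ι → F)), fun v => hg v, g.bijective, ?_, ?_⟩
    · apply le_antisymm
      · rintro _ ⟨w, hw, rfl⟩
        have h1 := hgW ⟨w, hw⟩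
        simp only at h1
        show g w ∈ W'
        rw [h1]
        exact (φ ⟨w, hw⟩).2
      · intro w' hw'
        refine ⟨(φ.symm ⟨w', hw'⟩ : W), (φ.symm ⟨w', hw'⟩).2, ?_⟩
        show g ((φ.symm ⟨w', hw'⟩ : W) : ι → F) = w'
        rw [hgW, LinearEquiv.apply_symm_apply]
    · intro v hv
      exact hgP v ((hP v).2 hv)

end Cfsg.Agent.Helper66.OH5992
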