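import Mathlib

/-!
# Piece GA1 of CALL S2358 (helper66): cyclic Sylow subgroups from a count inside a subgroup
containing a Sylow subgroup
-/

set_option autoImplicit false

namespace Cfsg.Agent.Helper66

theorem sylow_isCyclic_of_card_pow_le {G : Type*} [Group G] [Finite G] {p : ℕ} [Fact p.Prime]
    (D : Subgroup G) (hD : (Nat.card D).factorization p = (Nat.card G).factorization p)
    (hcnt : ∀ k : ℕ, Nat.card {x : G // x ∈ D ∧ x ^ p ^ k = 1} ≤ p ^ k) (P : Sylow p G) :
    IsCyclic (P : Subgroup G) := by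
  classical
  have hp : p.Prime := Fact.out
  obtain ⟨Q⟩ : Nonempty (Sylow p D) := inferInstance
  have hQcard : Nat.card (Q : Subgroup D) = p ^ (Nat.card D).factorization p :=
    Sylow.card_eq_multiplicity Q
  have hmapcard : Nat.card ((Q : Subgroup D).map D.subtype)
      = p ^ (Nat.card G).factorization p := by
    rw [Nat.card_congr ((Q : Subgroup D).equivMapOfInjective D.subtype
      D.subtype_injective).symm.toEquiv, hQcard, hD]
  obtain ⟨Q', hQ'⟩ : ∃ Q' : Sylow p G, (Q' : Subgroup G) = (Q : Subgroup D).map D.subtype :=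
    ⟨Sylow.ofCard ((Q : Subgroup D).map D.subtype) hmapcard, rfl⟩
  have hQ'D : (Q' : Subgroup G) ≤ D := by
    intro y hy
    rw [hQ'] at hy
    obtain ⟨z, -, rfl⟩ := Subgroup.mem_map.mp hy
    exact z.2
  have hQ'card : Nat.card (Q' : Subgroup G) = p ^ (Nat.card G).factorization p := by
    rw [hQ']; exact hmapcard
  have hcyc : IsCyclic (Q' : Subgroup G) := by
    haveI : Fintype (Q' : Subgroup G) := Fintype.ofFinite _
    apply isCyclic_of_card_pow_eq_one_le
    intro n hn
    obtain ⟨k, -, hgcd⟩ : ∃ k, k ≤ (Nat.card G).factorization p ∧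
        Nat.gcd n (p ^ (Nat.card G).factorization p) = p ^ k :=
      (Nat.dvd_prime_pow hp).mp (Nat.gcd_dvd_right n _)
    have hle : p ^ k ≤ n := by rw [← hgcd]; exact Nat.gcd_le_left _ hn
    have h0 : (Finset.univ.filter (fun a : (Q' : Subgroup G) => a ^ n = 1)).card
        = Nat.card {a : (Q' : Subgroup G) // a ^ n = 1} := by
      rw [Nat.card_eq_fintype_card, Fintype.card_subtype]
    have hpow : ∀ a : {a : (Q' : Subgroup G) // a ^ n = 1}, ((a.1 : (Q' : Subgroup G)) : G) ^ p ^ k = 1 := by
      intro a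
      have h1 : ((a.1 : (Q' : Subgroup G)) : G) ^ n = 1 := by
        have := congrArg Subtype.val a.2
        simpa using this
      have h2 : ((a.1 : (Q' : Subgroup G)) : G) ^ (p ^ (Nat.card G).factorization p) = 1 := by
        have h3 : (a.1 : (Q' : Subgroup G)) ^ Nat.card (Q' : Subgroup G) = 1 := pow_card_eq_one'
        rw [hQ'card] at h3
        have := congrArg Subtype.val h3
        simpa using this
      have h4 : orderOf ((a.1 : (Q' : Subgroup G)) : G) ∣ p ^ k := by
        rw [← hgcd]
        exact Nat.dvd_gcd (orderOf_dvd_of_pow_eq_one h1) (orderOf_dvd_of_pow_eq_one h2)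
      exact orderOf_dvd_iff_pow_eq_one.mp h4
    have h1 : Nat.card {a : (Q' : Subgroup G) // a ^ n = 1}
        ≤ Nat.card {x : G // x ∈ D ∧ x ^ p ^ k = 1} := by
      apply Nat.card_le_card_of_injective
        (fun a => (⟨((a.1 : (Q' : Subgroup G)) : G), hQ'D a.1.2, hpow a⟩ :
          {x : G // x ∈ D ∧ x ^ p ^ k = 1}))
      intro a b hab
      have h2 : ((a.1 : (Q' : Subgroup G)) : G) = ((b.1 : (Q' : Subgroup G)) : G) := by
        have := congrArg (fun s : {x : G // x ∈ D ∧ x ^ p ^ k = 1} => (s : G)) hab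
        exact this
      exact Subtype.ext (Subtype.ext h2)
    rw [h0]
    exact le_trans h1 (le_trans (hcnt k) hle)
  exact isCyclic_of_surjective (Sylow.equiv Q' P).toMonoidHom (Sylow.equiv Q' P).surjective

end Cfsg.Agent.Helper66
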