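import Mathlib
import Cfsg.Agent.Helper39.Ree2359Y

/-!
# Piece GA2 of CALL S2358 (helper66): abelian subgroups of order `d` are conjugate when a subgroup
`D` containing a Sylow `p`-subgroup (`p ∣ d`) has at most `d` elements of order dividing `d` and
contains the centralizers of these elements
-/

set_option autoImplicit false

namespace Cfsg.Agent.Helper66

/-- An abelian subgroup of order `d` is conjugate onto the set `{x ∈ D | x ^ d = 1}`. -/
theorem conj_onto_of_selfcent {G : Type*} [Group G] [Finite G] (D : Subgroup G) {d p : ℕ}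
    [Fact p.Prime] (hpd : p ∣ d)
    (hSyl : (Nat.card D).factorization p = (Nat.card G).factorization p)
    (hD : ∀ y ∈ D, y ≠ 1 → y ^ d = 1 → ∀ c : G, c * y = y * c → c ∈ D)
    (hcnt : Nat.card {x : G // x ∈ D ∧ x ^ d = 1} ≤ d)
    (A : Subgroup G) (hA : ∀ x ∈ A, ∀ y ∈ A, x * y = y * x) (hAd : Nat.card A = d) :
    ∃ g : G, ∀ z : G, z ∈ A ↔ (g * z * g⁻¹ ∈ D ∧ (g * z * g⁻¹) ^ d = 1) := by
  classical
  have hp : p.Prime := Fact.out
  obtain ⟨x, hx⟩ := exists_prime_orderOf_dvd_card' (G := A) p (by rw [hAd]; exact hpd)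
  have hxG : orderOf (x : G) = p := by rw [Subgroup.orderOf_coe]; exact hx
  have hx1 : (x : G) ≠ 1 := by
    intro h
    rw [h, orderOf_one] at hxG
    exact hp.one_lt.ne hxG
  have hApow : ∀ a ∈ A, a ^ d = 1 := by
    intro a ha
    have h3 : (⟨a, ha⟩ : A) ^ Nat.card A = 1 := pow_card_eq_one'
    rw [hAd] at h3
    have := congrArg Subtype.val h3
    simpa using this
  obtain ⟨g, hg⟩ := Cfsg.Agent.Helper39.exists_conj_mem_of_factorization_eq D hSyl (x : G) 1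
    (by rw [pow_one, ← hxG]; exact pow_orderOf_eq_one _)
  have hy1 : g * (x : G) * g⁻¹ ≠ 1 := by
    intro h
    apply hx1
    calc (x : G) = g⁻¹ * (g * (x : G) * g⁻¹) * g := by group
      _ = 1 := by rw [h]; group
  have hyd : (g * (x : G) * g⁻¹) ^ d = 1 := by
    rw [conj_pow, hApow _ x.2]; group
  have hmem : ∀ a ∈ A, g * a * g⁻¹ ∈ D ∧ (g * a * g⁻¹) ^ d = 1 := by
    intro a ha
    refine ⟨hD _ hg hy1 hyd _ ?_, ?_⟩
    · have h1 := hA a ha x x.2
      calc g * a * g⁻¹ * (g * (x : G) * g⁻¹) = g * (a * (x : G)) * g⁻¹ := by group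
        _ = g * ((x : G) * a) * g⁻¹ := by rw [h1]
        _ = g * (x : G) * g⁻¹ * (g * a * g⁻¹) := by group
    · rw [conj_pow, hApow a ha]; group
  have hinj : Function.Injective
      (fun a : A => (⟨g * (a : G) * g⁻¹, hmem a a.2⟩ : {x : G // x ∈ D ∧ x ^ d = 1})) := by
    intro a b hab
    have h1 : g * (a : G) * g⁻¹ = g * (b : G) * g⁻¹ := congrArg Subtype.val hab
    apply Subtype.ext
    calc (a : G) = g⁻¹ * (g * (a : G) * g⁻¹) * g := by group
      _ = g⁻¹ * (g * (b : G) * g⁻¹) * g := by rw [h1]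
      _ = (b : G) := by group
  have hbij := hinj.bijective_of_nat_card_le (by rw [hAd]; exact hcnt)
  refine ⟨g, fun z => ⟨fun hz => hmem z hz, fun hz => ?_⟩⟩
  obtain ⟨a, ha⟩ := hbij.2 ⟨g * z * g⁻¹, hz⟩
  have h1 : g * (a : G) * g⁻¹ = g * z * g⁻¹ := congrArg Subtype.val ha
  have h2 : z = (a : G) := by
    calc z = g⁻¹ * (g * z * g⁻¹) * g := by group
      _ = g⁻¹ * (g * (a : G) * g⁻¹) * g := by rw [h1]
      _ = (a : G) := by group
  rw [h2]; exact a.2

theorem conj_of_card_eq_of_selfcent {G : Type*} [Group G] [Finite G] (D : Subgroup G) {d p : ℕ}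
    [Fact p.Prime] (hpd : p ∣ d)
    (hSyl : (Nat.card D).factorization p = (Nat.card G).factorization p)
    (hD : ∀ y ∈ D, y ≠ 1 → y ^ d = 1 → ∀ c : G, c * y = y * c → c ∈ D)
    (hcnt : Nat.card {x : G // x ∈ D ∧ x ^ d = 1} ≤ d)
    (A B : Subgroup G) (hA : ∀ x ∈ A, ∀ y ∈ A, x * y = y * x)
    (hB : ∀ x ∈ B, ∀ y ∈ B, x * y = y * x)
    (hAd : Nat.card A = d) (hBd : Nat.card B = d) :
    ∃ g : G, B = A.map (MulAut.conj g).toMonoidHom := by
  obtain ⟨g, hg⟩ := conj_onto_of_selfcent D hpd hSyl hD hcnt A hA hAd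
  obtain ⟨h, hh⟩ := conj_onto_of_selfcent D hpd hSyl hD hcnt B hB hBd
  refine ⟨h⁻¹ * g, ?_⟩
  ext z
  rw [Subgroup.mem_map]
  constructor
  · intro hz
    have h1 := (hh z).mp hz
    refine ⟨g⁻¹ * (h * z * h⁻¹) * g, ?_, ?_⟩
    · rw [hg]
      have e : g * (g⁻¹ * (h * z * h⁻¹) * g) * g⁻¹ = h * z * h⁻¹ := by group
      rw [e]; exact h1
    · show (h⁻¹ * g) * (g⁻¹ * (h * z * h⁻¹) * g) * (h⁻¹ * g)⁻¹ = z
      group
  · rintro ⟨a, ha, rfl⟩
    rw [hh]
    have h1 := (hg a).mp ha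
    have e : h * ((MulAut.conj (h⁻¹ * g)).toMonoidHom a) * h⁻¹ = g * a * g⁻¹ := by
      show h * ((h⁻¹ * g) * a * (h⁻¹ * g)⁻¹) * h⁻¹ = g * a * g⁻¹
      group
    rw [e]; exact h1

end Cfsg.Agent.Helper66
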