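import Mathlib.GroupTheory.Sylow
import Mathlib.GroupTheory.GroupAction.SubMulAction
import Mathlib.GroupTheory.GroupAction.Quotient
import Mathlib.Algebra.Group.Pointwise.Set.Card
import Mathlib.GroupTheory.SpecificGroups.Cyclic
import Mathlib.Data.Nat.ModEq

set_option autoImplicit false

namespace Cfsg.Agent.Helper66

open scoped Pointwise
open MulAction

/-- Elements of the stabilizer of a set `S` (under left translation) move `S` into itself. -/
theorem stabilizer_mul_mem {G : Type*} [Group G] (S : Set G) {h : G} (hh : h ∈ stabilizer G S)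
    {s : G} (hs : s ∈ S) : h * s ∈ S := by
  have h1 : h • S = S := hh
  have h2 : h • s ∈ h • S := Set.smul_mem_smul_set hs
  rw [h1] at h2
  exact h2

/-- The order of the stabilizer of a set under left translation divides the size of the set. -/
theorem card_stabilizer_dvd_ncard {G : Type*} [Group G] [Finite G] (S : Set G) :
    Nat.card (stabilizer G S) ∣ S.ncard := by
  let act : MulAction (stabilizer G S) S :=
    { smul := fun h s => ⟨h.1 * s.1, stabilizer_mul_mem S h.2 s.2⟩
      one_smul := fun s => Subtype.ext (one_mul _)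
      mul_smul := fun h k s => Subtype.ext (mul_assoc _ _ _) }
  have hfree : ∀ b : S, MulAction.stabilizer (stabilizer G S) b = ⊥ := by
    intro b
    rw [eq_bot_iff]
    intro h hh
    have h1 : h • b = b := hh
    have h2 : (h : G) * (b : G) = b := congrArg Subtype.val h1
    rw [Subgroup.mem_bot]
    exact Subtype.ext (mul_eq_right.mp h2)
  have e := MulAction.selfEquivOrbitsQuotientProd hfree
  have h3 : Nat.card S = Nat.card (Quotient (MulAction.orbitRel (stabilizer G S) S)) *
      Nat.card (stabilizer G S) := by
    rw [Nat.card_congr e, Nat.card_prod]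
  rw [← Nat.card_coe_set_eq, h3]
  exact dvd_mul_left _ _

/-- If the stabilizer of `S ∋ 1` has as many elements as `S`, then `S` is its stabilizer. -/
theorem coe_stabilizer_eq_of_card_eq {G : Type*} [Group G] [Finite G] (S : Set G)
    (h1 : (1 : G) ∈ S) (hc : Nat.card (stabilizer G S) = S.ncard) :
    ((stabilizer G S : Subgroup G) : Set G) = S := by
  refine Set.eq_of_subset_of_ncard_le ?_ ?_ (Set.toFinite S)
  · intro h hh
    have := stabilizer_mul_mem S hh h1
    rwa [mul_one] at this
  · rw [← hc, ← Nat.card_coe_set_eq]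
    exact le_of_eq rfl

/-- The stabilizer of a subgroup (as a set, under left translation) is the subgroup itself. -/
theorem stabilizer_coe_subgroup {G : Type*} [Group G] (H : Subgroup G) :
    stabilizer G (H : Set G) = H := by
  ext g
  rw [mem_stabilizer_iff]
  constructor
  · intro hg
    have h1 : g • (1 : G) ∈ g • (H : Set G) := Set.smul_mem_smul_set H.one_mem
    rw [hg, smul_eq_mul, mul_one] at h1
    exact h1
  · intro hg
    exact smul_coe_set hg

/-- Orbit-stabilizer with `Nat.card` and `Set.ncard`. -/
theorem card_stabilizer_mul_ncard_orbit {G X : Type*} [Group G] [MulAction G X] (x : X) :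
    Nat.card (stabilizer G x) * (orbit G x).ncard = Nat.card G := by
  rw [← index_stabilizer, Subgroup.card_mul_index]

/-- Counting a finite `G`-set modulo `k` when every orbit has size `m` or a multiple of `k`. -/
theorem card_modEq_of_orbits {G X : Type*} [Group G] [MulAction G X] [Finite X] (m k : ℕ)
    (h : ∀ x : X, (orbit G x).ncard = m ∨ k ∣ (orbit G x).ncard) :
    Nat.card X ≡ m * Nat.card {ω : orbitRel.Quotient G X // ω.orbit.ncard = m} [MOD k] := by
  classical
  have : Fintype (orbitRel.Quotient G X) := Fintype.ofFinite _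
  have h' : ∀ ω : orbitRel.Quotient G X, ω.orbit.ncard = m ∨ k ∣ ω.orbit.ncard := by
    intro ω
    induction ω using Quotient.inductionOn' with
    | h x => rw [orbitRel.Quotient.orbit_mk]; exact h x
  have hsum : Nat.card X = ∑ ω : orbitRel.Quotient G X, ω.orbit.ncard := by
    rw [Nat.card_congr (selfEquivSigmaOrbits' G X), Nat.card_sigma]
    rfl
  rw [hsum, ← Finset.sum_filter_add_sum_filter_not Finset.univ
    (fun ω : orbitRel.Quotient G X => ω.orbit.ncard = m)]
  have h1 : ∑ ω ∈ Finset.univ.filter (fun ω : orbitRel.Quotient G X => ω.orbit.ncard = m),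
      ω.orbit.ncard = m * Nat.card {ω : orbitRel.Quotient G X // ω.orbit.ncard = m} := by
    rw [Finset.sum_congr rfl (fun ω hω => (Finset.mem_filter.mp hω).2), Finset.sum_const,
      smul_eq_mul, mul_comm, Nat.card_eq_fintype_card, Fintype.card_subtype]
  have h2 : k ∣ ∑ ω ∈ Finset.univ.filter (fun ω : orbitRel.Quotient G X => ¬ ω.orbit.ncard = m),
      ω.orbit.ncard := by
    apply Finset.dvd_sum
    intro ω hω
    exact (h' ω).resolve_left (Finset.mem_filter.mp hω).2
  rw [h1]
  obtain ⟨c, hc⟩ := h2
  rw [hc]
  exact Nat.add_mul_mod_self_left _ _ _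

/-- The `G`-set of subsets of `G` with `k` elements, under left translation. -/
def subsetsOfCard (G : Type*) [Group G] (k : ℕ) : SubMulAction G (Set G) where
  carrier := {S | S.ncard = k}
  smul_mem' := fun g S hS => by
    show (g • S).ncard = k
    rw [Set.ncard_smul_set]
    exact hS

theorem subsetsOfCard_ncard {G : Type*} [Group G] {k : ℕ} (S : subsetsOfCard G k) :
    (S : Set G).ncard = k := S.2

/-- Orbits of size `m` on the subsets with `p ^ β` elements correspond to the subgroups of order
`p ^ β`, if `G` has order `p ^ β * m`. -/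
theorem card_orbits_eq_card_subgroups {G : Type*} [Group G] [Finite G] (q m : ℕ) (hq : 0 < q)
    (hG : Nat.card G = q * m) :
    Nat.card {ω : orbitRel.Quotient G (subsetsOfCard G q) // ω.orbit.ncard = m} =
      Nat.card {H : Subgroup G // Nat.card H = q} := by
  have hm : 0 < m := by
    rcases Nat.eq_zero_or_pos m with h | h
    · rw [h, mul_zero] at hG
      exact absurd hG Nat.card_pos.ne'
    · exact h
  symm
  -- the map
  let f : {H : Subgroup G // Nat.card H = q} →
      {ω : orbitRel.Quotient G (subsetsOfCard G q) // ω.orbit.ncard = m} := fun H =>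
    ⟨Quotient.mk'' (⟨(H.1 : Set G), by
        show ((H.1 : Set G)).ncard = q
        rw [← Nat.card_coe_set_eq]; exact H.2⟩ : subsetsOfCard G q), by
      rw [orbitRel.Quotient.orbit_mk]
      have h1 := card_stabilizer_mul_ncard_orbit (G := G)
        (⟨(H.1 : Set G), by
          show ((H.1 : Set G)).ncard = q
          rw [← Nat.card_coe_set_eq]; exact H.2⟩ : subsetsOfCard G q)
      rw [SubMulAction.stabilizer_of_subMul, stabilizer_coe_subgroup, H.2, hG] at h1
      exact Nat.eq_of_mul_eq_mul_left hq h1⟩
  refine Nat.card_congr (Equiv.ofBijective f ⟨?_, ?_⟩)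
  · -- injective
    rintro ⟨H, hH⟩ ⟨K, hK⟩ hHK
    have h1 := congrArg Subtype.val hHK
    have h2 : (⟨(K : Set G), _⟩ : subsetsOfCard G q) ∈ orbit G (⟨(H : Set G), _⟩ : subsetsOfCard G q) :=
      Quotient.exact' h1.symm
    obtain ⟨g, hg⟩ := h2
    have h3 : g • (H : Set G) = (K : Set G) := congrArg Subtype.val hg
    have h4 : g⁻¹ ∈ H := by
      have : (1 : G) ∈ g • (H : Set G) := by rw [h3]; exact K.one_mem
      rw [Set.mem_smul_set_iff_inv_smul_mem, smul_eq_mul, mul_one] at this
      exact this
    have h5 : g • (H : Set G) = (H : Set G) := smul_coe_set (by simpa using H.inv_mem h4)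
    rw [h5] at h3
    exact Subtype.ext (SetLike.coe_injective h3)
  · -- surjective
    rintro ⟨ω, hω⟩
    induction ω using Quotient.inductionOn' with
    | h S =>
      rw [orbitRel.Quotient.orbit_mk] at hω
      have hSne : (S : Set G).Nonempty := by
        rw [← Set.ncard_pos (Set.toFinite _), subsetsOfCard_ncard]
        exact hq
      obtain ⟨s, hs⟩ := hSne
      set S' : subsetsOfCard G q := s⁻¹ • S with hS'
      have h1S' : (1 : G) ∈ (S' : Set G) := by
        show (1 : G) ∈ s⁻¹ • (S : Set G)
        rw [Set.mem_smul_set_iff_inv_smul_mem, inv_inv, smul_eq_mul, mul_one]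
        exact hs
      have horb : orbit G S' = orbit G S := orbit_eq_iff.mpr ⟨s⁻¹, rfl⟩
      have hcard : Nat.card (stabilizer G (S' : Set G)) = q := by
        have h1 := card_stabilizer_mul_ncard_orbit (G := G) S'
        rw [SubMulAction.stabilizer_of_subMul, horb, hω, hG] at h1
        exact Nat.eq_of_mul_eq_mul_right hm h1
      have hcoe : ((stabilizer G (S' : Set G) : Subgroup G) : Set G) = (S' : Set G) :=
        coe_stabilizer_eq_of_card_eq _ h1S' (by rw [hcard, subsetsOfCard_ncard])
      refine ⟨⟨stabilizer G (S' : Set G), hcard⟩, ?_⟩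
      apply Subtype.ext
      show (Quotient.mk'' _ : orbitRel.Quotient G (subsetsOfCard G q)) = Quotient.mk'' S
      apply Quotient.sound'
      show _ ∈ orbit G S
      rw [← horb]
      have : (⟨((stabilizer G (S' : Set G) : Subgroup G) : Set G), by
          show (((stabilizer G (S' : Set G) : Subgroup G) : Set G)).ncard = q
          rw [← Nat.card_coe_set_eq]; exact hcard⟩ : subsetsOfCard G q) = S' :=
        Subtype.ext hcoe
      rw [this]
      exact mem_orbit_self _

/-- Wielandt's count: modulo `p * m`, the number of subsets with `p ^ β` elements of a group of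
order `p ^ β * m` is `m` times the number of subgroups of order `p ^ β`. -/
theorem card_subsetsOfCard_modEq {G : Type*} [Group G] [Finite G] (p β m : ℕ) (hp : p.Prime)
    (hG : Nat.card G = p ^ β * m) :
    Nat.card (subsetsOfCard G (p ^ β)) ≡
      m * Nat.card {H : Subgroup G // Nat.card H = p ^ β} [MOD p * m] := by
  have hq : 0 < p ^ β := pow_pos hp.pos β
  rw [← card_orbits_eq_card_subgroups (p ^ β) m hq hG]
  apply card_modEq_of_orbits
  intro S
  have h1 := card_stabilizer_mul_ncard_orbit (G := G) S
  rw [hG] at h1
  have h2 : Nat.card (stabilizer G S) ∣ p ^ β := by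
    rw [SubMulAction.stabilizer_of_subMul]
    have := card_stabilizer_dvd_ncard (S : Set G)
    rwa [subsetsOfCard_ncard] at this
  obtain ⟨j, hj, hj'⟩ := (Nat.dvd_prime_pow hp).mp h2
  rw [hj'] at h1
  have h3 : p ^ β = p ^ j * p ^ (β - j) := by rw [← pow_add]; congr 1; omega
  have h1' : p ^ j * (orbit G S).ncard = p ^ j * (p ^ (β - j) * m) := by
    rw [h1, ← mul_assoc, ← h3]
  have h4 : (orbit G S).ncard = p ^ (β - j) * m :=
    Nat.eq_of_mul_eq_mul_left (pow_pos hp.pos j) h1'
  rcases Nat.lt_or_ge j β with hlt | hge
  · right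
    rw [h4]
    exact Nat.mul_dvd_mul_right (dvd_pow_self p (by omega)) m
  · left
    have : β - j = 0 := by omega
    rw [h4, this, pow_zero, one_mul]

/-- The number of `k`-subsets only depends on the cardinality of the group. -/
theorem card_subsetsOfCard_congr {G C : Type*} [Group G] [Group C] (e : G ≃ C) (k : ℕ) :
    Nat.card (subsetsOfCard G k) = Nat.card (subsetsOfCard C k) := by
  refine Nat.card_congr (Equiv.subtypeEquiv (Equiv.Set.congr e) ?_)
  intro S
  show S.ncard = k ↔ (e '' S).ncard = k
  rw [Set.ncard_image_of_injective S e.injective]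

/-- In a finite cyclic group there is exactly one subgroup of each prime power order dividing the
order of the group. -/
theorem card_subgroups_of_isCyclic {C : Type*} [Group C] [Finite C] [IsCyclic C] (p β : ℕ)
    (hp : p.Prime) (hdiv : p ^ β ∣ Nat.card C) :
    Nat.card {H : Subgroup C // Nat.card H = p ^ β} = 1 := by
  classical
  have : Fintype C := Fintype.ofFinite C
  have : Fact p.Prime := ⟨hp⟩
  have hq : 0 < p ^ β := pow_pos hp.pos β
  rw [Nat.card_eq_one_iff_unique]
  constructor
  · constructor
    have key : ∀ H : Subgroup C, Nat.card H = p ^ β → (H : Set C) = {x : C | x ^ (p ^ β) = 1} := by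
      intro H hH
      refine Set.eq_of_subset_of_ncard_le ?_ ?_ (Set.toFinite _)
      · intro x hx
        have h1 : (⟨x, hx⟩ : H) ^ Nat.card H = 1 := pow_card_eq_one'
        rw [hH] at h1
        exact congrArg Subtype.val h1
      · have h1 := IsCyclic.card_pow_eq_one_le (α := C) hq
        have h2 : ({x : C | x ^ (p ^ β) = 1} : Set C) =
            ((Finset.univ.filter (fun a : C => a ^ (p ^ β) = 1) : Finset C) : Set C) := by
          ext x; simp
        rw [h2, Set.ncard_coe_finset, ← Nat.card_coe_set_eq]
        exact h1.trans (le_of_eq hH.symm)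
    rintro ⟨H, hH⟩ ⟨K, hK⟩
    apply Subtype.ext
    apply SetLike.coe_injective
    rw [key H hH, key K hK]
  · obtain ⟨K, hK⟩ := Sylow.exists_subgroup_card_pow_prime p hdiv
    exact ⟨⟨K, hK⟩⟩

/-- **Frobenius**: the number of subgroups of order `p ^ β` of a finite group whose order is
divisible by `p ^ β` is congruent to `1` modulo `p`. -/
theorem card_subgroups_prime_pow_modEq_one {G : Type*} [Group G] [Finite G] (p β : ℕ)
    (hp : p.Prime) (hdiv : p ^ β ∣ Nat.card G) :
    Nat.card {H : Subgroup G // Nat.card H = p ^ β} ≡ 1 [MOD p] := by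
  obtain ⟨m, hm⟩ := hdiv
  have hn : 0 < Nat.card G := Nat.card_pos
  have hm0 : m ≠ 0 := by
    rintro rfl
    rw [mul_zero] at hm
    omega
  have : NeZero (Nat.card G) := ⟨hn.ne'⟩
  -- the cyclic group of the same order
  have hC : Nat.card (Multiplicative (ZMod (Nat.card G))) = p ^ β * m := by
    rw [← hm]
    exact (Nat.card_congr Multiplicative.toAdd).trans (Nat.card_zmod _)
  have e : G ≃ Multiplicative (ZMod (Nat.card G)) :=
    (Finite.card_eq.mp (hm.trans hC.symm)).some
  have h1 := card_subsetsOfCard_modEq (G := G) p β m hp hm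
  have h2 := card_subsetsOfCard_modEq (G := Multiplicative (ZMod (Nat.card G))) p β m hp hC
  rw [card_subgroups_of_isCyclic p β hp (hC ▸ dvd_mul_right _ _),
    ← card_subsetsOfCard_congr e (p ^ β)] at h2
  have h3 := h1.symm.trans h2
  rw [mul_comm p m] at h3
  exact Nat.ModEq.mul_left_cancel' hm0 h3

end Cfsg.Agent.Helper66
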