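/-
CALL BG83 (helper25, row S1383), piece KNE (double by helper66): type-P data force `K ≠ 1`.
The argument is the first step of `Helper1.bg16c_forward`.
-/
import Cfsg.Statements.S1383
import Cfsg.Agent.Helper20.BG16cKAPN
import Cfsg.Agent.Helper49.BG16cRK1

set_option autoImplicit false

namespace Cfsg.Agent.Helper66

open Cfsg Subgroup

universe u

variable {G : Type u} [Group G] [Finite G]

/-- KNE. Type-P data force `K ≠ 1`. -/
theorem bg83_K_ne (hG : IsMinSimpleOddOrder G) {M K U W₁ U' W₂ : Subgroup G} (hM : IsCoatom M)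
    (hKU : IsSigmaDecomposition M K U) (hP : IsTypePWith M W₁ U' W₂) : K ≠ ⊥ := by
  classical
  have hW₁M : W₁ ≤ M := hP.W₁_compl.2.1
  have hcardW : Nat.card (W₁.subgroupOf M) = Nat.card W₁ :=
    Nat.card_congr (Subgroup.subgroupOfEquivOfLe hW₁M).toEquiv
  have hκ : (kappa M).Nonempty := by
    refine Cfsg.Agent.Helper20.bg16c_kappa_nonempty hG hM hP (fun r hr hrW => ?_)
    refine Cfsg.Agent.Helper49.bg16c_prank_one (W := W₁.subgroupOf M) ?_ ?_ hr ?_
    · haveI := hP.W₁_cyclic
      exact isCyclic_of_surjective (Subgroup.subgroupOfEquivOfLe hW₁M).symm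
        (Subgroup.subgroupOfEquivOfLe hW₁M).symm.surjective
    · rw [hcardW]
      exact hP.W₁_hall
    · rw [hcardW]
      exact hrW
  obtain ⟨r, hr⟩ := hκ
  intro hK
  have h1 := hKU.hall.2.2 r hr.1 hr
  rw [hK, Subgroup.relIndex_bot_left] at h1
  exact h1 hr.2.1

end Cfsg.Agent.Helper66
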