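import Mathlib
import Cfsg.Agent.Helper98.C2Defs

/-!
# Piece I2c of CALL S5634 (helper66): a function with no pattern `(x, x, y, y)` and no pattern with
three values on four points is constant off one point
-/

set_option autoImplicit false

namespace Cfsg.Agent.Helper66.C2I2c

open Matrix Cfsg.Agent.Helper98.C2
open scoped MatrixGroups

variable {K : Type*} [Field K]

theorem exists_four {ι : Type*} [DecidableEq ι] (S : Finset ι) (hS : 4 ≤ S.card) :
    ∃ a ∈ S, ∃ b ∈ S, ∃ c ∈ S, ∃ d ∈ S,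
      a ≠ b ∧ a ≠ c ∧ a ≠ d ∧ b ≠ c ∧ b ≠ d ∧ c ≠ d := by
  obtain ⟨a, ha⟩ : S.Nonempty := Finset.card_pos.mp (by omega)
  have h1 : 3 ≤ (S.erase a).card := by rw [Finset.card_erase_of_mem ha]; omega
  obtain ⟨b, hb⟩ : (S.erase a).Nonempty := Finset.card_pos.mp (by omega)
  have h2 : 2 ≤ ((S.erase a).erase b).card := by rw [Finset.card_erase_of_mem hb]; omega
  obtain ⟨c, hc⟩ : ((S.erase a).erase b).Nonempty := Finset.card_pos.mp (by omega)
  have h3 : 1 ≤ (((S.erase a).erase b).erase c).card := by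
    rw [Finset.card_erase_of_mem hc]; omega
  obtain ⟨d, hd⟩ : (((S.erase a).erase b).erase c).Nonempty := Finset.card_pos.mp (by omega)
  simp only [Finset.mem_erase] at hb hc hd
  exact ⟨a, ha, b, hb.2, c, hc.2.2, d, hd.2.2.2, hb.1.symm, hc.2.1.symm, hd.2.2.1.symm,
    hc.1.symm, hd.2.1.symm, hd.1.symm⟩

theorem pat_comb {ι : Type*} [DecidableEq ι] (S : Finset ι) (hS : 4 ≤ S.card) (φ : ι → K)
    (hA : ∀ a ∈ S, ∀ b ∈ S, ∀ c ∈ S, ∀ d ∈ S, a ≠ b → a ≠ c → a ≠ d → b ≠ c → b ≠ d → c ≠ d →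
      φ a = φ b → φ c = φ d → φ a = φ c)
    (hB : ∀ a ∈ S, ∀ b ∈ S, ∀ c ∈ S, ∀ d ∈ S, a ≠ b → a ≠ c → a ≠ d → b ≠ c → b ≠ d → c ≠ d →
      φ a ≠ φ c → φ a ≠ φ d → φ c ≠ φ d → φ b ≠ φ c → φ b ≠ φ d → False) :
    ∃ (lam : K) (a : ι), ∀ x ∈ S, x ≠ a → φ x = lam := by
  classical
  by_cases hinj : ∀ a ∈ S, ∀ b ∈ S, φ a = φ b → a = b
  · exfalso
    obtain ⟨a, ha, b, hb, c, hc, d, hd, hab, hac, had, hbc, hbd, hcd⟩ := exists_four S hS
    exact hB a ha b hb c hc d hd hab hac had hbc hbd hcd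
      (fun h => hac (hinj a ha c hc h)) (fun h => had (hinj a ha d hd h))
      (fun h => hcd (hinj c hc d hd h)) (fun h => hbc (hinj b hb c hc h))
      (fun h => hbd (hinj b hb d hd h))
  · push Not at hinj
    obtain ⟨a, ha, b, hb, hφ, hab⟩ := hinj
    by_cases hT : ∃ e ∈ S, φ e ≠ φ a
    · obtain ⟨e, he, hφe⟩ := hT
      by_cases hT2 : ∃ f ∈ S, φ f ≠ φ a ∧ f ≠ e
      · exfalso
        obtain ⟨f, hf, hφf, hfe⟩ := hT2
        have hae : a ≠ e := fun h => hφe (by rw [h])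
        have haf : a ≠ f := fun h => hφf (by rw [h])
        have hbe : b ≠ e := fun h => hφe (by rw [← h, hφ])
        have hbf : b ≠ f := fun h => hφf (by rw [← h, hφ])
        by_cases hef : φ e = φ f
        · exact hφe (hA a ha b hb e he f hf hab hae haf hbe hbf (Ne.symm hfe) hφ hef).symm
        · exact hB a ha b hb e he f hf hab hae haf hbe hbf (Ne.symm hfe)
            (Ne.symm hφe) (Ne.symm hφf) hef (fun h => hφe (by rw [← h, hφ]))
            (fun h => hφf (by rw [← h, hφ]))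
      · push Not at hT2
        refine ⟨φ a, e, fun x hx hxe => ?_⟩
        by_contra hne
        exact hxe (hT2 x hx hne)
    · push Not at hT
      exact ⟨φ a, a, fun x hx _ => hT x hx⟩

end Cfsg.Agent.Helper66.C2I2c
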