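import Mathlib
import Cfsg.Prelude.Def_GeometricClasses
import Cfsg.Agent.Helper96.SpCore
import Cfsg.Agent.Helper96.SpField
import Cfsg.Agent.Helper98.FieldSub

/-!
# The Clifford element `j` of a self-adjoint alternating field of half degree, characteristic 2
(helper66)

`K` a field subalgebra of degree `r` of the matrix algebra in dimension `2r` over a finite field of
characteristic 2, self-adjoint for the polar form `B` of a non-degenerate quadratic form `Q`, with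
`B (k v) v = 0` for `k ∈ K`.  There is a `K`-linear `j` with `B (k² j w) w = Q (k w)`, and a
`K`-linear `a` with `B (k a w) w = 0` for all `k ∈ K`, `w` lies in `K`.
-/

set_option autoImplicit false
open Cfsg Cfsg.Geo Matrix

namespace Cfsg.Agent.Helper66

variable {ι : Type} [Fintype ι] [DecidableEq ι] {F : Type*} [Field F]

theorem cliff_j_general [Fintype F] (h2 : (2 : F) = 0) {r : ℕ} (hr : 0 < r)
    (Q : (ι → F) → F) (hQ : IsNondegenerateQuadraticForm Q) (hn : Fintype.card ι = 2 * r)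
    (K : Subalgebra F (Matrix ι ι F)) (hK : IsFieldSubalgebra r K)
    (hsa : IsSelfAdjointFor (QuadraticMap.polar Q) K)
    (hK0 : ∀ k ∈ K, ∀ v : ι → F, QuadraticMap.polar Q (k *ᵥ v) v = 0) :
    ∃ j : Matrix ι ι F, (∀ k ∈ K, k * j = j * k) ∧
      (∀ k ∈ K, ∀ w : ι → F, QuadraticMap.polar Q ((k * k * j) *ᵥ w) w = Q (k *ᵥ w)) ∧
      ∀ a : Matrix ι ι F, (∀ k ∈ K, k * a = a * k) →
        (∀ k ∈ K, ∀ w : ι → F, QuadraticMap.polar Q ((k * a) *ᵥ w) w = 0) → a ∈ K := by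
  classical
  obtain ⟨f, hfdef⟩ : ∃ f : (ι → F) → (ι → F) → F, f = QuadraticMap.polar Q := ⟨_, rfl⟩
  rw [← hfdef] at hsa hK0 ⊢
  have B : IsBilinearForm f := by rw [hfdef]; exact hQ.polar_bilinear
  have hsym : ∀ u v, f u v = f v u := by
    intro u v; rw [hfdef]; exact QuadraticMap.polar_comm Q u v
  have hnd : IsNondegenerateForm f := by rw [hfdef]; exact hQ.nondegenerate
  have hQadd : ∀ x y, Q (x + y) = Q x + Q y + f x y := by
    intro x y; rw [hfdef]; unfold QuadraticMap.polar; ring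
  have fnegl : ∀ x v, f (-x) v = -f x v := by
    intro x v
    have := B.smul_left (-1) x v
    simpa using this
  have fsubl : ∀ x y v, f (x - y) v = f x v - f y v := by
    intro x y v
    rw [sub_eq_add_neg, B.add_left, fnegl, ← sub_eq_add_neg]
  have sa : ∀ k ∈ K, ∀ u v, f (k *ᵥ u) v = f u (k *ᵥ v) := hsa
  have two_F : ∀ t : F, t + t = 0 := fun t => by rw [← two_mul, h2, zero_mul]
  have two_M : ∀ X : Matrix ι ι F, X + X = 0 := fun X => by rw [← two_smul F X, h2, zero_smul]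
  have hFS := Helper98.IsFS.of hK
  have lcomm : ∀ p ∈ K, ∀ q ∈ K, ∀ m : Matrix ι ι F, p * (q * m) = q * (p * m) := by
    intro p hp q hq m
    rw [← mul_assoc, hK.comm p hp q hq, mul_assoc]
  -- a `K`-basis `v0`, `v1`
  obtain ⟨v0, hv0ne⟩ : ∃ v0 : ι → F, v0 ≠ 0 := by
    have hpos : 0 < Module.finrank F (ι → F) := by
      rw [Module.finrank_fintype_fun_eq_card, hn]; omega
    exact Module.finrank_pos_iff_exists_ne_zero.mp hpos
  have hr1 : Module.finrank F (Helper96.Sy.orb K v0) = r := by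
    rw [(Helper96.Sy.orb_min K hK.inv v0 hv0ne).2, hK.finrank_eq]
  obtain ⟨v1, hv1⟩ : ∃ v1, v1 ∉ Helper96.Sy.orb K v0 := by
    by_contra hcon
    push Not at hcon
    have htop : Helper96.Sy.orb K v0 = ⊤ := Submodule.eq_top_iff'.mpr hcon
    rw [htop, finrank_top, Module.finrank_fintype_fun_eq_card, hn] at hr1
    omega
  have hv1ne : v1 ≠ 0 := by
    rintro rfl
    exact hv1 (Submodule.zero_mem _)
  have hr2 : Module.finrank F (Helper96.Sy.orb K v1) = r := by
    rw [(Helper96.Sy.orb_min K hK.inv _ hv1ne).2, hK.finrank_eq]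
  have hdisj : Helper96.Sy.orb K v0 ⊓ Helper96.Sy.orb K v1 = ⊥ := by
    rw [Submodule.eq_bot_iff]
    rintro w ⟨hw1, hw2⟩
    obtain ⟨k, hk, rfl⟩ := (Helper96.Sy.mem_orb K v0 w).mp hw1
    obtain ⟨k', hk', hkk'⟩ := (Helper96.Sy.mem_orb K v1 _).mp hw2
    by_contra hne
    have hk0 : k' ≠ 0 := by
      rintro rfl
      rw [Matrix.zero_mulVec] at hkk'
      exact hne hkk'.symm
    obtain ⟨y, hy, hky⟩ := hK.inv k' hk' hk0
    have hyk : y * k' = 1 := by rw [hK.comm y hy k' hk']; exact hky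
    apply hv1
    refine (Helper96.Sy.mem_orb K v0 _).mpr ⟨y * k, K.mul_mem hy hk, ?_⟩
    rw [← Matrix.mulVec_mulVec v0 y k, ← hkk', Matrix.mulVec_mulVec v1 y k', hyk,
      Matrix.one_mulVec]
  have htop : Helper96.Sy.orb K v0 ⊔ Helper96.Sy.orb K v1 = ⊤ := by
    apply Submodule.eq_top_of_finrank_eq
    have h1 := Submodule.finrank_sup_add_finrank_inf_eq (Helper96.Sy.orb K v0)
      (Helper96.Sy.orb K v1)
    rw [hdisj, finrank_bot, add_zero, hr1, hr2] at h1
    rw [h1, Module.finrank_fintype_fun_eq_card, hn]; ring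
  have F2 : ∀ u : ι → F, ∃ k ∈ K, ∃ k' ∈ K, u = k *ᵥ v0 + k' *ᵥ v1 := by
    intro u
    have hu : u ∈ Helper96.Sy.orb K v0 ⊔ Helper96.Sy.orb K v1 := by
      rw [htop]; exact Submodule.mem_top
    obtain ⟨y, hy, z, hz, hyz⟩ := Submodule.mem_sup.mp hu
    obtain ⟨k, hk, rfl⟩ := (Helper96.Sy.mem_orb K v0 y).mp hy
    obtain ⟨k', hk', rfl⟩ := (Helper96.Sy.mem_orb K _ z).mp hz
    exact ⟨k, hk, k', hk', hyz.symm⟩
  have F2u : ∀ k ∈ K, ∀ k' ∈ K, k *ᵥ v0 + k' *ᵥ v1 = 0 → k = 0 ∧ k' = 0 := by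
    intro k hk k' hk' h
    have h1 : k *ᵥ v0 ∈ Helper96.Sy.orb K v0 ⊓ Helper96.Sy.orb K v1 := by
      refine ⟨(Helper96.Sy.mem_orb K v0 _).mpr ⟨k, hk, rfl⟩, ?_⟩
      refine (Helper96.Sy.mem_orb K v1 _).mpr ⟨-k', K.neg_mem hk', ?_⟩
      rw [Matrix.neg_mulVec]
      exact (eq_neg_of_add_eq_zero_left h).symm
    rw [hdisj] at h1
    have h3 : k *ᵥ v0 = 0 := (Submodule.mem_bot F).mp h1
    have hk0 : k = 0 := by
      by_contra hk0
      exact hv0ne (hFS.mulVec_eq_zero hk hk0 h3)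
    refine ⟨hk0, ?_⟩
    rw [h3, zero_add] at h
    by_contra hk0'
    exact hv1ne (hFS.mulVec_eq_zero hk' hk0' h)
  -- the form in coordinates
  have cross00 : ∀ p ∈ K, ∀ q ∈ K, f (p *ᵥ v0) (q *ᵥ v0) = 0 := by
    intro p hp q hq
    rw [← sa q hq, Matrix.mulVec_mulVec v0 q p]
    exact hK0 _ (K.mul_mem hq hp) v0
  have cross11 : ∀ p ∈ K, ∀ q ∈ K, f (p *ᵥ v1) (q *ᵥ v1) = 0 := by
    intro p hp q hq
    rw [← sa q hq, Matrix.mulVec_mulVec v1 q p]
    exact hK0 _ (K.mul_mem hq hp) v1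
  have cross01 : ∀ p ∈ K, ∀ q ∈ K, f (p *ᵥ v0) (q *ᵥ v1) = f ((q * p) *ᵥ v0) v1 := by
    intro p hp q hq
    rw [← sa q hq, Matrix.mulVec_mulVec v0 q p]
  have cross10 : ∀ p ∈ K, ∀ q ∈ K, f (q *ᵥ v1) (p *ᵥ v0) = f ((q * p) *ᵥ v0) v1 := by
    intro p hp q hq
    rw [hsym]; exact cross01 p hp q hq
  -- the pairing `(k, c) ↦ f (k c v0) v1` on `K` is perfect
  have PP : ∀ c ∈ K, (∀ k ∈ K, f ((k * c) *ᵥ v0) v1 = 0) → c = 0 := by
    intro c hc h
    by_contra hc0
    obtain ⟨y, hy, hcy⟩ := hK.inv c hc hc0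
    have hyc : y * c = 1 := by rw [hK.comm y hy c hc]; exact hcy
    have hμ0 : ∀ k ∈ K, f (k *ᵥ v0) v1 = 0 := by
      intro k hk
      have h5 := h (k * y) (K.mul_mem hk hy)
      rwa [mul_assoc, hyc, mul_one] at h5
    obtain ⟨x, hx⟩ := (hnd v1 hv1ne).1
    obtain ⟨p, hp, q, hq, rfl⟩ := F2 x
    apply hx
    rw [B.add_left, hμ0 p hp, zero_add]
    exact hK0 q hq v1
  have T : ∀ φ : Subalgebra.toSubmodule K →ₗ[F] F, ∃ c ∈ K, ∀ (k : Matrix ι ι F) (hk : k ∈ K),
      φ ⟨k, hk⟩ = f ((c * k) *ᵥ v0) v1 := by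
    intro φ
    have h1 : ∀ (c₁ c₂ k : Subalgebra.toSubmodule K),
        f ((((c₁ + c₂ : Subalgebra.toSubmodule K) : Matrix ι ι F) * (k : Matrix ι ι F)) *ᵥ v0) v1
          = f (((c₁ : Matrix ι ι F) * (k : Matrix ι ι F)) *ᵥ v0) v1
            + f (((c₂ : Matrix ι ι F) * (k : Matrix ι ι F)) *ᵥ v0) v1 := by
      intro c₁ c₂ k
      rw [Submodule.coe_add, add_mul, Matrix.add_mulVec, B.add_left]
    have h2' : ∀ (t : F) (c k : Subalgebra.toSubmodule K),
        f ((((t • c : Subalgebra.toSubmodule K) : Matrix ι ι F) * (k : Matrix ι ι F)) *ᵥ v0) v1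
          = t • f (((c : Matrix ι ι F) * (k : Matrix ι ι F)) *ᵥ v0) v1 := by
      intro t c k
      rw [Submodule.coe_smul, smul_mul_assoc, Matrix.smul_mulVec, B.smul_left, smul_eq_mul]
    have h3 : ∀ (c k₁ k₂ : Subalgebra.toSubmodule K),
        f (((c : Matrix ι ι F) * ((k₁ + k₂ : Subalgebra.toSubmodule K) : Matrix ι ι F)) *ᵥ v0) v1
          = f (((c : Matrix ι ι F) * (k₁ : Matrix ι ι F)) *ᵥ v0) v1
            + f (((c : Matrix ι ι F) * (k₂ : Matrix ι ι F)) *ᵥ v0) v1 := by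
      intro c k₁ k₂
      rw [Submodule.coe_add, mul_add, Matrix.add_mulVec, B.add_left]
    have h4 : ∀ (t : F) (c k : Subalgebra.toSubmodule K),
        f (((c : Matrix ι ι F) * ((t • k : Subalgebra.toSubmodule K) : Matrix ι ι F)) *ᵥ v0) v1
          = t • f (((c : Matrix ι ι F) * (k : Matrix ι ι F)) *ᵥ v0) v1 := by
      intro t c k
      rw [Submodule.coe_smul, mul_smul_comm, Matrix.smul_mulVec, B.smul_left, smul_eq_mul]
    obtain ⟨Φ, hΦ⟩ : ∃ Φ : Subalgebra.toSubmodule K →ₗ[F] Subalgebra.toSubmodule K →ₗ[F] F,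
        ∀ c k, Φ c k = f (((c : Matrix ι ι F) * (k : Matrix ι ι F)) *ᵥ v0) v1 :=
      ⟨LinearMap.mk₂ F _ h1 h2' h3 h4, fun c k => rfl⟩
    have hinj : Function.Injective Φ := by
      rw [injective_iff_map_eq_zero]
      intro c hc
      apply Subtype.ext
      apply PP c c.2
      intro k hk
      have h5 : Φ c ⟨k, hk⟩ = 0 := by rw [hc]; rfl
      rw [hΦ] at h5
      rw [hK.comm k hk c c.2]
      exact h5
    have hfr : Module.finrank F (Subalgebra.toSubmodule K)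
        = Module.finrank F (Subalgebra.toSubmodule K →ₗ[F] F) :=
      (Subspace.dual_finrank_eq (K := F) (V := Subalgebra.toSubmodule K)).symm
    have hsurj : Function.Surjective Φ :=
      (LinearMap.injective_iff_surjective_of_finrank_eq_finrank hfr).mp hinj
    obtain ⟨c, hc⟩ := hsurj φ
    refine ⟨c, c.2, fun k hk => ?_⟩
    have h5 := LinearMap.congr_fun hc ⟨k, hk⟩
    rw [hΦ] at h5
    exact h5.symm
  -- square roots
  have hinjK : ∀ m ∈ K, ∀ m' ∈ K, m * m = m' * m' → m = m' := by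
    intro m hm m' hm' h
    by_contra hne
    have hd : m - m' ≠ 0 := sub_ne_zero.mpr hne
    obtain ⟨y, hy, hdy⟩ := hK.inv (m - m') (K.sub_mem hm hm') hd
    have hdd : (m - m') * (m - m') = 0 := by
      have e : (m - m') * (m - m') = m * m - m * m' - m' * m + m' * m' := by noncomm_ring
      rw [e, hK.comm m' hm' m hm, h]
      calc m' * m' - m * m' - m * m' + m' * m'
          = (m' * m' - m * m') + (m' * m' - m * m') := by abel
        _ = 0 := two_M _
    apply hd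
    calc m - m' = (m - m') * ((m - m') * y) := by rw [hdy, mul_one]
      _ = ((m - m') * (m - m')) * y := by rw [mul_assoc]
      _ = 0 := by rw [hdd, zero_mul]
  have hsurjK : ∀ κ ∈ K, ∃ m ∈ K, m * m = κ := by
    have hfin : Finite K := Finite.of_injective (fun x : K => (x : Matrix ι ι F))
      Subtype.val_injective
    have hinj : Function.Injective (fun m : K => (⟨m.1 * m.1, K.mul_mem m.2 m.2⟩ : K)) :=
      fun m m' h => Subtype.ext (hinjK _ m.2 _ m'.2 (congrArg Subtype.val h))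
    have hsurj := Finite.injective_iff_surjective.mp hinj
    intro κ hκ
    obtain ⟨m, hm⟩ := hsurj ⟨κ, hκ⟩
    exact ⟨m.1, m.2, congrArg Subtype.val hm⟩
  have hsqF : ∀ t : F, ∃ s : F, s * s = t := by
    have hinj : Function.Injective (fun s : F => s * s) := by
      intro s s' h
      have h' : s * s = s' * s' := h
      have h5 : (s - s') * (s - s') = 0 := by
        linear_combination h' + (s' * s' - s * s') * h2
      exact sub_eq_zero.mp (mul_self_eq_zero.mp h5)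
    have hsurj := Finite.injective_iff_surjective.mp hinj
    exact fun t => hsurj t
  have sqF : ∀ w : ι → F, ∃ θ : Subalgebra.toSubmodule K →ₗ[F] F,
      ∀ (m : Matrix ι ι F) (hm : m ∈ K), θ ⟨m * m, K.mul_mem hm hm⟩ = Q (m *ᵥ w) := by
    intro w
    choose! sq hsqmem hsq using hsurjK
    have hsq_of : ∀ m ∈ K, sq (m * m) = m := fun m hm =>
      hinjK _ (hsqmem _ (K.mul_mem hm hm)) _ hm (hsq _ (K.mul_mem hm hm))
    refine ⟨{ toFun := fun κ => Q (sq (κ : Matrix ι ι F) *ᵥ w), map_add' := ?_, map_smul' := ?_ },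
      ?_⟩
    · intro κ κ'
      show Q (sq ((κ + κ' : Subalgebra.toSubmodule K) : Matrix ι ι F) *ᵥ w)
        = Q (sq (κ : Matrix ι ι F) *ᵥ w) + Q (sq (κ' : Matrix ι ι F) *ᵥ w)
      have ha : sq (κ : Matrix ι ι F) ∈ K := hsqmem _ κ.2
      have hb : sq (κ' : Matrix ι ι F) ∈ K := hsqmem _ κ'.2
      have e : sq ((κ + κ' : Subalgebra.toSubmodule K) : Matrix ι ι F)
          = sq (κ : Matrix ι ι F) + sq (κ' : Matrix ι ι F) := by
        apply hinjK _ (hsqmem _ (κ + κ').2) _ (K.add_mem ha hb)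
        rw [hsq _ (κ + κ').2, Submodule.coe_add]
        have e2 : (sq (κ : Matrix ι ι F) + sq (κ' : Matrix ι ι F))
            * (sq (κ : Matrix ι ι F) + sq (κ' : Matrix ι ι F))
            = sq (κ : Matrix ι ι F) * sq (κ : Matrix ι ι F)
              + sq (κ' : Matrix ι ι F) * sq (κ' : Matrix ι ι F)
              + (sq (κ : Matrix ι ι F) * sq (κ' : Matrix ι ι F)
                + sq (κ : Matrix ι ι F) * sq (κ' : Matrix ι ι F)) := by
          rw [add_mul, mul_add, mul_add, hK.comm _ hb _ ha]; abel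
        rw [e2, two_M, add_zero, hsq _ κ.2, hsq _ κ'.2]
      rw [e, Matrix.add_mulVec, hQadd, ← sa _ hb, Matrix.mulVec_mulVec,
        hK0 _ (K.mul_mem hb ha), add_zero]
    · intro t κ
      show Q (sq ((t • κ : Subalgebra.toSubmodule K) : Matrix ι ι F) *ᵥ w)
        = t * Q (sq (κ : Matrix ι ι F) *ᵥ w)
      obtain ⟨s, hs⟩ := hsqF t
      have ha : sq (κ : Matrix ι ι F) ∈ K := hsqmem _ κ.2
      have e : sq ((t • κ : Subalgebra.toSubmodule K) : Matrix ι ι F)
          = s • sq (κ : Matrix ι ι F) := by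
        apply hinjK _ (hsqmem _ (t • κ).2) _ (K.smul_mem ha s)
        rw [hsq _ (t • κ).2, Submodule.coe_smul, smul_mul_smul_comm, hs, hsq _ κ.2]
      rw [e, Matrix.smul_mulVec, hQ.smul, pow_two, hs]
    · intro m hm
      show Q (sq (m * m) *ᵥ w) = Q (m *ᵥ w)
      rw [hsq_of m hm]
  -- the coefficients `β`, `γ`
  obtain ⟨θ0, hθ0⟩ := sqF v0
  obtain ⟨β, hβ, hβeq⟩ := T θ0
  obtain ⟨θ1, hθ1⟩ := sqF v1
  obtain ⟨γ, hγ, hγeq⟩ := T θ1
  have hβ' : ∀ m ∈ K, f ((β * (m * m)) *ᵥ v0) v1 = Q (m *ᵥ v0) := fun m hm => by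
    rw [← hβeq (m * m) (K.mul_mem hm hm), hθ0 m hm]
  have hγ' : ∀ m ∈ K, f ((γ * (m * m)) *ᵥ v0) v1 = Q (m *ᵥ v1) := fun m hm => by
    rw [← hγeq (m * m) (K.mul_mem hm hm), hθ1 m hm]
  -- the map `j`
  obtain ⟨ψ, hψ⟩ : ∃ ψ : (Subalgebra.toSubmodule K × Subalgebra.toSubmodule K) →ₗ[F] (ι → F),
      ∀ p, ψ p = (p.1 : Matrix ι ι F) *ᵥ v0 + (p.2 : Matrix ι ι F) *ᵥ v1 :=
    ⟨((Helper97.Gen.evalAt v0).domRestrict (Subalgebra.toSubmodule K)).coprod
      ((Helper97.Gen.evalAt v1).domRestrict (Subalgebra.toSubmodule K)), fun p => rfl⟩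
  have hψbij : Function.Bijective ψ := by
    constructor
    · rw [injective_iff_map_eq_zero]
      intro p hp
      rw [hψ] at hp
      obtain ⟨h1, h2'⟩ := F2u _ p.1.2 _ p.2.2 hp
      exact Prod.ext (Subtype.ext h1) (Subtype.ext h2')
    · intro u
      obtain ⟨k, hk, k', hk', rfl⟩ := F2 u
      exact ⟨(⟨k, hk⟩, ⟨k', hk'⟩), hψ _⟩
  obtain ⟨σ, hσ⟩ : ∃ σ : (Subalgebra.toSubmodule K × Subalgebra.toSubmodule K) →ₗ[F]
      (Subalgebra.toSubmodule K × Subalgebra.toSubmodule K),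
      ∀ p, ((σ p).1 : Matrix ι ι F) = (p.1 : Matrix ι ι F) + γ * (p.2 : Matrix ι ι F) ∧
        ((σ p).2 : Matrix ι ι F) = β * (p.1 : Matrix ι ι F) :=
    ⟨LinearMap.prod
      (LinearMap.fst F _ _ + ((LinearMap.mulLeft F γ).restrict
        (p := Subalgebra.toSubmodule K) (q := Subalgebra.toSubmodule K)
        (fun x hx => K.mul_mem hγ hx)).comp (LinearMap.snd F _ _))
      (((LinearMap.mulLeft F β).restrict
        (p := Subalgebra.toSubmodule K) (q := Subalgebra.toSubmodule K)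
        (fun x hx => K.mul_mem hβ hx)).comp (LinearMap.fst F _ _)), fun p => ⟨rfl, rfl⟩⟩
  obtain ⟨jl, hjl⟩ : ∃ jl : (ι → F) →ₗ[F] (ι → F), ∀ p, jl (ψ p) = ψ (σ p) := by
    refine ⟨ψ.comp (σ.comp (LinearEquiv.ofBijective ψ hψbij).symm.toLinearMap), fun p => ?_⟩
    show ψ (σ ((LinearEquiv.ofBijective ψ hψbij).symm (ψ p))) = ψ (σ p)
    have h1 : (LinearEquiv.ofBijective ψ hψbij).symm (ψ p) = p :=
      (LinearEquiv.ofBijective ψ hψbij).symm_apply_apply p
    rw [h1]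
  obtain ⟨J, hJdef⟩ : ∃ J : Matrix ι ι F, J = LinearMap.toMatrix' jl := ⟨_, rfl⟩
  have hJ : ∀ u, J *ᵥ u = jl u := by
    intro u
    rw [hJdef, ← Matrix.toLin'_apply, Matrix.toLin'_toMatrix']
  have hJv : ∀ x ∈ K, ∀ y ∈ K,
      J *ᵥ (x *ᵥ v0 + y *ᵥ v1) = (x + γ * y) *ᵥ v0 + (β * x) *ᵥ v1 := by
    intro x hx y hy
    have h1 := hjl (⟨x, hx⟩, ⟨y, hy⟩)
    rw [hψ, hψ, (hσ _).1, (hσ _).2] at h1
    rw [hJ]; exact h1
  refine ⟨J, ?_, ?_, ?_⟩
  · intro k hk
    apply Helper98.matrix_ext_mulVec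
    intro u
    obtain ⟨x, hx, y, hy, rfl⟩ := F2 u
    rw [← Matrix.mulVec_mulVec _ k J, ← Matrix.mulVec_mulVec _ J k, hJv x hx y hy,
      Matrix.mulVec_add, Matrix.mulVec_add, Matrix.mulVec_mulVec v0 k, Matrix.mulVec_mulVec v1 k,
      Matrix.mulVec_mulVec v0 k, Matrix.mulVec_mulVec v1 k,
      hJv (k * x) (K.mul_mem hk hx) (k * y) (K.mul_mem hk hy), mul_add, lcomm k hk γ hγ y,
      lcomm k hk β hβ x]
  · intro k hk w
    obtain ⟨x, hx, y, hy, rfl⟩ := F2 w
    have hkk : k * k ∈ K := K.mul_mem hk hk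
    have hp : k * k * (x + γ * y) ∈ K := K.mul_mem hkk (K.add_mem hx (K.mul_mem hγ hy))
    have hq : k * k * (β * x) ∈ K := K.mul_mem hkk (K.mul_mem hβ hx)
    have hkx : k * x ∈ K := K.mul_mem hk hx
    have hky : k * y ∈ K := K.mul_mem hk hy
    have E1 : y * (k * k * (x + γ * y)) = (k * y) * (k * x) + γ * ((k * y) * (k * y)) := by
      rw [mul_add, mul_add]
      congr 1
      · calc y * (k * k * x) = y * (k * (k * x)) := by rw [mul_assoc]
          _ = k * (k * (y * x)) := by rw [lcomm y hy k hk (k * x), lcomm y hy k hk x]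
          _ = k * y * (k * x) := by rw [mul_assoc k y (k * x), lcomm y hy k hk x]
      · calc y * (k * k * (γ * y)) = y * (k * (k * (γ * y))) := by rw [mul_assoc]
          _ = γ * (y * (k * (k * y))) := by
              rw [lcomm k hk γ hγ y, lcomm k hk γ hγ (k * y), lcomm y hy γ hγ (k * (k * y))]
          _ = γ * (k * (k * (y * y))) := by rw [lcomm y hy k hk (k * y), lcomm y hy k hk y]
          _ = γ * (k * y * (k * y)) := by rw [mul_assoc k y (k * y), lcomm y hy k hk y]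
    have E2 : k * k * (β * x) * x = β * ((k * x) * (k * x)) := by
      calc k * k * (β * x) * x = k * (k * (β * (x * x))) := by simp only [mul_assoc]
        _ = β * (k * (k * (x * x))) := by
            rw [lcomm k hk β hβ (x * x), lcomm k hk β hβ (k * (x * x))]
        _ = β * (k * x * (k * x)) := by rw [mul_assoc k x (k * x), lcomm x hx k hk x]
    have lhs : f ((k * k * J) *ᵥ (x *ᵥ v0 + y *ᵥ v1)) (x *ᵥ v0 + y *ᵥ v1)
        = f (((k * y) * (k * x)) *ᵥ v0) v1 + f ((γ * ((k * y) * (k * y))) *ᵥ v0) v1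
          + f ((β * ((k * x) * (k * x))) *ᵥ v0) v1 := by
      rw [← Matrix.mulVec_mulVec _ (k * k) J, hJv x hx y hy, Matrix.mulVec_add,
        Matrix.mulVec_mulVec v0 (k * k), Matrix.mulVec_mulVec v1 (k * k), B.add_left,
        B.add_right, B.add_right, cross00 _ hp _ hx, cross01 _ hp _ hy, cross10 _ hx _ hq,
        cross11 _ hq _ hy, E1, E2, Matrix.add_mulVec, B.add_left]
      ring
    have rhs : Q (k *ᵥ (x *ᵥ v0 + y *ᵥ v1))
        = f ((β * ((k * x) * (k * x))) *ᵥ v0) v1 + f ((γ * ((k * y) * (k * y))) *ᵥ v0) v1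
          + f (((k * y) * (k * x)) *ᵥ v0) v1 := by
      rw [Matrix.mulVec_add, Matrix.mulVec_mulVec v0 k x, Matrix.mulVec_mulVec v1 k y, hQadd,
        cross01 _ hkx _ hky, hβ' _ hkx, hγ' _ hky]
    rw [lhs, rhs]; ring
  · intro a haK ha0
    have haK' : ∀ k ∈ K, a * k = k * a := fun k hk => (haK k hk).symm
    obtain ⟨p, hp, q, hq, h0⟩ := F2 (a *ᵥ v0)
    obtain ⟨p', hp', q', hq', h1⟩ := F2 (a *ᵥ v1)
    have hq0 : q = 0 := by
      apply PP q hq
      intro k hk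
      have h := ha0 k hk v0
      rw [← Matrix.mulVec_mulVec v0 k a, h0, Matrix.mulVec_add, Matrix.mulVec_mulVec v0 k p,
        Matrix.mulVec_mulVec v1 k q, B.add_left, hK0 _ (K.mul_mem hk hp), zero_add, hsym,
        ← sa _ (K.mul_mem hk hq)] at h
      exact h
    have hp'0 : p' = 0 := by
      apply PP p' hp'
      intro k hk
      have h := ha0 k hk v1
      rw [← Matrix.mulVec_mulVec v1 k a, h1, Matrix.mulVec_add, Matrix.mulVec_mulVec v0 k p',
        Matrix.mulVec_mulVec v1 k q', B.add_left, hK0 _ (K.mul_mem hk hq'), add_zero] at h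
      exact h
    have hav0 : a *ᵥ v0 = p *ᵥ v0 := by rw [h0, hq0, Matrix.zero_mulVec, add_zero]
    have hav1 : a *ᵥ v1 = q' *ᵥ v1 := by rw [h1, hp'0, Matrix.zero_mulVec, zero_add]
    have hpq : p = q' := by
      have hd : p - q' = 0 := by
        apply PP _ (K.sub_mem hp hq')
        intro k hk
        have h := ha0 k hk (v0 + v1)
        rw [← Matrix.mulVec_mulVec _ k a, Matrix.mulVec_add a, hav0, hav1, Matrix.mulVec_add,
          Matrix.mulVec_mulVec v0 k p, Matrix.mulVec_mulVec v1 k q', B.add_left, B.add_right,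
          B.add_right, hK0 _ (K.mul_mem hk hp), hK0 _ (K.mul_mem hk hq'), zero_add, add_zero,
          hsym ((k * q') *ᵥ v1) v0, ← sa _ (K.mul_mem hk hq')] at h
        rw [mul_sub, Matrix.sub_mulVec, fsubl]
        have h3 := two_F (f ((k * q') *ᵥ v0) v1)
        linear_combination h - h3
      exact sub_eq_zero.mp hd
    have hap : a = p := by
      apply Helper98.matrix_ext_mulVec
      intro u
      obtain ⟨x, hx, y, hy, rfl⟩ := F2 u
      rw [Matrix.mulVec_add, Matrix.mulVec_add, Matrix.mulVec_mulVec v0 a x,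
        Matrix.mulVec_mulVec v1 a y, haK' x hx, haK' y hy, ← Matrix.mulVec_mulVec v0 x a,
        ← Matrix.mulVec_mulVec v1 y a, hav0, hav1, ← hpq, Matrix.mulVec_mulVec v0 x p,
        Matrix.mulVec_mulVec v1 y p, Matrix.mulVec_mulVec v0 p x, Matrix.mulVec_mulVec v1 p y,
        hK.comm x hx p hp, hK.comm y hy p hp]
    rw [hap]; exact hp

end Cfsg.Agent.Helper66
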