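/-
Helper library of seat helper66: TI subgroups `H` whose order is coprime to `|N_G(H) : H|`
(TI Hall subgroups), in the internal (subgroups of one ambient group) style of `Helper35`.
Everything lives in the namespace `Cfsg.Agent.Helper66`.
-/
import Mathlib
import Cfsg.Prelude.Def_OddOrderLocal
import Cfsg.Agent.Helper35.CoprimeGen2
import Cfsg.Agent.Helper35.CoprimeQuot
import Cfsg.Agent.Helper35.HallCoprime
import Cfsg.Agent.S0016

set_option autoImplicit false

namespace Cfsg.Agent.Helper66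

open Subgroup
open scoped Pointwise commutatorElement

universe u

section basic

variable {G : Type u} [Group G]

/-- TI: an element conjugating a nonidentity element of `H` into `H` normalises `H`. -/
theorem tiH_mem_normalizer {H : Subgroup G} (hTI : Cfsg.IsTISubset (H : Set G)) {g x : G}
    (hx : x ∈ H) (hx1 : x ≠ 1) (hgx : g * x * g⁻¹ ∈ H) : g ∈ normalizer (H : Set G) := by
  by_contra hg
  exact hx1 (hTI g hg x hx hgx)

/-- An element of `K` whose order is prime to the index of the normal subgroup `N` of `K`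
lies in `N`. -/
theorem mem_of_pow_eq_one_of_coprime_relIndex [Finite G] {N K : Subgroup G}
    (hKN : K ≤ normalizer (N : Set G)) {m : ℕ} (hcop : m.Coprime (N.relIndex K)) {x : G}
    (hx : x ∈ K) (hpow : x ^ m = 1) : x ∈ N := by
  have hn : (N.subgroupOf K).Normal := Subgroup.normal_subgroupOf_of_le_normalizer hKN
  have h1 : (⟨x, hx⟩ : K) ^ (N.subgroupOf K).index ∈ N.subgroupOf K :=
    Subgroup.pow_index_mem _ _
  have h2 : (⟨x, hx⟩ : K) ^ m ∈ N.subgroupOf K := by
    have : (⟨x, hx⟩ : K) ^ m = 1 := Subtype.ext (by simpa using hpow)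
    rw [this]; exact one_mem _
  have h3 := Helper35.mem_of_pow_mem_of_coprime hcop h2 h1
  exact Subgroup.mem_subgroupOf.mp h3

/-- A TI subgroup whose order is prime to its index in its normaliser is a Hall subgroup. -/
theorem tiH_coprime_index [Finite G] {H : Subgroup G} (hTI : Cfsg.IsTISubset (H : Set G))
    (hHall : (Nat.card H).Coprime (H.subgroupOf (normalizer (H : Set G))).index) :
    (Nat.card H).Coprime H.index := by
  by_contra hcon
  obtain ⟨p, hp, hpH, hpI⟩ := Nat.Prime.not_coprime_iff_dvd.mp hcon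
  have : Fact p.Prime := ⟨hp⟩
  obtain ⟨P⟩ := (inferInstance : Nonempty (Sylow p H))
  set P' : Subgroup G := (P : Subgroup H).map H.subtype with hP'
  have hP'H : P' ≤ H := Subgroup.map_subtype_le _
  have hP'p : IsPGroup p P' := P.isPGroup'.map H.subtype
  obtain ⟨S, hS⟩ := hP'p.exists_le_sylow
  -- `P' ≠ S`
  have hne : P' ≠ (S : Subgroup G) := by
    intro h
    have h1 : (S : Subgroup G) ≤ H := h ▸ hP'H
    exact S.not_dvd_index (hpI.trans (Subgroup.index_dvd_of_le h1))
  -- a nonidentity element of `P'`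
  have hP1 : ∃ z ∈ P', z ≠ 1 := by
    have h1 : (P : Subgroup H) ≠ ⊥ := P.ne_bot_of_dvd_card hpH
    obtain ⟨z, hz1⟩ := (Subgroup.ne_bot_iff_exists_ne_one (H := (P : Subgroup H))).mp h1
    exact ⟨((z : H) : G), ⟨z, z.2, rfl⟩, fun h => hz1 (Subtype.ext (Subtype.ext h))⟩
  obtain ⟨z, hz, hz1⟩ := hP1
  -- normaliser condition in the `p`-group `S`
  have hnil : Group.IsNilpotent (S : Subgroup G) := S.isPGroup'.isNilpotent
  have hlt : P'.subgroupOf (S : Subgroup G) < ⊤ := by
    rw [lt_top_iff_ne_top, Ne, Subgroup.subgroupOf_eq_top]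
    exact fun h => hne (le_antisymm hS h)
  have hlt2 := Group.normalizerCondition_of_isNilpotent (G := (S : Subgroup G)) _ hlt
  obtain ⟨y, hyN, hyP⟩ := SetLike.exists_of_lt hlt2
  have hyz : (y : G) * z * (y : G)⁻¹ ∈ P' := by
    have h1 := (Subgroup.mem_normalizer_iff.mp hyN ⟨z, hS hz⟩).mp (Subgroup.mem_subgroupOf.mpr hz)
    exact Subgroup.mem_subgroupOf.mp h1
  have hyM : (y : G) ∈ normalizer (H : Set G) :=
    tiH_mem_normalizer hTI (hP'H hz) hz1 (hP'H hyz)
  obtain ⟨k, hk⟩ := S.isPGroup' y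
  have hpidx : ¬ p ∣ (H.subgroupOf (normalizer (H : Set G))).index := fun h =>
    hp.one_lt.ne' (Nat.eq_one_of_dvd_coprimes hHall hpH h)
  have hyH : (y : G) ∈ H :=
    mem_of_pow_eq_one_of_coprime_relIndex (N := H) (K := normalizer (H : Set G)) le_rfl
      (Nat.Coprime.pow_left k ((Nat.Prime.coprime_iff_not_dvd hp).mpr hpidx)) hyM
      (by simpa using congrArg Subtype.val hk)
  -- `(H ⊓ S)` is a `p`-subgroup of `H` containing `P`
  have hT : IsPGroup p ((H ⊓ (S : Subgroup G)).subgroupOf H) :=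
    (S.isPGroup'.to_le inf_le_right).comap_subtype
  have hle : (P : Subgroup H) ≤ (H ⊓ (S : Subgroup G)).subgroupOf H := by
    intro w hw
    rw [Subgroup.mem_subgroupOf]
    exact ⟨w.2, hS ⟨w, hw, rfl⟩⟩
  have hTP := P.is_maximal' hT hle
  have hyP' : (⟨(y : G), hyH⟩ : H) ∈ (P : Subgroup H) := by
    rw [← hTP, Subgroup.mem_subgroupOf]
    exact ⟨hyH, y.2⟩
  exact hyP (Subgroup.mem_subgroupOf.mpr ⟨_, hyP', rfl⟩)

/-- The largest normal subgroup of order prime to `m` is normal, of order prime to `m`. -/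
theorem sSup_normal_coprime [Finite G] (m : ℕ) :
    (sSup {K : Subgroup G | K.Normal ∧ (Nat.card K).Coprime m}).Normal ∧
      (Nat.card (sSup {K : Subgroup G | K.Normal ∧ (Nat.card K).Coprime m} : Subgroup G)).Coprime
        m := by
  classical
  set S : Set (Subgroup G) := {K : Subgroup G | K.Normal ∧ (Nat.card K).Coprime m} with hS
  have hne : S.Nonempty := ⟨⊥, Subgroup.normal_bot, by simp⟩
  obtain ⟨K₀, hK₀, hmax⟩ := Set.exists_max_image S (fun K => Nat.card K) (Set.toFinite S) hne
  have hle : ∀ K ∈ S, K ≤ K₀ := by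
    intro K hK
    have hn1 : K.Normal := hK.1
    have hn2 : K₀.Normal := hK₀.1
    have hsup : K ⊔ K₀ ∈ S := by
      refine ⟨inferInstance, ?_⟩
      have h1 : Nat.card (K ⊔ K₀ : Subgroup G) = Nat.card K₀ * K₀.relIndex K := by
        rw [← Helper35.card_mul_relIndex_of_le (le_sup_right : K₀ ≤ K ⊔ K₀),
          Subgroup.relIndex_sup_right]
      rw [h1]
      exact Nat.Coprime.mul_left hK₀.2
        (Nat.Coprime.coprime_dvd_left (Subgroup.relIndex_dvd_card K₀ K) hK.2)
    have h1 := hmax _ hsup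
    have h3 : K₀ = K ⊔ K₀ := Subgroup.eq_of_le_of_card_ge le_sup_right h1
    rw [h3]; exact le_sup_left
  have : sSup S = K₀ := le_antisymm (sSup_le hle) (le_sSup hK₀)
  rw [this]; exact hK₀

end basic

section sep

variable {G : Type u} [Group G] [Finite G]

omit [Finite G] in
theorem pow_card_eq_one_of_mem {K : Subgroup G} {x : G} (hx : x ∈ K) : x ^ Nat.card K = 1 := by
  have h := pow_card_eq_one' (G := K) (x := ⟨x, hx⟩)
  have h2 := congrArg Subtype.val h
  simp only [SubmonoidClass.coe_pow, OneMemClass.coe_one] at h2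
  exact h2

omit [Finite G] in
theorem eq_one_of_pow_eq_one_of_coprime {x : G} {m n : ℕ} (h : Nat.Coprime m n)
    (hm : x ^ m = 1) (hn : x ^ n = 1) : x = 1 := by
  have h1 : orderOf x ∣ m := orderOf_dvd_of_pow_eq_one hm
  have h2 : orderOf x ∣ n := orderOf_dvd_of_pow_eq_one hn
  exact orderOf_eq_one_iff.mp (Nat.eq_one_of_dvd_coprimes h h1 h2)

/-- `|H ⊔ L| = |H| · |L : H ⊓ L|` for `L` normal. -/
theorem card_sup_eq_card_mul_relIndex (H L : Subgroup G) [L.Normal] :
    Nat.card (H ⊔ L : Subgroup G) = Nat.card H * H.relIndex L := by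
  have h1 : Nat.card L * L.relIndex H = Nat.card (H ⊔ L : Subgroup G) := by
    rw [← Subgroup.relIndex_sup_right H L]
    exact Helper35.card_mul_relIndex_of_le le_sup_right
  have h2 : Nat.card (H ⊓ L : Subgroup G) * L.relIndex H = Nat.card H := by
    have h2' : Nat.card (L ⊓ H : Subgroup G) * L.relIndex H = Nat.card H := by
      rw [← Subgroup.inf_relIndex_right L H]
      exact Helper35.card_mul_relIndex_of_le inf_le_right
    rwa [inf_comm] at h2'
  have h3 : Nat.card (H ⊓ L : Subgroup G) * H.relIndex L = Nat.card L := by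
    rw [← Subgroup.inf_relIndex_right H L]
    exact Helper35.card_mul_relIndex_of_le inf_le_right
  have hpos : 0 < Nat.card (H ⊓ L : Subgroup G) := Nat.card_pos
  apply Nat.eq_of_mul_eq_mul_left hpos
  rw [← h1, ← h2, ← h3]
  ring

/-- In a `π`-separable group (`π` the primes of `|H|`, `H ≠ 1` a Hall subgroup, `O = O_{π'}(G)`)
there is a normal subgroup `L = O (H ∩ L)` with `H ∩ L ≠ 1`. -/
theorem tiH_sep_structure {H : Subgroup G} (hHcop : (Nat.card H).Coprime H.index)
    (hsep : ∃ (n : ℕ) (M : Fin (n + 1) → Subgroup G), M 0 = ⊥ ∧ M (Fin.last n) = ⊤ ∧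
      Monotone M ∧ (∀ i, (M i).Normal) ∧
      ∀ i : Fin n, (∀ q : ℕ, q.Prime → q ∣ (M i.castSucc).relIndex (M i.succ) → q ∣ Nat.card H) ∨
        ((M i.castSucc).relIndex (M i.succ)).Coprime (Nat.card H))
    (hH1 : H ≠ ⊥) {O : Subgroup G} (hOn : O.Normal) (hOc : (Nat.card O).Coprime (Nat.card H))
    (hOmax : ∀ K : Subgroup G, K.Normal → (Nat.card K).Coprime (Nat.card H) → K ≤ O) :
    ∃ L : Subgroup G, L.Normal ∧ O ⊔ (H ⊓ L) = L ∧ H ⊓ L ≠ ⊥ := by
  obtain ⟨n, M, h0, hlast, hmono, hnorm, hfac⟩ := hsep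
  by_contra hcon
  have key : ∀ i : Fin (n + 1), M i ≤ O := by
    intro i
    induction i using Fin.induction with
    | zero => rw [h0]; exact bot_le
    | succ i ih =>
      by_contra hnot
      apply hcon
      have hXn : (M i.succ).Normal := hnorm _
      have hYX : M i.castSucc ≤ M i.succ := hmono (Fin.castSucc_lt_succ).le
      have hLn : (M i.succ ⊔ O).Normal := inferInstance
      have hd : O.relIndex (M i.succ ⊔ O) = O.relIndex (M i.succ) :=
        Subgroup.relIndex_sup_right (M i.succ) O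
      have hd1 : O.relIndex (M i.succ) ≠ 1 := fun h => hnot (Subgroup.relIndex_eq_one.mp h)
      have hdd : O.relIndex (M i.succ) ∣ (M i.castSucc).relIndex (M i.succ) :=
        Subgroup.relIndex_dvd_of_le_left (M i.succ) ih
      have hcardL : Nat.card O * O.relIndex (M i.succ) = Nat.card (M i.succ ⊔ O : Subgroup G) := by
        rw [← hd]; exact Helper35.card_mul_relIndex_of_le le_sup_right
      rcases hfac i with hA | hB
      · have hdπ : ∀ q : ℕ, q.Prime → q ∣ O.relIndex (M i.succ) → q ∣ Nat.card H :=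
          fun q hq h => hA q hq (h.trans hdd)
        have he : (H.relIndex (M i.succ ⊔ O)).Coprime (Nat.card H) := by
          have h1 := card_sup_eq_card_mul_relIndex H (M i.succ ⊔ O)
          have h2 : Nat.card (H ⊔ (M i.succ ⊔ O) : Subgroup G) ∣ Nat.card H * H.index := by
            rw [Subgroup.card_mul_index]; exact Subgroup.card_subgroup_dvd_card _
          rw [h1] at h2
          have h3 : H.relIndex (M i.succ ⊔ O) ∣ H.index :=
            Nat.dvd_of_mul_dvd_mul_left Nat.card_pos h2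
          exact (Nat.Coprime.coprime_dvd_right h3 hHcop).symm
        have hcardL2 : Nat.card (H ⊓ (M i.succ ⊔ O) : Subgroup G) * H.relIndex (M i.succ ⊔ O) =
            Nat.card (M i.succ ⊔ O : Subgroup G) := by
          rw [← Subgroup.inf_relIndex_right H (M i.succ ⊔ O)]
          exact Helper35.card_mul_relIndex_of_le inf_le_right
        have hH₁ : Nat.card (H ⊓ (M i.succ ⊔ O) : Subgroup G) = O.relIndex (M i.succ) := by
          apply Nat.dvd_antisymm
          · have h1 : Nat.card (H ⊓ (M i.succ ⊔ O) : Subgroup G) ∣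
                Nat.card O * O.relIndex (M i.succ) := by
              rw [hcardL]; exact Subgroup.card_dvd_of_le inf_le_right
            have h2 : (Nat.card (H ⊓ (M i.succ ⊔ O) : Subgroup G)).Coprime (Nat.card O) :=
              (Nat.Coprime.coprime_dvd_right (Subgroup.card_dvd_of_le inf_le_left) hOc).symm
            exact h2.dvd_of_dvd_mul_left h1
          · have h1 : O.relIndex (M i.succ) ∣
                Nat.card (H ⊓ (M i.succ ⊔ O) : Subgroup G) * H.relIndex (M i.succ ⊔ O) := by
              rw [hcardL2, ← hcardL]; exact dvd_mul_left _ _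
            have h2 : (O.relIndex (M i.succ)).Coprime (H.relIndex (M i.succ ⊔ O)) := by
              apply Nat.coprime_of_dvd
              intro q hq hq1 hq2
              exact hq.one_lt.ne' (Nat.eq_one_of_dvd_coprimes he hq2 (hdπ q hq hq1))
            exact h2.dvd_of_dvd_mul_right h1
        refine ⟨M i.succ ⊔ O, hLn, ?_, ?_⟩
        · have hinf : O ⊓ (H ⊓ (M i.succ ⊔ O)) = ⊥ :=
            disjoint_iff.mp (Subgroup.disjoint_of_coprime_natCard
              (Nat.Coprime.coprime_dvd_right (Subgroup.card_dvd_of_le inf_le_left) hOc))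
          have hcard := Helper35.card_sup_of_le_normalizer (N := O) (H := H ⊓ (M i.succ ⊔ O))
            (by rw [Subgroup.normalizer_eq_top]; exact le_top) hinf
          have hle : O ⊔ (H ⊓ (M i.succ ⊔ O)) ≤ M i.succ ⊔ O := sup_le le_sup_right inf_le_right
          exact Subgroup.eq_of_le_of_card_ge hle (by rw [hcard, hH₁, hcardL])
        · intro h
          rw [h, Subgroup.card_bot] at hH₁
          exact hd1 hH₁.symm
      · have hLO : M i.succ ⊔ O ≤ O := hOmax _ hLn (by
          rw [← hcardL]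
          exact Nat.Coprime.mul_left hOc (Nat.Coprime.coprime_dvd_left hdd hB))
        exact absurd (le_sup_left.trans hLO) hnot
  have htop : O = ⊤ := top_le_iff.mp (hlast ▸ key (Fin.last n))
  apply hH1
  rw [htop, Subgroup.card_top] at hOc
  have h1 : Nat.card H = 1 :=
    Nat.eq_one_of_dvd_coprimes hOc (Subgroup.card_subgroup_dvd_card H) dvd_rfl
  exact Subgroup.card_eq_one.mp h1   -- H = ⊥

omit [Finite G] in
/-- If `H` is TI and not normal, it does not centralise `O`. -/
theorem tiH_not_le_centralizer {H : Subgroup G} (hTI : Cfsg.IsTISubset (H : Set G))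
    (hnn : ¬ H.Normal) {O L : Subgroup G} (hOn : O.Normal)
    (hOc : (Nat.card O).Coprime (Nat.card H)) (hL : L.Normal) (hOL : O ⊔ (H ⊓ L) = L)
    (hH1 : H ⊓ L ≠ ⊥) : ¬ O ≤ centralizer (H : Set G) := by
  intro hcent
  apply hnn
  rw [← Subgroup.normalizer_eq_top_iff, eq_top_iff]
  intro g _
  obtain ⟨⟨x, hx⟩, hx1'⟩ := (Subgroup.ne_bot_iff_exists_ne_one (H := H ⊓ L)).mp hH1
  have hx1 : x ≠ 1 := fun h => hx1' (Subtype.ext h)
  have hyL : g * x * g⁻¹ ∈ L := hL.conj_mem x hx.2 g
  rw [← hOL] at hyL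
  obtain ⟨o, ho, h, hh, hy⟩ := Helper35.exists_mul_of_mem_sup_of_le_normalizer (N := O)
    (A := H ⊓ L) (by rw [Subgroup.normalizer_eq_top]; exact le_top) hyL
  have hcomm : Commute o h := (Subgroup.mem_centralizer_iff.mp (hcent ho) h hh.1).symm
  have hpow : (g * x * g⁻¹) ^ Nat.card H = 1 := by
    rw [conj_pow, pow_card_eq_one_of_mem hx.1]; group
  have ho1 : o ^ Nat.card H = 1 := by
    rw [hy, hcomm.mul_pow, pow_card_eq_one_of_mem hh.1, mul_one] at hpow
    exact hpow
  have ho : o = 1 := eq_one_of_pow_eq_one_of_coprime hOc (pow_card_eq_one_of_mem ho) ho1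
  refine tiH_mem_normalizer hTI hx.1 hx1 ?_
  rw [hy, ho, one_mul]
  exact hh.1

/-- Abelian subgroups of a non-normal TI Hall subgroup (acting on `O`) are cyclic. -/
theorem tiH_abelian_cyclic {H : Subgroup G} (hTI : Cfsg.IsTISubset (H : Set G))
    {O : Subgroup G} (hOn : O.Normal) (hOc : (Nat.card O).Coprime (Nat.card H))
    (hnc : ¬ O ≤ centralizer (H : Set G)) {E : Subgroup G} (hEH : E ≤ H)
    (hEab : ∀ a ∈ E, ∀ b ∈ E, a * b = b * a) : ∃ a ∈ E, zpowers a = E := by
  by_contra hE
  apply hnc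
  have hEO : E ≤ normalizer (O : Set G) := by rw [Subgroup.normalizer_eq_top]; exact le_top
  have hcop : (Nat.card E).Coprime (Nat.card O) :=
    (Nat.Coprime.coprime_dvd_right (Subgroup.card_dvd_of_le hEH) hOc).symm
  have hgen := Helper35.coprime_gen_nonidentity hEab hE hEO hcop
  have hHO : H ⊓ O = ⊥ := disjoint_iff.mp (Subgroup.disjoint_of_coprime_natCard hOc.symm)
  have hHnO : H ≤ normalizer (O : Set G) := by rw [Subgroup.normalizer_eq_top]; exact le_top
  rw [hgen]
  refine iSup₂_le ?_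
  intro B hB
  obtain ⟨⟨b, hb⟩, hb1'⟩ := (Subgroup.ne_bot_iff_exists_ne_one (H := B)).mp hB.2
  have hb1 : b ≠ 1 := fun h => hb1' (Subtype.ext h)
  intro c hc
  have hcb : b * c = c * b := Subgroup.mem_centralizer_iff.mp hc.2 b hb
  have hcM : c ∈ normalizer (H : Set G) := by
    refine tiH_mem_normalizer hTI (hEH (hB.1 hb)) hb1 ?_
    rw [← hcb, mul_inv_cancel_right]
    exact hEH (hB.1 hb)
  exact Helper35.mem_centralizer_of_mem_normalizer hHnO hHO hc.1 hcM

end sep

section zgroup

variable {G : Type u} [Group G]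

theorem isCyclic_of_exists_zpowers {K : Subgroup G} (h : ∃ a ∈ K, zpowers a = K) :
    IsCyclic K := by
  obtain ⟨a, ha, h⟩ := h
  refine ⟨⟨⟨a, ha⟩, fun x => ?_⟩⟩
  have hx : (x : G) ∈ zpowers a := h ▸ x.2
  obtain ⟨k, hk⟩ := Subgroup.mem_zpowers_iff.mp hx
  exact ⟨k, Subtype.ext (by simpa using hk)⟩

/-- In a finite cyclic group an element killed by `p` lies in the subgroup generated by any
element of order `p`. -/
theorem mem_zpowers_of_isCyclic {C : Type*} [Group C] [Finite C] [IsCyclic C] {p : ℕ}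
    (hp : 0 < p) {x y : C} (hx : orderOf x = p) (hy : y ^ p = 1) : y ∈ zpowers x := by
  classical
  have := Fintype.ofFinite C
  have h1 := IsCyclic.card_pow_eq_one_le (α := C) hp
  have hsub : (Finset.univ.filter (fun a : C => a ∈ zpowers x)) ⊆
      Finset.univ.filter (fun a : C => a ^ p = 1) := by
    intro a ha
    simp only [Finset.mem_filter, Finset.mem_univ, true_and] at ha ⊢
    obtain ⟨k, rfl⟩ := Subgroup.mem_zpowers_iff.mp ha
    rw [← zpow_natCast, ← zpow_mul, mul_comm, zpow_mul, zpow_natCast, ← hx, pow_orderOf_eq_one,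
      one_zpow]
  have hcard : (Finset.univ.filter (fun a : C => a ∈ zpowers x)).card = p := by
    rw [← hx, ← Nat.card_zpowers, Nat.card_eq_fintype_card, Fintype.card_subtype]
  have heq := Finset.eq_of_subset_of_card_le hsub (by rw [hcard]; exact h1)
  have hmem : y ∈ Finset.univ.filter (fun a : C => a ^ p = 1) := by simp [hy]
  rw [← heq] at hmem
  simpa using hmem

variable [Finite G]

/-- If all abelian subgroups of `H` are cyclic, commuting elements of order `p` generate the
same subgroup. -/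
theorem mem_zpowers_of_abelian_cyclic {H : Subgroup G}
    (habel : ∀ E : Subgroup G, E ≤ H → (∀ a ∈ E, ∀ b ∈ E, a * b = b * a) →
      ∃ a ∈ E, zpowers a = E) {p : ℕ} (hp : 0 < p) {x y : G} (hx : x ∈ H) (hy : y ∈ H)
    (hxy : x * y = y * x) (hox : orderOf x = p) (hoy : y ^ p = 1) : y ∈ zpowers x := by
  have hcomm : ∀ a ∈ ({x, y} : Set G), ∀ b ∈ ({x, y} : Set G), a * b = b * a := by
    rintro a (rfl | rfl) b (rfl | rfl)
    · rfl
    · exact hxy
    · exact hxy.symm
    · rfl
  have hEH : Subgroup.closure ({x, y} : Set G) ≤ H :=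
    (Subgroup.closure_le H).mpr (by rintro a (rfl | rfl) <;> assumption)
  have hEab : ∀ a ∈ Subgroup.closure ({x, y} : Set G), ∀ b ∈ Subgroup.closure ({x, y} : Set G),
      a * b = b * a := by
    intro a ha b hb
    have hc := Subgroup.isMulCommutative_closure hcomm
    have := mul_comm' (⟨a, ha⟩ : Subgroup.closure ({x, y} : Set G)) ⟨b, hb⟩
    exact congrArg Subtype.val this
  obtain ⟨e, he, hEe⟩ := habel _ hEH hEab
  have hxE : x ∈ zpowers e := hEe ▸ Subgroup.subset_closure (by simp)
  have hyE : y ∈ zpowers e := hEe ▸ Subgroup.subset_closure (by simp)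
  have h := mem_zpowers_of_isCyclic (C := zpowers e) hp (x := ⟨x, hxE⟩) (y := ⟨y, hyE⟩)
    (by rw [← hox]; exact Subgroup.orderOf_mk _ _) (Subtype.ext (by simpa using hoy))
  obtain ⟨k, hk⟩ := Subgroup.mem_zpowers_iff.mp h
  exact Subgroup.mem_zpowers_iff.mpr ⟨k, by simpa using congrArg Subtype.val hk⟩

/-- If all abelian subgroups of `H` are cyclic and the Sylow `2`-subgroups of `H` are abelian,
then all Sylow subgroups of `H` are cyclic. -/
theorem isZGroup_of_abelian_cyclic {H : Subgroup G}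
    (habel : ∀ E : Subgroup G, E ≤ H → (∀ a ∈ E, ∀ b ∈ E, a * b = b * a) →
      ∃ a ∈ E, zpowers a = E)
    (h2 : ∀ P : Sylow 2 H, IsMulCommutative (P : Subgroup H)) : IsZGroup H := by
  refine ⟨fun p hpp P => ?_⟩
  have hp : Fact p.Prime := ⟨hpp⟩
  have hcyc : ∀ T : Subgroup H, (∀ a ∈ T, ∀ b ∈ T, a * b = b * a) → IsCyclic T := by
    intro T hT
    have hE := habel (T.map H.subtype) (Subgroup.map_subtype_le _) (by
      rintro _ ⟨a, ha, rfl⟩ _ ⟨b, hb, rfl⟩
      rw [← map_mul, ← map_mul, hT a ha b hb])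
    obtain ⟨_, ⟨a, ha, rfl⟩, hz⟩ := hE
    apply isCyclic_of_exists_zpowers
    refine ⟨a, ha, ?_⟩
    apply Subgroup.map_injective H.subtype_injective
    rw [MonoidHom.map_zpowers]; exact hz
  by_cases hp2 : p = 2
  · subst hp2
    have := h2 P
    exact hcyc P (fun a ha b hb => by
      have := mul_comm' (⟨a, ha⟩ : (P : Subgroup H)) ⟨b, hb⟩
      exact congrArg Subtype.val this)
  · have hP := P.isPGroup'
    have huniq : ∀ A B : Subgroup (P : Subgroup H), Nat.card A = p → Nat.card B = p → A = B := by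
      intro A B hA hB
      have hnt : Nontrivial (P : Subgroup H) := by
        rw [← Finite.one_lt_card_iff_nontrivial]
        have h1 : Nat.card A ∣ Nat.card (P : Subgroup H) := Subgroup.card_subgroup_dvd_card A
        rw [hA] at h1
        exact lt_of_lt_of_le hpp.one_lt (Nat.le_of_dvd Nat.card_pos h1)
      have hcnt := hP.center_nontrivial
      have hpc : p ∣ Nat.card (Subgroup.center (P : Subgroup H)) := by
        obtain ⟨k, hk⟩ := (hP.to_subgroup (Subgroup.center (P : Subgroup H))).exists_card_eq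
        have hk0 : k ≠ 0 := by
          intro h0
          rw [h0, pow_zero] at hk
          exact (Finite.one_lt_card_iff_nontrivial.mpr hcnt).ne' hk
        rw [hk]; exact dvd_pow_self p hk0
      obtain ⟨z, hz⟩ := exists_prime_orderOf_dvd_card' (G := Subgroup.center (P : Subgroup H)) p hpc
      have hzo : orderOf (z : (P : Subgroup H)) = p := by rw [Subgroup.orderOf_coe]; exact hz
      have key : ∀ A : Subgroup (P : Subgroup H), Nat.card A = p →
          A = zpowers (z : (P : Subgroup H)) := by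
        intro A hA
        have hAnt : Nontrivial A := by
          rw [← Finite.one_lt_card_iff_nontrivial, hA]; exact hpp.one_lt
        obtain ⟨a, ha1⟩ := exists_ne (1 : A)
        have hao : orderOf (a : (P : Subgroup H)) = p := by
          rw [Subgroup.orderOf_coe]
          have h1 : orderOf a ∣ p := (orderOf_dvd_natCard a).trans (dvd_of_eq hA)
          rcases (Nat.dvd_prime hpp).mp h1 with h | h
          · exact absurd (orderOf_eq_one_iff.mp h) ha1
          · exact h
        have hcomm : (((a : (P : Subgroup H)) : H) : G) * (((z : (P : Subgroup H)) : H) : G) =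
            (((z : (P : Subgroup H)) : H) : G) * (((a : (P : Subgroup H)) : H) : G) := by
          have h1 := Subgroup.mem_center_iff.mp z.2 (a : (P : Subgroup H))
          have h2 := congrArg (fun w : (P : Subgroup H) => ((w : H) : G)) h1
          simpa using h2
        have hmem := mem_zpowers_of_abelian_cyclic habel hpp.pos
          (x := (((a : (P : Subgroup H)) : H) : G)) (y := (((z : (P : Subgroup H)) : H) : G))
          (SetLike.coe_mem _) (SetLike.coe_mem _) hcomm
          (by rw [Subgroup.orderOf_coe, Subgroup.orderOf_coe, hao])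
          (by
            have h1 := pow_orderOf_eq_one (z : (P : Subgroup H))
            rw [hzo] at h1
            have h2 := congrArg (fun w : (P : Subgroup H) => ((w : H) : G)) h1
            simpa using h2)
        obtain ⟨k, hk⟩ := Subgroup.mem_zpowers_iff.mp hmem
        have hk' : (a : (P : Subgroup H)) ^ k = (z : (P : Subgroup H)) := by
          apply Subtype.ext; apply Subtype.ext
          simpa using hk
        have hle : zpowers (z : (P : Subgroup H)) ≤ A := by
          rw [Subgroup.zpowers_le, ← hk']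
          exact A.zpow_mem a.2 k
        refine (Subgroup.eq_of_le_of_card_ge hle ?_).symm
        rw [Nat.card_zpowers, hzo, hA]
      rw [key A hA, key B hB]
    rcases Cfsg.Agent.S0016.result (G := (P : Subgroup H)) p hP huniq with h | ⟨h, _⟩
    · exact h
    · exact absurd h hp2

end zgroup

section frattini

variable {G : Type u} [Group G] [Finite G]

/-- Frattini argument: `G = O · N_G(H)`. -/
theorem tiH_sup_normalizer_eq_top {H : Subgroup G} (hTI : Cfsg.IsTISubset (H : Set G))
    {O L : Subgroup G} (hOn : O.Normal) (hOc : (Nat.card O).Coprime (Nat.card H))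
    (hL : L.Normal) (hOL : O ⊔ (H ⊓ L) = L) (hH1 : H ⊓ L ≠ ⊥)
    (hsolv : Group.IsSolvable H) : O ⊔ normalizer (H : Set G) = ⊤ := by
  rw [eq_top_iff]
  intro g _
  have hAN : H ⊓ L ≤ normalizer (O : Set G) := by rw [Subgroup.normalizer_eq_top]; exact le_top
  have hcop : (Nat.card (H ⊓ L : Subgroup G)).Coprime (Nat.card O) :=
    (Nat.Coprime.coprime_dvd_right (Subgroup.card_dvd_of_le inf_le_left) hOc).symm
  have hB : MulAut.conj g • (H ⊓ L) ≤ O ⊔ (H ⊓ L) := by
    rw [hOL]
    have h1 := Helper35.conj_smul_le_conj_smul (g := g) (inf_le_right : H ⊓ L ≤ L)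
    rwa [Helper35.conj_smul_normal g L] at h1
  obtain ⟨n, hn, hnB⟩ := Helper35.isz hAN hcop
    (Or.inl (Helper35.isSolvable_of_le inf_le_left hsolv)) hB (Helper35.card_conj_smul g _)
  obtain ⟨⟨x, hx⟩, hx1'⟩ := (Subgroup.ne_bot_iff_exists_ne_one (H := H ⊓ L)).mp hH1
  have hx1 : x ≠ 1 := fun h => hx1' (Subtype.ext h)
  have h1 : g * x * g⁻¹ ∈ MulAut.conj n • (H ⊓ L) := by
    rw [hnB]; exact Helper35.conj_mem_conj_smul hx
  rw [Helper35.mem_conj_smul] at h1
  have h2 : (n⁻¹ * g) * x * (n⁻¹ * g)⁻¹ ∈ H := by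
    have : (n⁻¹ * g) * x * (n⁻¹ * g)⁻¹ = n⁻¹ * (g * x * g⁻¹) * n := by group
    rw [this]; exact h1.1
  have h3 : n⁻¹ * g ∈ normalizer (H : Set G) := tiH_mem_normalizer hTI hx.1 hx1 h2
  have : g = n * (n⁻¹ * g) := by group
  rw [this]
  exact Subgroup.mul_mem_sup hn h3

end frattini

section zaction

variable {G : Type u} [Group G]

/-- The commutator subgroup of the normaliser of a cyclic subgroup centralises it. -/
theorem commutator_normalizer_le_centralizer_of_isCyclic (A : Subgroup G) [hA : IsCyclic A] :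
    ⁅normalizer (A : Set G), normalizer (A : Set G)⁆ ≤ centralizer (A : Set G) := by
  let _ := (hA.mulAutMulEquiv _).toMonoidHom.commGroupOfInjective (hA.mulAutMulEquiv _).injective
  have h := Abelianization.commutator_subset_ker A.normalizerMonoidHom
  rw [Subgroup.normalizerMonoidHom_ker, ← Subgroup.map_subtype_le_map_subtype,
    Subgroup.map_subtype_commutator,
    Subgroup.map_subgroupOf_eq_of_le (Subgroup.centralizer_le_normalizer _)] at h
  exact h

/-- Transfer into a central subgroup: commutators are killed by the index. -/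
theorem pow_relIndex_eq_one_of_mem_commutator [Finite G] {Z C : Subgroup G}
    (hcent : ∀ z ∈ Z, ∀ c ∈ C, z * c = c * z) {x : G} (hx : x ∈ ⁅C, C⁆) :
    x ^ (Z.relIndex C) = 1 := by
  classical
  have hZ' : ∀ z ∈ Z.subgroupOf C, ∀ c : C, z * c = c * z := fun z hz c =>
    Subtype.ext (hcent _ (Subgroup.mem_subgroupOf.mp hz) _ c.2)
  let _ : CommGroup (Z.subgroupOf C) :=
    { (Z.subgroupOf C).toGroup with
      mul_comm := fun a b => Subtype.ext (hZ' a a.2 b) }
  rw [← Subgroup.map_subtype_commutator] at hx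
  obtain ⟨w, hw, rfl⟩ := hx
  have h1 : MonoidHom.transfer (MonoidHom.id (Z.subgroupOf C)) w = 1 :=
    Abelianization.commutator_subset_ker _ hw
  have key : ∀ (k : ℕ) (g₀ : C), g₀⁻¹ * w ^ k * g₀ ∈ Z.subgroupOf C →
      g₀⁻¹ * w ^ k * g₀ = w ^ k := by
    intro k g₀ h
    have h2 := hZ' _ h g₀⁻¹
    have h3 : g₀⁻¹ * w ^ k = g₀⁻¹ * (g₀⁻¹ * w ^ k * g₀) := by rw [← h2]; group
    exact (mul_left_cancel h3).symm
  rw [MonoidHom.transfer_eq_pow (MonoidHom.id (Z.subgroupOf C)) w key] at h1
  have h4 := congrArg (fun t : Z.subgroupOf C => ((t : C) : G)) h1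
  simpa [Subgroup.relIndex] using h4

variable [Finite G]

/-- If `p` divides `|C_H(Q)|` then `Q` centralises some Sylow `p`-subgroup of the Z-group `H`. -/
theorem zg_exists_sylow_le_centralizer {H Q : Subgroup G} [IsZGroup H]
    (hQH : Q ≤ normalizer (H : Set G)) (hcop : (Nat.card Q).Coprime (Nat.card H))
    {p : ℕ} [hp : Fact p.Prime]
    (hpd : p ∣ Nat.card (H ⊓ centralizer (Q : Set G) : Subgroup G)) :
    ∃ P ∈ Helper35.sylowSet p H, P ≤ centralizer (Q : Set G) := by
  obtain ⟨⟨u, hu⟩, huo⟩ :=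
    exists_prime_orderOf_dvd_card' (G := (H ⊓ centralizer (Q : Set G) : Subgroup G)) p hpd
  have huo' : orderOf u = p := by rw [← huo, Subgroup.orderOf_mk]
  have hu1 : u ≠ 1 := by
    rintro rfl
    rw [orderOf_one] at huo'
    exact hp.out.one_lt.ne huo'
  have hUH : zpowers u ≤ H := Subgroup.zpowers_le.mpr hu.1
  have hUp : IsPGroup p (zpowers u) :=
    IsPGroup.of_card (n := 1) (by rw [Nat.card_zpowers, huo', pow_one])
  have hUQ : Q ≤ normalizer ((zpowers u : Subgroup G) : Set G) := by
    have h1 : zpowers u ≤ centralizer (Q : Set G) := Subgroup.zpowers_le.mpr hu.2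
    exact (Subgroup.le_centralizer_iff.mp h1).trans (Subgroup.centralizer_le_normalizer _)
  obtain ⟨P, hP, hUP, hQP⟩ := Helper35.exists_invariant_sylow_ge hQH hcop
    (Or.inr inferInstance) hUH hUp hUQ
  refine ⟨P, hP, ?_⟩
  have hPp : IsPGroup p P := Helper35.isPGroup_of_mem_sylowSet hP
  have hPc : IsCyclic P := by
    have h1 : IsPGroup p (P.subgroupOf H) := hPp.comap_subtype
    have h2 : IsCyclic (P.subgroupOf H) := IsPGroup.isCyclic_of_isZGroup h1
    exact isCyclic_of_surjective (Subgroup.subgroupOfEquivOfLe hP.1)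
      (Subgroup.subgroupOfEquivOfLe hP.1).surjective
  have hcop' : (Nat.card P).Coprime (Nat.card Q) :=
    (Nat.Coprime.coprime_dvd_right (Subgroup.card_dvd_of_le hP.1) hcop).symm
  rcases IsPGroup.commutator_eq_bot_or_commutator_eq_self hPp hQP hcop' with h | h
  · exact Subgroup.le_centralizer_iff.mp (Subgroup.commutator_eq_bot_iff_le_centralizer.mp h)
  · exfalso
    have hcomm : ∀ x ∈ P, ∀ y ∈ P, x * y = y * x := by
      intro x hx y hy
      have := mul_comm' (⟨x, hx⟩ : P) ⟨y, hy⟩
      exact congrArg Subtype.val this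
    have h3 := Helper35.commutator_inf_centralizer_eq_bot_of_comm hQP hcop'.symm hcomm
    rw [Subgroup.commutator_comm, h] at h3
    have h4 : u ∈ P ⊓ centralizer (Q : Set G) := ⟨hUP (Subgroup.mem_zpowers u), hu.2⟩
    rw [h3] at h4
    exact hu1 (Subgroup.mem_bot.mp h4)

/-- `C_H(Q)` is a Hall subgroup of `G` when `H` is a Hall Z-subgroup and `Q` acts coprimely. -/
theorem zg_centralizer_hall {H Q : Subgroup G} [IsZGroup H]
    (hQH : Q ≤ normalizer (H : Set G)) (hcop : (Nat.card Q).Coprime (Nat.card H))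
    (hHall : (Nat.card H).Coprime H.index) :
    (Nat.card (H ⊓ centralizer (Q : Set G) : Subgroup G)).Coprime
      (H ⊓ centralizer (Q : Set G)).index := by
  by_contra hcon
  obtain ⟨p, hp, hp1, hp2⟩ := Nat.Prime.not_coprime_iff_dvd.mp hcon
  have : Fact p.Prime := ⟨hp⟩
  obtain ⟨P, hP, hPQ⟩ := zg_exists_sylow_le_centralizer hQH hcop hp1
  have hle : P ≤ H ⊓ centralizer (Q : Set G) := le_inf hP.1 hPQ
  have h1 : p ∣ P.index := hp2.trans (Subgroup.index_dvd_of_le hle)
  have h2 : P.relIndex H * H.index = P.index := Subgroup.relIndex_mul_index hP.1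
  have h3 : Nat.card P * P.relIndex H = Nat.card H := Helper35.card_mul_relIndex_of_le hP.1
  have hpH : p ∣ Nat.card H := hp1.trans (Subgroup.card_dvd_of_le inf_le_left)
  have h4 : ¬ p ∣ H.index := fun h => hp.one_lt.ne' (Nat.eq_one_of_dvd_coprimes hHall hpH h)
  have h5 : ¬ p ∣ P.relIndex H := by
    intro h
    have h6 : p ^ (Nat.card H).factorization p * p ∣ Nat.card H := by
      have := Nat.mul_dvd_mul (dvd_of_eq hP.2.symm) h
      rwa [h3] at this
    exact Nat.pow_succ_factorization_not_dvd Nat.card_pos.ne' hp (by rw [pow_succ]; exact h6)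
  rw [← h2] at h1
  rcases (Nat.Prime.dvd_mul hp).mp h1 with h | h
  · exact h5 h
  · exact h4 h

/-- For a Z-group `H` with a coprime operator group `Q`: `[H, Q] ∩ C(Q) = 1`. -/
theorem zg_commutator_inf_centralizer {H Q : Subgroup G} [IsZGroup H]
    (hQH : Q ≤ normalizer (H : Set G)) (hcop : (Nat.card Q).Coprime (Nat.card H)) :
    ⁅H, Q⁆ ⊓ centralizer (Q : Set G) = ⊥ := by
  have hsolv : Group.IsSolvable H := inferInstance
  rw [eq_bot_iff]
  intro x hx
  rw [Subgroup.mem_bot]
  have hAH : ⁅H, H⁆ ≤ H := by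
    rw [← Subgroup.map_subtype_commutator]; exact Subgroup.map_subtype_le _
  have hnormA : ∀ g ∈ normalizer (H : Set G), g ∈ normalizer ((⁅H, H⁆ : Subgroup G) : Set G) := by
    intro q hq
    rw [Helper35.mem_normalizer_iff_conj_smul_eq]
    have h1 : MulAut.conj q • (⁅H, H⁆ : Subgroup G) = ⁅MulAut.conj q • H, MulAut.conj q • H⁆ :=
      Subgroup.map_commutator H H (MulAut.conj q).toMonoidHom
    rw [h1, Helper35.conj_smul_eq_self_of_mem_normalizer hq]
  have hQA : Q ≤ normalizer ((⁅H, H⁆ : Subgroup G) : Set G) := fun q hq => hnormA q (hQH hq)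
  have hHA : H ≤ normalizer ((⁅H, H⁆ : Subgroup G) : Set G) :=
    fun h hh => hnormA h (Subgroup.le_normalizer hh)
  have hxA : x ∈ ⁅H, H⁆ := Helper35.mem_of_mem_commutator_sup_of_mem_centralizer hQH hQA hAH le_rfl
    hcop (Subgroup.mem_sup_left hx.1) hx.2
  have hRH : ⁅H, Q⁆ ≤ H := Helper35.commutator_le_of_le_normalizer hQH
  have hQR : Q ≤ normalizer ((⁅H, Q⁆ : Subgroup G) : Set G) := Helper35.le_normalizer_commutator hQH
  have hRR : ⁅⁅H, Q⁆, Q⁆ = ⁅H, Q⁆ :=
    Helper35.commutator_commutator_eq_of_coprime hQH hcop (Or.inr hsolv)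
  have hQRR : Q ≤ normalizer ((⁅⁅H, Q⁆, ⁅H, Q⁆⁆ : Subgroup G) : Set G) := by
    intro q hq
    rw [Helper35.mem_normalizer_iff_conj_smul_eq]
    have h1 : MulAut.conj q • (⁅⁅H, Q⁆, ⁅H, Q⁆⁆ : Subgroup G) =
        ⁅MulAut.conj q • ⁅H, Q⁆, MulAut.conj q • ⁅H, Q⁆⁆ :=
      Subgroup.map_commutator _ _ (MulAut.conj q).toMonoidHom
    rw [h1, Helper35.conj_smul_eq_self_of_mem_normalizer (hQR hq)]
  have hRRR : ⁅⁅H, Q⁆, ⁅H, Q⁆⁆ ≤ ⁅H, Q⁆ := by
    rw [← Subgroup.map_subtype_commutator]; exact Subgroup.map_subtype_le _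
  have hcopR : (Nat.card Q).Coprime (Nat.card (⁅H, Q⁆ : Subgroup G)) :=
    Nat.Coprime.coprime_dvd_right (Subgroup.card_dvd_of_le hRH) hcop
  have hxRR : x ∈ ⁅⁅H, Q⁆, ⁅H, Q⁆⁆ :=
    Helper35.mem_of_mem_commutator_sup_of_mem_centralizer hQR hQRR hRRR le_rfl hcopR
      (Subgroup.mem_sup_left (by rw [hRR]; exact hx.1)) hx.2
  -- `A = ⁅H, H⁆` is cyclic
  have hAc : IsCyclic (⁅H, H⁆ : Subgroup G) := by
    have hcyc : IsCyclic (commutator H) := IsZGroup.isCyclic_commutator H
    let f := Subgroup.equivMapOfInjective (commutator H) _ H.subtype_injective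
    rw [Subgroup.map_subtype_commutator] at f
    exact isCyclic_of_surjective f f.surjective
  have hRcent : ⁅H, Q⁆ ≤ centralizer ((⁅H, H⁆ : Subgroup G) : Set G) :=
    (Subgroup.commutator_mono hHA hQA).trans
      (commutator_normalizer_le_centralizer_of_isCyclic _)
  have hAA : (⁅H, H⁆ : Subgroup G) ≤ centralizer ((⁅H, H⁆ : Subgroup G) : Set G) :=
    Subgroup.le_centralizer_iff_isMulCommutative.mpr inferInstance
  have hRC : ⁅H, Q⁆ ≤ H ⊓ centralizer ((⁅H, H⁆ : Subgroup G) : Set G) := le_inf hRH hRcent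
  have hAC : (⁅H, H⁆ : Subgroup G) ≤ H ⊓ centralizer ((⁅H, H⁆ : Subgroup G) : Set G) :=
    le_inf hAH hAA
  have hxCC : x ∈ ⁅H ⊓ centralizer ((⁅H, H⁆ : Subgroup G) : Set G),
      H ⊓ centralizer ((⁅H, H⁆ : Subgroup G) : Set G)⁆ := Subgroup.commutator_mono hRC hRC hxRR
  have hpow := pow_relIndex_eq_one_of_mem_commutator (Z := (⁅H, H⁆ : Subgroup G))
    (C := H ⊓ centralizer ((⁅H, H⁆ : Subgroup G) : Set G))
    (fun z hz c hc => Subgroup.mem_centralizer_iff.mp hc.2 z hz) hxCC
  have hdvd : (⁅H, H⁆ : Subgroup G).relIndex (H ⊓ centralizer ((⁅H, H⁆ : Subgroup G) : Set G)) ∣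
      (⁅H, H⁆ : Subgroup G).relIndex H :=
    Dvd.intro _ (Subgroup.relIndex_mul_relIndex _ _ _ hAC inf_le_left)
  have hcopA : (Nat.card (⁅H, H⁆ : Subgroup G)).Coprime ((⁅H, H⁆ : Subgroup G).relIndex H) := by
    have h1 := IsZGroup.coprime_commutator_index H
    have h2 : (⁅H, H⁆ : Subgroup G).subgroupOf H = commutator H := by
      rw [← Subgroup.map_subtype_commutator]
      exact Subgroup.comap_map_eq_self_of_injective H.subtype_injective _
    have h3 : Nat.card (⁅H, H⁆ : Subgroup G) = Nat.card (commutator H) := by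
      rw [← Subgroup.map_subtype_commutator, Subgroup.card_map_of_injective H.subtype_injective]
    rw [h3, Subgroup.relIndex, h2]
    exact h1
  exact eq_one_of_pow_eq_one_of_coprime (Nat.Coprime.coprime_dvd_right hdvd hcopA)
    (pow_card_eq_one_of_mem hxA) hpow

end zaction

end Cfsg.Agent.Helper66
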