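import Mathlib
import Cfsg.Agent.Helper11.FrobThm
import Cfsg.Agent.Helper66.TIHall

/-!
# The Frobenius–Wielandt theorem (helper66)

`M ≤ G`, `Z ⊴ M`, and `M ∩ M^x ≤ Z` for all `x ∉ M`.  Then there is `N ⊴ G` with
`N ⊓ M = Z` and `N ⊔ M = ⊤`.
-/

set_option autoImplicit false

namespace Cfsg.Agent.Helper66

open Cfsg
open scoped ComplexConjugate

section FW

variable {G : Type*} [Group G] [Fintype G]

/-- Induction formula in the Frobenius–Wielandt setting: for class functions of `M` vanishing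
on `Z`, induction followed by restriction is the identity. -/
theorem fw_indFun_apply_of_mem (M Z : Subgroup G) [Fintype M]
    (hF : ∀ x : G, x ∉ M → ∀ m : G, m ∈ M → x⁻¹ * m * x ∈ M → m ∈ Z)
    (φ : M → ℂ) (hφ : IsClassFunction M φ) (hφZ : ∀ m : M, (m : G) ∈ Z → φ m = 0) (m : M) :
    indFun M φ (m : G) = φ m := by
  have hMne : (Nat.card M : ℂ) ≠ 0 := by exact_mod_cast Nat.card_pos.ne'
  have key : ∀ x : G, extendByZero M φ (x⁻¹ * (m : G) * x)
      = extendByZero M (fun _ => φ m) x := by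
    intro x
    by_cases hx : x ∈ M
    · rw [Cfsg.Agent.Helper3.extendByZero_of_mem _ _ hx]
      have hmem : x⁻¹ * (m : G) * x ∈ M := M.mul_mem (M.mul_mem (M.inv_mem hx) m.2) hx
      rw [Cfsg.Agent.Helper3.extendByZero_of_mem _ _ hmem]
      have := hφ m (⟨x, hx⟩⁻¹ : M)
      rw [← this]
      congr 1
      apply Subtype.ext
      simp
    · rw [Cfsg.Agent.Helper3.extendByZero_of_not_mem _ _ hx]
      by_cases hm : x⁻¹ * (m : G) * x ∈ M
      · rw [Cfsg.Agent.Helper3.extendByZero_of_mem _ _ hm]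
        apply hφZ
        have hx' : x⁻¹ ∉ M := fun h => hx (by simpa using M.inv_mem h)
        apply hF x⁻¹ hx' _ hm
        have e : (x⁻¹)⁻¹ * (x⁻¹ * (m : G) * x) * x⁻¹ = (m : G) := by group
        rw [e]
        exact m.2
      · rw [Cfsg.Agent.Helper3.extendByZero_of_not_mem _ _ hm]
  unfold indFun
  simp only [key]
  rw [Cfsg.Agent.Helper3.sum_extendByZero, Finset.sum_const, Finset.card_univ, nsmul_eq_mul,
    ← Nat.card_eq_fintype_card]
  field_simp

/-- Induction of a function vanishing on `Z` vanishes at elements whose conjugates meet `M`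
only inside `Z`. -/
theorem fw_indFun_apply_of_forall (M Z : Subgroup G)
    (φ : M → ℂ) (hφZ : ∀ m : M, (m : G) ∈ Z → φ m = 0) (g : G)
    (hg : ∀ x : G, x⁻¹ * g * x ∈ M → x⁻¹ * g * x ∈ Z) : indFun M φ g = 0 := by
  unfold indFun
  have : ∀ x : G, extendByZero M φ (x⁻¹ * g * x) = 0 := by
    intro x
    by_cases hx : x⁻¹ * g * x ∈ M
    · rw [Cfsg.Agent.Helper3.extendByZero_of_mem _ _ hx]
      exact hφZ _ (hg x hx)
    · exact Cfsg.Agent.Helper3.extendByZero_of_not_mem _ _ hx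
  simp only [this, Finset.sum_const_zero, mul_zero]

/-- If the canonical extension `(θ - θ(1) 1_M)^G + θ(1) 1_G` of an irreducible character `θ`
of `M` restricts to `θ` on `M`, it is an irreducible character of `G`. -/
theorem fwExt_isIrrCharacter (H : Subgroup G) [Fintype H]
    (θ : H → ℂ) (hθ : IsIrrCharacter H θ)
    (hψH : ∀ h : H, indFun H (fun k => θ k - θ 1) (h : G) + θ 1 = θ h) :
    IsIrrCharacter G (fun g => indFun H (fun k => θ k - θ 1) g + θ 1) := by
  have hθc : IsCharacter H θ := Cfsg.Agent.Helper80.isCharacter_of_irr hθ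
  have hθclass : IsClassFunction H θ := Cfsg.Agent.Helper79.isCharacter_isClassFunction hθc
  obtain ⟨d, hd0, hd⟩ := Cfsg.Agent.Helper3.irr_apply_one_eq_nat hθ
  set φ : H → ℂ := fun k => θ k - θ 1 with hφdef
  set ψ : G → ℂ := fun g => indFun H φ g + θ 1 with hψdef
  have hindclass : IsClassFunction G (indFun H φ) :=
    Cfsg.Agent.Helper3.indFun_isClassFunction H φ
  have hψclass : IsClassFunction G ψ := by
    intro g x
    show indFun H φ (x * g * x⁻¹) + θ 1 = indFun H φ g + θ 1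
    rw [hindclass g x]
  have hone : IsCharacter G (fun _ => (1 : ℂ)) := Cfsg.Agent.Helper79.isCharacter_one
  have honeH : IsCharacter H (fun _ => (1 : ℂ)) := Cfsg.Agent.Helper79.isCharacter_one
  have hdec : ∀ f : G → ℂ, IsClassFunction G f →
      classInner ψ f = classInner θ (fun h : H => f h)
        - θ 1 * classInner (fun _ : H => (1 : ℂ)) (fun h : H => f h)
        + θ 1 * classInner (fun _ : G => (1 : ℂ)) f := by
    intro f hf
    have e1 : ψ = fun g => indFun H φ g + θ 1 * (fun _ : G => (1 : ℂ)) g := by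
      funext g
      simp [hψdef]
    rw [e1, Cfsg.Agent.Helper11.classInner_add_left, Cfsg.Agent.Helper11.classInner_const_mul_left,
      Cfsg.Agent.Helper3.frobenius_reciprocity H φ f hf]
    have e2 : φ = fun k => θ k - θ 1 * (fun _ : H => (1 : ℂ)) k := by
      funext k
      simp [hφdef]
    rw [e2, Cfsg.Agent.Helper11.classInner_sub_left, Cfsg.Agent.Helper11.classInner_const_mul_left]
  apply Cfsg.Agent.Helper11.isIrrCharacter_of_norm_one ψ hψclass
  · intro χ
    have hχc : IsCharacter G (χ : G → ℂ) := Cfsg.Agent.Helper79.irr_isCharacter χ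
    have hχclass := Cfsg.Agent.Helper79.isCharacter_isClassFunction hχc
    have hχH : IsCharacter H (fun h : H => (χ : G → ℂ) h) :=
      Cfsg.Agent.Helper79.isCharacter_restrict hχc H
    obtain ⟨n₁, hn₁⟩ := Cfsg.Agent.Helper3.classInner_isCharacter_nat hθc hχH
    obtain ⟨n₂, hn₂⟩ := Cfsg.Agent.Helper3.classInner_isCharacter_nat honeH hχH
    obtain ⟨n₃, hn₃⟩ := Cfsg.Agent.Helper3.classInner_isCharacter_nat hone hχc
    refine ⟨(n₁ : ℤ) - d * n₂ + d * n₃, ?_⟩
    rw [hdec _ hχclass, hn₁, hn₂, hn₃, hd]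
    push_cast
    ring
  · rw [hdec ψ hψclass]
    have e3 : (fun h : H => ψ (h : G)) = θ := funext hψH
    rw [e3]
    have e4 : classInner (fun _ : G => (1 : ℂ)) ψ = classInner (fun _ : H => (1 : ℂ)) θ := by
      rw [Cfsg.Agent.Helper11.classInner_conj_symm ψ (fun _ : G => (1 : ℂ)),
        Cfsg.Agent.Helper11.classInner_conj_symm θ (fun _ : H => (1 : ℂ))]
      congr 1
      rw [hdec _ (fun _ _ => rfl), Cfsg.Agent.Helper11.classInner_one_one,
        Cfsg.Agent.Helper11.classInner_one_one]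
      ring
    rw [e4, Cfsg.Agent.Helper11.classInner_irr_self hθ]
    ring
  · refine ⟨d, hd0, ?_⟩
    have h1 := hψH 1
    rw [Subgroup.coe_one] at h1
    show indFun H φ 1 + θ 1 = (d : ℂ)
    rw [h1, hd]

end FW

/-- **Frobenius–Wielandt**: if `Z ⊴ M ≤ G` and `M ∩ M^x ≤ Z` for all `x ∉ M`, then there is a
normal subgroup `N` of `G` with `N ⊓ M = Z` and `N ⊔ M = ⊤`. -/
theorem frobenius_wielandt {G : Type*} [Group G] [Finite G] (M Z : Subgroup G) (hZM : Z ≤ M)
    (hZn : M ≤ Subgroup.normalizer (Z : Set G))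
    (hF : ∀ x : G, x ∉ M → ∀ m : G, m ∈ M → x⁻¹ * m * x ∈ M → m ∈ Z) :
    ∃ N : Subgroup G, N.Normal ∧ N ⊓ M = Z ∧ N ⊔ M = ⊤ := by
  classical
  have : Fintype G := Fintype.ofFinite G
  have : Fintype M := Fintype.ofFinite M
  -- the characters of `M` trivial on `Z`
  let Θ := {θ : IrrCharacter M // ∀ m : M, (m : G) ∈ Z → θ.1 m = θ.1 1}
  have hφZ : ∀ θ : Θ, ∀ m : M, (m : G) ∈ Z → (fun k => θ.1.1 k - θ.1.1 1) m = 0 := by
    intro θ m hm
    show θ.1.1 m - θ.1.1 1 = 0
    rw [θ.2 m hm, sub_self]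
  have hθclass : ∀ θ : Θ, IsClassFunction M θ.1.1 := fun θ =>
    Cfsg.Agent.Helper79.isCharacter_isClassFunction (Cfsg.Agent.Helper79.irr_isCharacter θ.1)
  have hψH : ∀ (θ : Θ) (h : M),
      indFun M (fun k => θ.1.1 k - θ.1.1 1) (h : G) + θ.1.1 1 = θ.1.1 h := by
    intro θ h
    rw [fw_indFun_apply_of_mem M Z hF (fun k => θ.1.1 k - θ.1.1 1) (fun a b => by
      show θ.1.1 (b * a * b⁻¹) - θ.1.1 1 = θ.1.1 a - θ.1.1 1
      rw [hθclass θ a b]) (hφZ θ) h]
    ring
  have hψirr : ∀ θ : Θ,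
      IsIrrCharacter G (fun g => indFun M (fun k => θ.1.1 k - θ.1.1 1) g + θ.1.1 1) :=
    fun θ => fwExt_isIrrCharacter M θ.1.1 θ.1.2 (hψH θ)
  have hψchar : ∀ θ : Θ,
      IsCharacter G (fun g => indFun M (fun k => θ.1.1 k - θ.1.1 1) g + θ.1.1 1) :=
    fun θ => Cfsg.Agent.Helper80.isCharacter_of_irr (hψirr θ)
  set N : Subgroup G := ⨅ θ : Θ, Cfsg.Agent.Helper79.charKer (hψchar θ) with hNdef
  have hNmem : ∀ g : G, g ∈ N ↔ ∀ θ : Θ,
      indFun M (fun k => θ.1.1 k - θ.1.1 1) g + θ.1.1 1 = θ.1.1 1 := by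
    intro g
    rw [hNdef, Subgroup.mem_iInf]
    refine forall_congr' fun θ => ?_
    rw [Cfsg.Agent.Helper79.mem_charKer]
    have := hψH θ 1
    rw [Subgroup.coe_one] at this
    rw [this]
  have hNnormal : N.Normal :=
    Subgroup.normal_iInf_normal (fun θ => Cfsg.Agent.Helper79.charKer_normal (hψchar θ))
  have hZN : Z ≤ N := by
    intro z hz
    rw [hNmem]
    intro θ
    have := hψH θ ⟨z, hZM hz⟩
    rw [this]
    exact θ.2 ⟨z, hZM hz⟩ hz
  have hNMZ : N ⊓ M = Z := by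
    apply le_antisymm
    · intro g hg
      obtain ⟨hgN, hgM⟩ := Subgroup.mem_inf.mp hg
      have hZ'n : (Z.subgroupOf M).Normal := by
        constructor
        intro n hn g
        rw [Subgroup.mem_subgroupOf] at hn ⊢
        have h1 := hZn g.2
        rw [Subgroup.mem_normalizer_iff] at h1
        have h2 := (h1 (n : G)).mp hn
        simpa using h2
      have hall : ∀ χ : IrrCharacter (M ⧸ Z.subgroupOf M),
          (χ : M ⧸ Z.subgroupOf M → ℂ) ((⟨g, hgM⟩ : M) : M ⧸ Z.subgroupOf M)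
            = (χ : M ⧸ Z.subgroupOf M → ℂ) 1 := by
        intro χ
        have hirr : IsIrrCharacter M (fun m : M => (χ : M ⧸ Z.subgroupOf M → ℂ) (m : M ⧸ Z.subgroupOf M)) :=
          (Cfsg.Agent.Helper79.isIrrCharacter_quotient_iff (Z.subgroupOf M) _).mp χ.2
        have htriv : ∀ m : M, (m : G) ∈ Z →
            (fun m : M => (χ : M ⧸ Z.subgroupOf M → ℂ) (m : M ⧸ Z.subgroupOf M)) m
              = (fun m : M => (χ : M ⧸ Z.subgroupOf M → ℂ) (m : M ⧸ Z.subgroupOf M)) 1 := by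
          intro m hm
          show (χ : M ⧸ Z.subgroupOf M → ℂ) (m : M ⧸ Z.subgroupOf M)
            = (χ : M ⧸ Z.subgroupOf M → ℂ) ((1 : M) : M ⧸ Z.subgroupOf M)
          have h1 : (m : M ⧸ Z.subgroupOf M) = 1 :=
            (QuotientGroup.eq_one_iff m).mpr (Subgroup.mem_subgroupOf.mpr hm)
          rw [h1]
          rfl
        have h2 := (hNmem g).mp hgN ⟨⟨_, hirr⟩, htriv⟩
        have h3 := hψH ⟨⟨_, hirr⟩, htriv⟩ ⟨g, hgM⟩
        have h4 : (χ : M ⧸ Z.subgroupOf M → ℂ) ((⟨g, hgM⟩ : M) : M ⧸ Z.subgroupOf M)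
            = (χ : M ⧸ Z.subgroupOf M → ℂ) ((1 : M) : M ⧸ Z.subgroupOf M) := h3.symm.trans h2
        rw [h4]
        rfl
      have hconj : IsConj (((⟨g, hgM⟩ : M) : M ⧸ Z.subgroupOf M)) 1 :=
        Cfsg.Agent.Helper79.isConj_iff_forall_irr_eq.mpr hall
      have h2 : ((⟨g, hgM⟩ : M) : M ⧸ Z.subgroupOf M) = 1 := isConj_one_left.mp hconj
      have h3 := (QuotientGroup.eq_one_iff _).mp h2
      exact Subgroup.mem_subgroupOf.mp h3
    · exact le_inf hZN hZM
  refine ⟨N, hNnormal, hNMZ, ?_⟩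
  -- counting
  let D : Set G := {g | ∃ x : G, x⁻¹ * g * x ∈ M ∧ x⁻¹ * g * x ∉ Z}
  have hDN : ∀ g : G, g ∉ D → g ∈ N := by
    intro g hg
    rw [hNmem]
    intro θ
    rw [fw_indFun_apply_of_forall M Z _ (hφZ θ) g, zero_add]
    intro x hx
    by_contra hxZ
    exact hg ⟨x, hx, hxZ⟩
  let f : (G ⧸ M) × {m : M // (m : G) ∉ Z} → G :=
    fun p => p.1.out * (p.2.1 : G) * p.1.out⁻¹
  have hDf : D ⊆ Set.range f := by
    rintro g ⟨x, hxM, hxZ⟩
    have h1 : ((x : G ⧸ M).out)⁻¹ * x ∈ M := by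
      have := QuotientGroup.out_eq' (x : G ⧸ M)
      exact QuotientGroup.eq.mp this
    set m₀ := ((x : G ⧸ M).out)⁻¹ * x with hm₀
    have hm₀' : m₀ * (x⁻¹ * g * x) * m₀⁻¹ ∈ M := M.mul_mem (M.mul_mem h1 hxM) (M.inv_mem h1)
    have hnZ : m₀ * (x⁻¹ * g * x) * m₀⁻¹ ∉ Z := by
      intro hz
      apply hxZ
      have h2 := hZn (M.inv_mem h1)
      rw [Subgroup.mem_normalizer_iff] at h2
      have h3 := (h2 _).mp hz
      have e : m₀⁻¹ * (m₀ * (x⁻¹ * g * x) * m₀⁻¹) * m₀⁻¹⁻¹ = x⁻¹ * g * x := by group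
      rw [e] at h3
      exact h3
    refine ⟨((x : G ⧸ M), ⟨⟨_, hm₀'⟩, hnZ⟩), ?_⟩
    show (x : G ⧸ M).out * (m₀ * (x⁻¹ * g * x) * m₀⁻¹) * ((x : G ⧸ M).out)⁻¹ = g
    rw [hm₀]
    group
  have hcardD : D.ncard ≤ M.index * (Nat.card M - Nat.card Z) := by
    have h1 : D.ncard ≤ (Set.range f).ncard := Set.ncard_le_ncard hDf (Set.toFinite _)
    have h2 : (Set.range f).ncard ≤ Nat.card ((G ⧸ M) × {m : M // (m : G) ∉ Z}) := by
      rw [← Set.image_univ]
      refine (Set.ncard_image_le (Set.toFinite _)).trans ?_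
      rw [Set.ncard_univ]
    have h3 : Nat.card {m : M // (m : G) ∉ Z} = Nat.card M - Nat.card Z := by
      have e : {m : M // (m : G) ∈ Z} ≃ Z :=
        { toFun := fun m => ⟨m.1.1, m.2⟩
          invFun := fun z => ⟨⟨z.1, hZM z.2⟩, z.2⟩
          left_inv := fun m => rfl
          right_inv := fun z => rfl }
      have e1 := Nat.card_congr e
      have e2 := Nat.card_congr (Equiv.sumCompl (fun m : M => (m : G) ∈ Z))
      rw [Nat.card_sum, e1] at e2
      omega
    rw [Nat.card_prod, h3] at h2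
    exact h1.trans h2
  have hcardG : Nat.card G ≤ Nat.card N + D.ncard := by
    have h1 : (Set.univ : Set G) ⊆ (N : Set G) ∪ D := by
      intro g _
      by_cases hg : g ∈ D
      · exact Or.inr hg
      · exact Or.inl (hDN g hg)
    have h2 := Set.ncard_le_ncard h1 (Set.toFinite _)
    rw [Set.ncard_univ] at h2
    have h3 := Set.ncard_union_le (N : Set G) D
    have h4 : (N : Set G).ncard = Nat.card N := (Nat.card_coe_set_eq _).symm
    omega
  have hZpos : 0 < Nat.card Z := Nat.card_pos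
  have hZleM : Nat.card Z ≤ Nat.card M := Subgroup.card_le_of_le hZM
  have hidx : M.index * Nat.card M = Nat.card G := M.index_mul_card
  have hNlow : M.index * Nat.card Z ≤ Nat.card N := by
    have h5 : M.index * (Nat.card M - Nat.card Z) + M.index * Nat.card Z = M.index * Nat.card M := by
      rw [← Nat.mul_add, Nat.sub_add_cancel hZleM]
    omega
  have hsup : Nat.card (M ⊔ N : Subgroup G) = Nat.card M * M.relIndex N :=
    card_sup_eq_card_mul_relIndex M N
  have hrel : Nat.card Z * M.relIndex N = Nat.card N := by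
    have h6 := Helper35.card_mul_relIndex_of_le (inf_le_left : N ⊓ M ≤ N)
    rw [hNMZ] at h6
    rw [← h6]
    congr 1
    rw [← hNMZ, Subgroup.inf_relIndex_left]
  have hfin : Nat.card G ≤ Nat.card (M ⊔ N : Subgroup G) := by
    have h7 : Nat.card G * Nat.card Z ≤ Nat.card (M ⊔ N : Subgroup G) * Nat.card Z := by
      calc Nat.card G * Nat.card Z = Nat.card M * (M.index * Nat.card Z) := by
            rw [← hidx]; ring
        _ ≤ Nat.card M * Nat.card N := Nat.mul_le_mul_left _ hNlow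
        _ = Nat.card (M ⊔ N : Subgroup G) * Nat.card Z := by
            rw [hsup, ← hrel]; ring
    exact Nat.le_of_mul_le_mul_right h7 hZpos
  rw [sup_comm]
  exact Subgroup.eq_top_of_le_card _ hfin

end Cfsg.Agent.Helper66
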