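import Mathlib
import Cfsg.Agent.Helper11.FrobAction
import Cfsg.Agent.Helper1.FrobKernel
import Cfsg.Agent.Helper19.ThompsonThesis
import Cfsg.Agent.Helper1.FpfMain
import Cfsg.Agent.Helper49.OddCyclic
import Cfsg.Agent.Helper66.PGroupMisc

/-!
# A toolkit for Frobenius groups (helper66)

For a finite group `X`, a Frobenius complement `C` and a subgroup `N` whose carrier is the
Frobenius kernel of `C`: product decomposition, centralizers of kernel elements, coprimality,
nilpotency of the kernel (Thompson), uniqueness of the involution of the complement, abelian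
subgroups of the complement are cyclic, nilpotent complements of odd order are cyclic.
-/

set_option autoImplicit false

namespace Cfsg.Agent.Helper66

open Cfsg

universe u

section FrobTools

variable {X : Type u} [Group X] [Finite X] {C N : Subgroup X}

theorem frobT_compl (hC : IsFrobeniusComplement C) (hN : (N : Set X) = frobeniusKernel C) :
    N.Normal ∧ Subgroup.IsComplement' N C := by
  obtain ⟨N', hN', hn, hc⟩ := Cfsg.Agent.Helper11.frobenius_kernel_subgroup C hC
  have : N = N' := SetLike.coe_injective (hN.trans hN'.symm)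
  subst this
  exact ⟨hn, hc⟩

theorem frobT_disj (hC : IsFrobeniusComplement C) (hN : (N : Set X) = frobeniusKernel C)
    {x : X} (hxN : x ∈ N) (hxC : x ∈ C) : x = 1 := by
  have h := (frobT_compl hC hN).2.disjoint
  have h2 : x ∈ N ⊓ C := ⟨hxN, hxC⟩
  rwa [disjoint_iff.mp h, Subgroup.mem_bot] at h2

theorem frobT_mul (hC : IsFrobeniusComplement C) (hN : (N : Set X) = frobeniusKernel C)
    (y : X) : ∃ n ∈ N, ∃ c ∈ C, y = n * c := by
  obtain ⟨x, hx, -⟩ := ((frobT_compl hC hN).2).existsUnique y
  exact ⟨x.1.1, x.1.2, x.2.1, x.2.2, hx.symm⟩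

omit [Finite X] in
theorem frobT_F (hC : IsFrobeniusComplement C) {g x : X} (hg : g ∉ C) (hx : x ∈ C)
    (hgx : g⁻¹ * x * g ∈ C) : x = 1 :=
  ((Cfsg.Agent.Helper71.isFrobeniusComplement_iff C).mp hC).2.2 g hg x hx hgx

theorem frobT_cover (hC : IsFrobeniusComplement C) (hN : (N : Set X) = frobeniusKernel C)
    {g : X} (hg : g ∉ N) : ∃ x ∈ N, ∃ h ∈ C, g = x * h * x⁻¹ := by
  have hg' : g ∉ frobeniusKernel C := by rw [← hN]; exact hg
  simp only [frobeniusKernel, Set.mem_ofPred_eq, not_or, not_forall, not_not] at hg'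
  obtain ⟨-, y, hy⟩ := hg'
  rw [Cfsg.Agent.Helper71.mem_conj_smul] at hy
  obtain ⟨n, hn, c, hc, rfl⟩ := frobT_mul hC hN y
  refine ⟨n, hn, n⁻¹ * g * n, ?_, by group⟩
  have h1 : n⁻¹ * g * n = c * ((n * c)⁻¹ * g * (n * c)) * c⁻¹ := by group
  rw [h1]
  exact C.mul_mem (C.mul_mem hc hy) (C.inv_mem hc)

theorem frobT_cent (hC : IsFrobeniusComplement C) (hN : (N : Set X) = frobeniusKernel C)
    {n x : X} (hn : n ∈ N) (hn1 : n ≠ 1) (hx : x * n = n * x) : x ∈ N := by
  by_contra hxN
  obtain ⟨y, hy, c, hc, rfl⟩ := frobT_cover hC hN hxN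
  have hNn := (frobT_compl hC hN).1
  have hmN : y⁻¹ * n * y ∈ N := by
    have := hNn.conj_mem n hn y⁻¹
    simpa using this
  have hm1 : y⁻¹ * n * y ≠ 1 := by
    intro h
    apply hn1
    have h2 : n = y * (y⁻¹ * n * y) * y⁻¹ := by group
    rw [h2, h]; group
  have hcm : c * (y⁻¹ * n * y) = (y⁻¹ * n * y) * c := by
    calc c * (y⁻¹ * n * y) = y⁻¹ * ((y * c * y⁻¹) * n) * y := by group
      _ = y⁻¹ * (n * (y * c * y⁻¹)) * y := by rw [hx]
      _ = (y⁻¹ * n * y) * c := by group
  have hmc : (y⁻¹ * n * y)⁻¹ * c * (y⁻¹ * n * y) = c := by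
    rw [mul_assoc, hcm]; group
  have hmC : y⁻¹ * n * y ∉ C := fun h => hm1 (frobT_disj hC hN hmN h)
  have hc1 : c = 1 := frobT_F hC hmC hc (by rw [hmc]; exact hc)
  apply hxN
  rw [hc1]
  simp

theorem frobT_ne_bot (hC : IsFrobeniusComplement C) (hN : (N : Set X) = frobeniusKernel C) :
    N ≠ ⊥ := by
  intro h
  have h1 := (frobT_compl hC hN).2
  rw [h, Subgroup.isComplement'_bot_left] at h1
  exact hC.2.1 h1

theorem frobT_exists_ne_one (hC : IsFrobeniusComplement C)
    (hN : (N : Set X) = frobeniusKernel C) : ∃ n ∈ N, n ≠ 1 := by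
  by_contra hcon
  push Not at hcon
  exact frobT_ne_bot hC hN ((Subgroup.eq_bot_iff_forall N).mpr hcon)

theorem frobT_card (hC : IsFrobeniusComplement C) (hN : (N : Set X) = frobeniusKernel C) :
    Nat.card N * Nat.card C = Nat.card X :=
  (frobT_compl hC hN).2.card_mul_card

theorem frobT_index (hC : IsFrobeniusComplement C) (hN : (N : Set X) = frobeniusKernel C) :
    N.index = Nat.card C :=
  (frobT_compl hC hN).2.symm.index_eq_card

theorem frobT_coprime (hC : IsFrobeniusComplement C) (hN : (N : Set X) = frobeniusKernel C) :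
    (Nat.card N).Coprime (Nat.card C) := by
  obtain ⟨q, hq⟩ := Cfsg.Agent.Helper71.exists_index_add_relIndex (⊥ : Subgroup X) C bot_le
    (fun g hg x hx hgx => by rw [Subgroup.mem_bot]; exact frobT_F hC hg hx hgx)
  rw [Subgroup.relIndex_bot_left, (frobT_compl hC hN).2.index_eq_card] at hq
  have h1 : Nat.gcd (Nat.card N) (Nat.card C) ∣ 1 := by
    have h2 : Nat.gcd (Nat.card N) (Nat.card C) ∣ Nat.card N + Nat.card C :=
      Nat.dvd_add (Nat.gcd_dvd_left _ _) (Nat.gcd_dvd_right _ _)
    rw [hq] at h2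
    exact (Nat.dvd_add_right (Dvd.dvd.mul_left (Nat.gcd_dvd_right _ _) q)).mp h2
  exact Nat.dvd_one.mp h1

theorem mulAut_pow_apply_iterate {M : Type*} [Group M] (φ : MulAut M) (k : ℕ) (g : M) :
    (φ ^ k) g = (⇑φ)^[k] g := by
  induction k with
  | zero => simp
  | succ k ih => rw [pow_succ', MulAut.mul_apply, ih, Function.iterate_succ_apply']

theorem frobT_nilpotent (hC : IsFrobeniusComplement C) (hN : (N : Set X) = frobeniusKernel C) :
    Group.IsNilpotent N := by
  obtain ⟨N', hN', -, hnil⟩ :=
    Cfsg.Agent.Helper1.frobenius_kernel_nilpotent_of_thompson C hC (by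
      intro M φ hφ p hp hord
      refine Cfsg.Agent.Helper19.thompson_thesis hp (φ : M →* M) ⟨fun g hg => hφ g hg, ?_⟩
      intro g
      have h1 : φ ^ p = 1 := by rw [← hord]; exact pow_orderOf_eq_one φ
      have h2 := mulAut_pow_apply_iterate φ p g
      rw [h1] at h2
      exact h2.symm)
  have : N = N' := SetLike.coe_injective (hN.trans hN'.symm)
  subst this
  exact hnil

theorem frobT_invol (hC : IsFrobeniusComplement C) (hN : (N : Set X) = frobeniusKernel C)
    {c d : X} (hc : c ∈ C) (hd : d ∈ C) (hc2 : orderOf c = 2) (hd2 : orderOf d = 2) : c = d := by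
  have hNn := (frobT_compl hC hN).1
  have key : ∀ t ∈ C, orderOf t = 2 → ∀ x ∈ N, t * x * t⁻¹ = x⁻¹ := by
    intro t ht ht2
    have htt : t * t = 1 := by rw [← pow_two, ← ht2]; exact pow_orderOf_eq_one t
    have ht1 : t ≠ 1 := by
      intro h
      rw [h, orderOf_one] at ht2
      omega
    apply inverts_of_fpf N t htt (fun x hx => hNn.conj_mem x hx t)
    intro x hx hfix
    by_contra hx1
    have h3 : t * x = x * t := by
      calc t * x = (t * x * t⁻¹) * t := by group
        _ = x * t := by rw [hfix]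
    exact ht1 (frobT_disj hC hN (frobT_cent hC hN hx hx1 h3) ht)
  obtain ⟨n, hn, hn1⟩ := frobT_exists_ne_one hC hN
  have h1 := key c hc hc2 n⁻¹ (N.inv_mem hn)
  have h2 := key d hd hd2 n hn
  have hdd : d * d = 1 := by rw [← pow_two, ← hd2]; exact pow_orderOf_eq_one d
  have h3 : (c * d) * n = n * (c * d) := by
    have h4 : (c * d) * n * (c * d)⁻¹ = n := by
      calc (c * d) * n * (c * d)⁻¹ = c * (d * n * d⁻¹) * c⁻¹ := by group
        _ = c * n⁻¹ * c⁻¹ := by rw [h2]
        _ = n := by rw [h1, inv_inv]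
    calc (c * d) * n = ((c * d) * n * (c * d)⁻¹) * (c * d) := by group
      _ = n * (c * d) := by rw [h4]
  have h5 : c * d = 1 := frobT_disj hC hN (frobT_cent hC hN hn hn1 h3) (C.mul_mem hc hd)
  calc c = c * (d * d) := by rw [hdd, mul_one]
    _ = (c * d) * d := by group
    _ = d := by rw [h5, one_mul]

theorem frobT_abelian_cyclic (hC : IsFrobeniusComplement C)
    (hN : (N : Set X) = frobeniusKernel C) (A : Subgroup X) (hA : A ≤ C)
    [IsMulCommutative A] : IsCyclic A := by
  have hNn := (frobT_compl hC hN).1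
  have hnil := frobT_nilpotent hC hN
  have hnt : Nontrivial N := (Subgroup.nontrivial_iff_ne_bot N).mpr (frobT_ne_bot hC hN)
  have hVn : ((Subgroup.center N).map N.subtype).Normal :=
    ConjAct.normal_of_characteristic_of_normal
  have hVcomm : IsMulCommutative ((Subgroup.center N).map N.subtype) := by
    refine ⟨⟨?_⟩⟩
    rintro ⟨a, a', ha', rfl⟩ ⟨b, b', hb', rfl⟩
    apply Subtype.ext
    show N.subtype a' * N.subtype b' = N.subtype b' * N.subtype a'
    rw [← map_mul, ← map_mul, (Subgroup.mem_center_iff.mp ha' b')]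
  have hV1 : (Subgroup.center N).map N.subtype ≠ ⊥ := by
    rw [Ne, Subgroup.map_eq_bot_iff_of_injective _ N.subtype_injective]
    exact Group.IsNilpotent.center_ne_bot _
  apply Cfsg.Agent.Helper1.fpf_abelian_isCyclic A ((Subgroup.center N).map N.subtype) hV1
  · rw [Subgroup.normalizer_eq_top]
    exact le_top
  · intro a ha ha1
    rw [Subgroup.eq_bot_iff_forall]
    rintro v ⟨hv, hvc⟩
    by_contra hv1
    have hvN : v ∈ N := by
      obtain ⟨v', -, rfl⟩ := hv
      exact v'.2
    have h3 : a * v = v * a := by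
      have := Subgroup.mem_centralizer_iff.mp hvc a (Set.mem_singleton a)
      exact this
    exact ha1 (frobT_disj hC hN (frobT_cent hC hN hvN hv1 h3) (hA ha))

theorem frobT_abelian_cyclic' (hC : IsFrobeniusComplement C)
    (hN : (N : Set X) = frobeniusKernel C) {A : Type*} [Group A] (hA : ∀ a b : A, a * b = b * a)
    (f : A →* X) (hf : Function.Injective f) (hfC : ∀ a, f a ∈ C) : IsCyclic A := by
  have hcomm : IsMulCommutative f.range := by
    refine ⟨⟨?_⟩⟩
    rintro ⟨a, a', rfl⟩ ⟨b, b', rfl⟩
    apply Subtype.ext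
    show f a' * f b' = f b' * f a'
    rw [← map_mul, ← map_mul, hA]
  have h1 : IsCyclic f.range := frobT_abelian_cyclic hC hN f.range (by
    rintro _ ⟨a, rfl⟩
    exact hfC a)
  exact isCyclic_of_surjective (MonoidHom.ofInjective hf).symm
    (MonoidHom.ofInjective hf).symm.surjective

theorem frobT_cyclic_of_nilpotent_odd (hC : IsFrobeniusComplement C)
    (hN : (N : Set X) = frobeniusKernel C) [hnil : Group.IsNilpotent C]
    (hodd : Odd (Nat.card C)) : IsCyclic C := by
  have hsyl : ∀ (p : ℕ) [Fact p.Prime] (P : Sylow p C),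
      ∀ a b : (P : Subgroup C), a * b = b * a := by
    intro p hp P
    by_cases hp2 : p = 2
    · subst hp2
      have h1 : Nat.card (P : Subgroup C) = 1 := by
        obtain ⟨k, hk⟩ := (IsPGroup.iff_card.mp P.isPGroup')
        have h2 : Nat.card (P : Subgroup C) ∣ Nat.card C := Subgroup.card_subgroup_dvd_card _
        rw [hk] at h2 ⊢
        rcases Nat.eq_zero_or_pos k with h | h
        · rw [h, pow_zero]
        · exfalso
          have h3 : 2 ∣ Nat.card C := dvd_trans (dvd_pow_self 2 h.ne') h2
          exact (Nat.not_even_iff_odd.mpr hodd) (even_iff_two_dvd.mpr h3)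
      have hsub : Subsingleton (P : Subgroup C) := (Nat.card_eq_one_iff_unique.mp h1).1
      intro a b
      rw [Subsingleton.elim a b]
    · have h1 : IsCyclic (P : Subgroup C) := by
        apply Cfsg.Agent.Helper49.isCyclic_of_pRankLE_one hp2 P.isPGroup'
        intro A hA hAp
        have h2 : IsCyclic A := frobT_abelian_cyclic' hC hN (fun a b => mul_comm' a b)
          (C.subtype.comp ((P : Subgroup C).subtype.comp A.subtype))
          (by
            intro a b hab
            exact Subtype.ext (Subtype.ext (Subtype.ext hab)))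
          (fun a => (a : C).2)
        have h3 : Monoid.exponent A ∣ p :=
          Monoid.exponent_dvd_of_forall_pow_eq_one (fun a => Subtype.ext (hAp a a.2))
        rw [IsCyclic.exponent_eq_card] at h3
        rw [pow_one]
        exact Nat.le_of_dvd hp.out.pos h3
      intro a b
      exact mul_comm' a b
  have hcomm : ∀ a b : C, a * b = b * a := by
    obtain ⟨e⟩ := ((Group.isNilpotent_of_finite_tfae (G := C)).out 0 4).mp hnil
    intro a b
    have h1 : ∀ u v : ((p : (Nat.card C).primeFactors) → (P : Sylow (p : ℕ) C) →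
        (P : Subgroup C)), u * v = v * u := by
      intro u v
      funext p P
      haveI : Fact (p : ℕ).Prime := ⟨Nat.prime_of_mem_primeFactors p.2⟩
      exact hsyl p P (u p P) (v p P)
    have h2 := h1 (e.symm a) (e.symm b)
    rw [← map_mul, ← map_mul] at h2
    exact e.symm.injective h2
  exact frobT_abelian_cyclic' hC hN hcomm C.subtype C.subtype_injective (fun a => a.2)

end FrobTools

/-- If the image of `g` has order `m`, a power of `g` has order `m`. -/
theorem orderOf_pow_div_of_map {G Q : Type*} [Group G] [Finite G] [Group Q] (φ : G →* Q)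
    (g : G) (m : ℕ) (hm : orderOf (φ g) = m) : orderOf (g ^ (orderOf g / m)) = m :=
  orderOf_pow_orderOf_div (orderOf_pos g).ne' (hm ▸ orderOf_map_dvd φ g)

/-- A finite cyclic group has elements of every order dividing its order. -/
theorem exists_orderOf_eq_of_dvd_card_cyclic {A : Type*} [Group A] [Finite A] [IsCyclic A]
    {d : ℕ} (hd : d ∣ Nat.card A) : ∃ a : A, orderOf a = d := by
  obtain ⟨g, hg⟩ := IsCyclic.exists_ofOrder_eq_natCard (α := A)
  exact ⟨g ^ (orderOf g / d), orderOf_pow_orderOf_div (orderOf_pos g).ne' (hg ▸ hd)⟩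

end Cfsg.Agent.Helper66
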