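/-
Helper library of seat helper66: groups with the same order type (same number of elements of
each order), normal Hall subgroups from normal Sylow subgroups, elements of order 15 in solvable
groups with cyclic Sylow 3- and 5-subgroups, element orders of `SL(2,5)`.
-/
import Mathlib
import Cfsg.Agent.Helper66.TIHall
import Cfsg.Agent.Helper35.SZ
import Cfsg.Agent.Helper5.SLCard

set_option autoImplicit false

namespace Cfsg.Agent.Helper66

open Subgroup

universe u

section ot

/-- Groups with the same order type admit an order-preserving bijection. -/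
theorem ot_exists_equiv {X Y : Type*} [Group X] [Finite X] [Group Y] [Finite Y]
    (hT : ∀ m : ℕ, Nat.card {g : X // orderOf g = m} = Nat.card {h : Y // orderOf h = m}) :
    ∃ φ : X ≃ Y, ∀ x, orderOf (φ x) = orderOf x := by
  classical
  have he : ∀ m : ℕ, Nonempty ({g : X // orderOf g = m} ≃ {h : Y // orderOf h = m}) :=
    fun m => Finite.card_eq.mp (hT m)
  refine ⟨(Equiv.sigmaFiberEquiv (orderOf : X → ℕ)).symm.trans
    ((Equiv.sigmaCongrRight (fun m => (he m).some)).trans
      (Equiv.sigmaFiberEquiv (orderOf : Y → ℕ))), ?_⟩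
  intro g
  exact ((he (orderOf g)).some ⟨g, rfl⟩).2

/-- If a Sylow `p`-subgroup of `X` contains all `p`-elements of `X` and `Y` has the same order
type, then the Sylow `p`-subgroups of `Y` are normal. -/
theorem ot_normal_sylow {X Y : Type*} [Group X] [Finite X] [Group Y] [Finite Y] (φ : X ≃ Y)
    (hφ : ∀ x, orderOf (φ x) = orderOf x) (p : ℕ) [hp : Fact p.Prime] (P : Sylow p X)
    (hP : ∀ x : X, (∃ k, orderOf x = p ^ k) → x ∈ P) (Q : Sylow p Y) :
    (Q : Subgroup Y).Normal := by
  have hcard : Nat.card X = Nat.card Y := Nat.card_congr φ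
  have hPmem : ∀ x : X, x ∈ P ↔ ∃ k, orderOf x = p ^ k := by
    intro x
    constructor
    · intro hx
      obtain ⟨k, hk⟩ := P.isPGroup' ⟨x, hx⟩
      have : x ^ p ^ k = 1 := congrArg Subtype.val hk
      exact ((Nat.dvd_prime_pow hp.out).mp (orderOf_dvd_of_pow_eq_one this)).imp (fun j hj => hj.2)
    · exact hP x
  have hcG : Nat.card {g : X // ∃ k, orderOf g = p ^ k} = Nat.card P :=
    Nat.card_congr (Equiv.subtypeEquivRight (fun x => (hPmem x).symm))
  have hcH : Nat.card {h : Y // ∃ k, orderOf h = p ^ k} =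
      Nat.card {g : X // ∃ k, orderOf g = p ^ k} := by
    symm
    apply Nat.card_congr
    exact Equiv.subtypeEquiv φ (fun g => by rw [hφ])
  have hQ : Nat.card Q = Nat.card P := by
    rw [Sylow.card_eq_multiplicity, Sylow.card_eq_multiplicity, hcard]
  have hsub : (Q : Set Y) ⊆ {h : Y | ∃ k, orderOf h = p ^ k} := by
    intro h hh
    obtain ⟨k, hk⟩ := Q.isPGroup' ⟨h, hh⟩
    have : h ^ p ^ k = 1 := congrArg Subtype.val hk
    exact ((Nat.dvd_prime_pow hp.out).mp (orderOf_dvd_of_pow_eq_one this)).imp (fun j hj => hj.2)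
  have heq : (Q : Set Y) = {h : Y | ∃ k, orderOf h = p ^ k} := by
    apply Set.eq_of_subset_of_ncard_le hsub _ (Set.toFinite _)
    rw [← Nat.card_coe_set_eq, ← Nat.card_coe_set_eq]
    show Nat.card {h : Y // ∃ k, orderOf h = p ^ k} ≤ Nat.card Q
    rw [hcH, hcG, hQ]
  constructor
  intro h hh g
  have h1 : h ∈ (Q : Set Y) := hh
  rw [heq] at h1
  have h2 : g * h * g⁻¹ ∈ (Q : Set Y) := by
    rw [heq]
    obtain ⟨k, hk⟩ := h1
    exact ⟨k, by rw [← hk]; exact MulEquiv.orderOf_eq (MulAut.conj g) h⟩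
  exact h2

/-- A normal subgroup whose order is the product of the orders of given normal subgroups of
pairwise coprime prime-power orders. -/
theorem exists_normal_of_normal_sylows {Y : Type*} [Group Y] [Finite Y] (S : Finset ℕ)
    (hS : ∀ p ∈ S, p.Prime)
    (h : ∀ p ∈ S, ∃ Q : Subgroup Y, Q.Normal ∧ Nat.card Q = p ^ (Nat.card Y).factorization p) :
    ∃ M : Subgroup Y, M.Normal ∧ Nat.card M = ∏ p ∈ S, p ^ (Nat.card Y).factorization p := by
  classical
  induction S using Finset.induction_on with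
  | empty => exact ⟨⊥, inferInstance, by simp⟩
  | insert q S hq ih =>
    obtain ⟨M, hMn, hMc⟩ := ih (fun p hp => hS p (Finset.mem_insert_of_mem hp))
      (fun p hp => h p (Finset.mem_insert_of_mem hp))
    obtain ⟨Q, hQn, hQc⟩ := h q (Finset.mem_insert_self q S)
    refine ⟨M ⊔ Q, inferInstance, ?_⟩
    have hcop : (Nat.card M).Coprime (Nat.card Q) := by
      rw [hMc, hQc]
      apply Nat.Coprime.prod_left
      intro p hp
      apply Nat.Coprime.pow
      exact (Nat.coprime_primes (hS p (Finset.mem_insert_of_mem hp))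
        (hS q (Finset.mem_insert_self q S))).mpr (fun h => hq (h ▸ hp))
    have hbot : M ⊓ Q = ⊥ := (Subgroup.disjoint_of_coprime_natCard hcop).eq_bot
    have h1 := card_sup_eq_card_mul_relIndex M Q
    have h2 : M.relIndex Q = Nat.card Q := by
      rw [← Subgroup.inf_relIndex_right, hbot, Subgroup.relIndex_bot_left]
    rw [h1, h2, Finset.prod_insert hq, hMc, hQc, mul_comm]

end ot

section fifteen

/-- An element normalising a cyclic subgroup `V`, of order prime to `φ(|V|)`, centralises it. -/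
theorem commute_of_coprime_totient {C : Type*} [Group C] [Finite C] (V : Subgroup C)
    [IsCyclic V] {y : C} (hy : y ∈ normalizer (V : Set C))
    (hcop : (orderOf y).Coprime (Nat.totient (Nat.card V))) {v : C} (hv : v ∈ V) :
    y * v = v * y := by
  have h1 : (V.normalizerMonoidHom ⟨y, hy⟩) ^ orderOf y = 1 := by
    rw [← map_pow]
    have : (⟨y, hy⟩ : normalizer (V : Set C)) ^ orderOf y = 1 :=
      Subtype.ext (by simp [pow_orderOf_eq_one])
    rw [this, map_one]
  have h2 : (V.normalizerMonoidHom ⟨y, hy⟩) ^ Nat.totient (Nat.card V) = 1 := by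
    rw [← IsCyclic.card_mulAut V]
    exact pow_card_eq_one'
  have h3 := eq_one_of_pow_eq_one_of_coprime hcop h1 h2
  have h4 : (⟨y, hy⟩ : normalizer (V : Set C)) ∈ V.normalizerMonoidHom.ker := h3
  rw [Subgroup.normalizerMonoidHom_ker, Subgroup.mem_subgroupOf, Subgroup.mem_centralizer_iff] at h4
  exact (h4 v hv).symm

theorem coprime_totient_prime_pow {p q : ℕ} (hp : p.Prime) (hq : q.Prime) (h1 : q ≠ p)
    (h2 : ¬ q ∣ p - 1) (k : ℕ) : q.Coprime (Nat.totient (p ^ k)) := by
  rcases Nat.eq_zero_or_pos k with rfl | hk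
  · simp
  · rw [Nat.totient_prime_pow hp hk]
    apply Nat.Coprime.mul_right
    · exact Nat.Coprime.pow_right _ ((Nat.coprime_primes hq hp).mpr h1)
    · exact (Nat.Prime.coprime_iff_not_dvd hq).mpr h2

/-- A normal `p`-subgroup contained in a cyclic Sylow subgroup is cyclic. -/
theorem isCyclic_of_le_sylow {C : Type*} [Group C] {p : ℕ} {V : Subgroup C} (P : Sylow p C)
    (hc : IsCyclic P) (hVP : V ≤ P) : IsCyclic V :=
  isCyclic_of_surjective (Subgroup.subgroupOfEquivOfLe hVP).toMonoidHom
    (Subgroup.subgroupOfEquivOfLe hVP).surjective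

/-- The product of commuting elements of orders `3` and `5` has order `15`. -/
theorem orderOf_mul_eq_fifteen {C : Type*} [Group C] {x y : C} (hx : orderOf x = 3)
    (hy : orderOf y = 5) (hcomm : x * y = y * x) : orderOf (x * y) = 15 := by
  have hc : Commute x y := hcomm
  rw [hc.orderOf_mul_eq_mul_orderOf_of_coprime (by rw [hx, hy]; norm_num), hx, hy]

/-- A finite solvable group with cyclic Sylow `3`- and `5`-subgroups and order divisible by `15`
has an element of order `15`. -/
theorem exists_orderOf_fifteen_aux (n : ℕ) : ∀ (C : Type u) [Group C] [Finite C],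
    Nat.card C = n → Group.IsSolvable C → (∀ P : Sylow 3 C, IsCyclic P) →
    (∀ P : Sylow 5 C, IsCyclic P) → 15 ∣ Nat.card C → ∃ x : C, orderOf x = 15 := by
  induction n using Nat.strong_induction_on with
  | _ n ih =>
    intro C _ _ hn hsolv h3 h5 h15
    have hp3 : Fact (Nat.Prime 3) := ⟨by norm_num⟩
    have hp5 : Fact (Nat.Prime 5) := ⟨by norm_num⟩
    have hcpos : 0 < Nat.card C := Nat.card_pos
    have hnt : Nontrivial C := by
      rw [← Finite.one_lt_card_iff_nontrivial]
      have := Nat.le_of_dvd hcpos h15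
      omega
    obtain ⟨r, hr, V, hVn, hVp, hV1⟩ := Cfsg.Agent.Helper35.exists_normal_pgroup_of_isSolvable C
    have hVnorm : ∀ y : C, y ∈ normalizer (V : Set C) := fun y => by
      rw [normalizer_eq_top_iff.mpr hVn]; trivial
    obtain ⟨x3, hx3⟩ := exists_prime_orderOf_dvd_card' (G := C) 3 (dvd_trans (by norm_num) h15)
    obtain ⟨x5, hx5⟩ := exists_prime_orderOf_dvd_card' (G := C) 5 (dvd_trans (by norm_num) h15)
    obtain ⟨k, hk⟩ := IsPGroup.iff_card.mp hVp
    have hrV : r ∣ Nat.card V := by
      rcases Nat.eq_zero_or_pos k with rfl | hk0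
      · exfalso
        apply hV1
        rw [pow_zero] at hk
        exact (Subgroup.card_eq_one).mp hk
      · rw [hk]; exact dvd_pow_self r hk0.ne'
    by_cases hr3 : r = 3
    · subst hr3
      obtain ⟨P, hVP⟩ := hVp.exists_le_sylow
      have hVc : IsCyclic V := isCyclic_of_le_sylow P (h3 P) hVP
      obtain ⟨v, hv⟩ := exists_prime_orderOf_dvd_card' (G := V) 3 hrV
      have hv' : orderOf (v : C) = 3 := by rw [Subgroup.orderOf_coe, hv]
      have hcomm : x5 * (v : C) = (v : C) * x5 :=
        commute_of_coprime_totient V (hVnorm x5) (by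
          rw [hx5, hk]
          exact coprime_totient_prime_pow (by norm_num) (by norm_num) (by norm_num) (by norm_num) k)
          v.2
      exact ⟨(v : C) * x5, orderOf_mul_eq_fifteen hv' hx5 hcomm.symm⟩
    by_cases hr5 : r = 5
    · subst hr5
      obtain ⟨P, hVP⟩ := hVp.exists_le_sylow
      have hVc : IsCyclic V := isCyclic_of_le_sylow P (h5 P) hVP
      obtain ⟨v, hv⟩ := exists_prime_orderOf_dvd_card' (G := V) 5 hrV
      have hv' : orderOf (v : C) = 5 := by rw [Subgroup.orderOf_coe, hv]
      have hcomm : x3 * (v : C) = (v : C) * x3 :=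
        commute_of_coprime_totient V (hVnorm x3) (by
          rw [hx3, hk]
          exact coprime_totient_prime_pow (by norm_num) (by norm_num) (by norm_num) (by norm_num) k)
          v.2
      exact ⟨x3 * (v : C), orderOf_mul_eq_fifteen hx3 hv' hcomm⟩
    -- the quotient
    have hmul : Nat.card C = Nat.card (C ⧸ V) * Nat.card V :=
      Subgroup.card_eq_card_quotient_mul_card_subgroup V
    have hV2 : 1 < Nat.card V := V.one_lt_card_iff_ne_bot.mpr hV1
    have hlt : Nat.card (C ⧸ V) < n := by
      rw [← hn, hmul]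
      have hqpos : 0 < Nat.card (C ⧸ V) := Nat.card_pos
      nlinarith
    have hcop15 : Nat.Coprime 15 (Nat.card V) := by
      rw [hk]
      apply Nat.Coprime.pow_right
      have h15 : (15 : ℕ) = 3 * 5 := by norm_num
      rw [h15]
      apply Nat.Coprime.mul_left
      · exact (Nat.coprime_primes (by norm_num) hr.out).mpr (fun h => hr3 h.symm)
      · exact (Nat.coprime_primes (by norm_num) hr.out).mpr (fun h => hr5 h.symm)
    have h15q : 15 ∣ Nat.card (C ⧸ V) := by
      rw [hmul] at h15
      exact hcop15.dvd_of_dvd_mul_right h15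
    have hsurj : Function.Surjective (QuotientGroup.mk' V) := QuotientGroup.mk'_surjective V
    have hcyc : ∀ (p : ℕ) [Fact p.Prime], (∀ P : Sylow p C, IsCyclic P) →
        ∀ Q : Sylow p (C ⧸ V), IsCyclic Q := by
      intro p _ hP Q
      obtain ⟨P, rfl⟩ := Sylow.mapSurjective_surjective hsurj p Q
      have := hP P
      exact isCyclic_of_surjective ((QuotientGroup.mk' V).subgroupMap (P : Subgroup C))
        ((QuotientGroup.mk' V).subgroupMap_surjective (P : Subgroup C))
    obtain ⟨z, hz⟩ := ih _ hlt (C ⧸ V) rfl inferInstance (hcyc 3 h3) (hcyc 5 h5) h15q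
    obtain ⟨w, rfl⟩ := hsurj z
    have hdvd : 15 ∣ orderOf w := by
      rw [← hz]
      exact orderOf_map_dvd (QuotientGroup.mk' V) w
    exact ⟨w ^ (orderOf w / 15), orderOf_pow_orderOf_div (orderOf_pos w).ne' hdvd⟩

theorem exists_orderOf_fifteen {C : Type u} [Group C] [Finite C] (hsolv : Group.IsSolvable C)
    (h3 : ∀ P : Sylow 3 C, IsCyclic P) (h5 : ∀ P : Sylow 5 C, IsCyclic P)
    (h15 : 15 ∣ Nat.card C) : ∃ x : C, orderOf x = 15 :=
  exists_orderOf_fifteen_aux _ C rfl hsolv h3 h5 h15

end fifteen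

section sl25

open Matrix

/-- Coefficients of `A ^ k = a • A + b • 1` for a `2 × 2` matrix of determinant one and
trace `t`. -/
def sl25Coeff (t : ZMod 5) : ℕ → ZMod 5 × ZMod 5
  | 0 => (0, 1)
  | k + 1 => ((sl25Coeff t k).1 * t + (sl25Coeff t k).2, -(sl25Coeff t k).1)

theorem sl25_sq (A : Matrix (Fin 2) (Fin 2) (ZMod 5)) (hdet : A.det = 1) :
    A * A = A.trace • A - 1 := by
  have hd : A 0 0 * A 1 1 - A 0 1 * A 1 0 = 1 := by rw [← Matrix.det_fin_two]; exact hdet
  ext i j
  fin_cases i <;> fin_cases j <;>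
    simp [Matrix.mul_apply, Fin.sum_univ_two, Matrix.trace_fin_two] <;>
    first | ring1 | linear_combination (-1 : ZMod 5) * hd

theorem sl25_pow (A : Matrix (Fin 2) (Fin 2) (ZMod 5)) (hdet : A.det = 1) (k : ℕ) :
    A ^ k = (sl25Coeff A.trace k).1 • A + (sl25Coeff A.trace k).2 • (1 : Matrix (Fin 2) (Fin 2) (ZMod 5)) := by
  induction k with
  | zero => simp [sl25Coeff]
  | succ k ih =>
    rw [pow_succ, ih, add_mul, smul_mul_assoc, smul_mul_assoc, one_mul, sl25_sq A hdet]
    simp only [sl25Coeff]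
    rw [smul_sub, smul_smul, add_smul, neg_smul]
    abel

theorem sl25_coeff_cases : ∀ t : ZMod 5, sl25Coeff t 4 = (0, 1) ∨ sl25Coeff t 6 = (0, 1) ∨
    sl25Coeff t 5 = (0, 1) ∨ sl25Coeff t 10 = (0, 1) ∨ sl25Coeff t 3 = (0, 1) := by
  decide

/-- `SL(2,5)` has no element of order `15`. -/
theorem sl25_orderOf_ne_fifteen (M : Matrix.SpecialLinearGroup (Fin 2) (ZMod 5)) :
    orderOf M ≠ 15 := by
  intro h15
  have hpow : ∀ k : ℕ, sl25Coeff (M : Matrix (Fin 2) (Fin 2) (ZMod 5)).trace k = (0, 1) →
      M ^ k = 1 := by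
    intro k hk
    apply Subtype.ext
    have := sl25_pow (M : Matrix (Fin 2) (Fin 2) (ZMod 5)) M.2 k
    rw [hk] at this
    simpa using this
  have hdvd : ∀ k : ℕ, M ^ k = 1 → 15 ∣ k := fun k hk => h15 ▸ orderOf_dvd_of_pow_eq_one hk
  rcases sl25_coeff_cases (M : Matrix (Fin 2) (Fin 2) (ZMod 5)).trace with h | h | h | h | h
  · exact absurd (hdvd _ (hpow _ h)) (by norm_num)
  · exact absurd (hdvd _ (hpow _ h)) (by norm_num)
  · exact absurd (hdvd _ (hpow _ h)) (by norm_num)
  · exact absurd (hdvd _ (hpow _ h)) (by norm_num)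
  · exact absurd (hdvd _ (hpow _ h)) (by norm_num)

end sl25

end Cfsg.Agent.Helper66
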