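/-
Helper library of seat helper66: TI Hall subgroups, part 2.
Conjugacy of `π(H)`-subgroups into a TI Hall subgroup `H` (no solvability needed), invariant
Sylow subgroups of a normal complement, and fixed-point-free sections.
-/
import Mathlib
import Cfsg.Agent.Helper66.FWielandt
import Cfsg.Agent.Helper35.Coprime
import Cfsg.Agent.Helper35.CoprimeSylow

set_option autoImplicit false

namespace Cfsg.Agent.Helper66

open Subgroup
open scoped Pointwise

universe u

section conj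

variable {G : Type u} [Group G] [Finite G]

/-- An element of `N_G(H)` killed by `|H|` lies in `H`, for `H` Hall in its normaliser. -/
theorem tiH2_mem_of_pow {H : Subgroup G}
    (hHall : (Nat.card H).Coprime (H.subgroupOf (normalizer (H : Set G))).index) {x : G}
    (hx : x ∈ normalizer (H : Set G)) (hpow : x ^ Nat.card H = 1) : x ∈ H :=
  mem_of_pow_eq_one_of_coprime_relIndex (N := H) (K := normalizer (H : Set G)) le_rfl hHall hx hpow

/-- Every element killed by `|H|` is conjugate to an element of the TI Hall subgroup `H`. -/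
theorem tiH2_exists_conj_mem {H : Subgroup G} (hTI : Cfsg.IsTISubset (H : Set G))
    (hHall : (Nat.card H).Coprime (H.subgroupOf (normalizer (H : Set G))).index) {d : G}
    (hd : d ^ Nat.card H = 1) : ∃ g : G, g⁻¹ * d * g ∈ H := by
  by_cases hd1 : d = 1
  · exact ⟨1, by rw [hd1]; simp⟩
  have hord : orderOf d ≠ 1 := fun h => hd1 (orderOf_eq_one_iff.mp h)
  have hord0 : orderOf d ≠ 0 := (orderOf_pos d).ne'
  set p := (orderOf d).minFac with hp
  have hpp : p.Prime := Nat.minFac_prime hord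
  have hpd : p ∣ orderOf d := Nat.minFac_dvd _
  have : Fact p.Prime := ⟨hpp⟩
  set d' := d ^ (orderOf d / p) with hd'
  have hd'ord : orderOf d' = p := orderOf_pow_orderOf_div hord0 hpd
  have hpH : p ∣ Nat.card H := hpd.trans (orderOf_dvd_of_pow_eq_one hd)
  have hcop := tiH_coprime_index hTI hHall
  have hpI : ¬ p ∣ H.index := by
    intro h
    have := Nat.eq_one_of_dvd_coprimes hcop hpH h
    exact hpp.one_lt.ne' this
  have hPG : IsPGroup p (zpowers d') := by
    apply IsPGroup.of_card (n := 1)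
    rw [Nat.card_zpowers, hd'ord, pow_one]
  obtain ⟨q, hq⟩ := hPG.nonempty_fixed_point_of_prime_not_dvd_card (G ⧸ H) hpI
  induction q using QuotientGroup.induction_on with
  | H g =>
    have h1 := hq ⟨d', mem_zpowers d'⟩
    have h2 : ((d' * g : G) : G ⧸ H) = (g : G ⧸ H) := h1
    have h3 : (d' * g)⁻¹ * g ∈ H := QuotientGroup.eq.mp h2
    have he : g⁻¹ * d' * g ∈ H := by
      have h4 := H.inv_mem h3
      have e : ((d' * g)⁻¹ * g)⁻¹ = g⁻¹ * d' * g := by group
      rwa [e] at h4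
    have hd'1 : d' ≠ 1 := by
      intro h
      rw [h, orderOf_one] at hd'ord
      exact hpp.one_lt.ne hd'ord
    have hne : g⁻¹ * d' * g ≠ 1 := by
      intro h
      apply hd'1
      have e : d' = g * (g⁻¹ * d' * g) * g⁻¹ := by group
      rw [e, h]; group
    have hcomm : d * d' = d' * d := by
      rw [hd']
      exact (pow_mul_comm' d _).symm
    have ht : (g⁻¹ * d * g) * (g⁻¹ * d' * g) * (g⁻¹ * d * g)⁻¹ ∈ H := by
      have e : (g⁻¹ * d * g) * (g⁻¹ * d' * g) * (g⁻¹ * d * g)⁻¹ = g⁻¹ * (d * d') * d⁻¹ * g := by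
        group
      rw [e, hcomm]
      have e2 : g⁻¹ * (d' * d) * d⁻¹ * g = g⁻¹ * d' * g := by group
      rw [e2]
      exact he
    have hM := tiH_mem_normalizer hTI he hne ht
    refine ⟨g, tiH2_mem_of_pow hHall hM ?_⟩
    have e : (g⁻¹ * d * g) ^ Nat.card H = g⁻¹ * d ^ Nat.card H * g := by
      have := conj_pow (a := g⁻¹) (b := d) (i := Nat.card H)
      simpa using this
    rw [e, hd]; group

/-- A proper nontrivial subgroup of a finite group has index between `2` and `|D| / 2`. -/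
theorem two_le_index_and_le_half {D : Type*} [Group D] [Finite D] {S : Subgroup D}
    (h1 : S ≠ ⊥) (h2 : S ≠ ⊤) : 2 ≤ S.index ∧ 2 * S.index ≤ Nat.card D := by
  have hc : 1 < Nat.card S := S.one_lt_card_iff_ne_bot.mpr h1
  have hi1 : S.index ≠ 1 := fun h => h2 (Subgroup.index_eq_one.mp h)
  have hi0 : S.index ≠ 0 := Subgroup.index_ne_zero_of_finite
  have hmul : S.index * Nat.card S = Nat.card D := S.index_mul_card
  refine ⟨by omega, ?_⟩
  calc 2 * S.index = S.index * 2 := by ring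
    _ ≤ S.index * Nat.card S := Nat.mul_le_mul_left _ hc
    _ = Nat.card D := hmul

/-- **Conjugacy into a TI Hall subgroup**: a subgroup `D` all of whose elements are killed by
`|H|` is conjugate to a subgroup of `H`.  (No solvability is needed: the stabilisers of the
action of `D` on `G ⧸ H` would otherwise give two classes of Frobenius complements of `D`.) -/
theorem tiH2_exists_conj {H : Subgroup G} (hTI : Cfsg.IsTISubset (H : Set G))
    (hHall : (Nat.card H).Coprime (H.subgroupOf (normalizer (H : Set G))).index) {D : Subgroup G}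
    (hD : ∀ d ∈ D, d ^ Nat.card H = 1) : ∃ g : G, ∀ d ∈ D, g⁻¹ * d * g ∈ H := by
  by_contra hcon
  push Not at hcon
  -- the stabilisers
  let S : G → Subgroup D := fun g => (MulAut.conj g • H).subgroupOf D
  have hS : ∀ (g : G) (x : D), x ∈ S g ↔ g⁻¹ * (x : G) * g ∈ H := by
    intro g x
    show (x : G) ∈ MulAut.conj g • H ↔ _
    rw [Cfsg.Agent.Helper71.mem_conj_smul]
  have hStop : ∀ g, S g ≠ ⊤ := by
    intro g h
    obtain ⟨d, hd, hdH⟩ := hcon g
    apply hdH
    have : (⟨d, hd⟩ : D) ∈ S g := by rw [h]; trivial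
    exact (hS g _).mp this
  have hcov : ∀ x : D, ∃ g, x ∈ S g := by
    intro x
    obtain ⟨g, hg⟩ := tiH2_exists_conj_mem hTI hHall (hD x x.2)
    exact ⟨g, (hS g x).mpr hg⟩
  have hpowD : ∀ (g : G) (d : D), (g⁻¹ * (d : G) * g) ^ Nat.card H = 1 := by
    intro g d
    have e : (g⁻¹ * (d : G) * g) ^ Nat.card H = g⁻¹ * (d : G) ^ Nat.card H * g := by
      have := conj_pow (a := g⁻¹) (b := (d : G)) (i := Nat.card H)
      simpa using this
    rw [e, hD d d.2]; group
  have hFrob : ∀ g, ∀ d : D, d ∉ S g → ∀ x ∈ S g, d⁻¹ * x * d ∈ S g → x ∈ (⊥ : Subgroup D) := by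
    intro g d hd x hx hdx
    rw [Subgroup.mem_bot]
    by_contra hx1
    apply hd
    rw [hS] at hx hdx ⊢
    have hne : g⁻¹ * (x : G) * g ≠ 1 := by
      intro h
      apply hx1
      apply Subtype.ext
      have e : (x : G) = g * (g⁻¹ * (x : G) * g) * g⁻¹ := by group
      rw [e, h]; simp
    have ht : (g⁻¹ * (d : G)⁻¹ * g) * (g⁻¹ * (x : G) * g) * (g⁻¹ * (d : G)⁻¹ * g)⁻¹ ∈ H := by
      have e : (g⁻¹ * (d : G)⁻¹ * g) * (g⁻¹ * (x : G) * g) * (g⁻¹ * (d : G)⁻¹ * g)⁻¹
          = g⁻¹ * ((d⁻¹ * x * d : D) : G) * g := by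
        simp only [Subgroup.coe_mul, Subgroup.coe_inv]; group
      rw [e]; exact hdx
    have hM := tiH_mem_normalizer hTI hx hne ht
    have hM' : g⁻¹ * (d : G) * g ∈ normalizer (H : Set G) := by
      have := (normalizer (H : Set G)).inv_mem hM
      have e : (g⁻¹ * (d : G)⁻¹ * g)⁻¹ = g⁻¹ * (d : G) * g := by group
      rwa [e] at this
    exact tiH2_mem_of_pow hHall hM' (hpowD g d)
  have hcard : ∀ g, Nat.card {x : D // x ∈ (⊥ : Subgroup D) ∨ ∀ d : D, d⁻¹ * x * d ∉ S g}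
      = (S g).index := by
    intro g
    have := Cfsg.Agent.Helper71.card_kernel_set (⊥ : Subgroup D) (S g) bot_le (hFrob g)
    rw [Subgroup.card_bot, one_mul] at this
    exact this
  -- a nonidentity element of `D`
  obtain ⟨d₀, hd₀, hd₀H⟩ := hcon 1
  have hd₀1 : (⟨d₀, hd₀⟩ : D) ≠ 1 := by
    intro h
    apply hd₀H
    have : d₀ = 1 := congrArg Subtype.val h
    rw [this]; simp
  obtain ⟨g₀, hg₀⟩ := hcov ⟨d₀, hd₀⟩
  have hS₀bot : S g₀ ≠ ⊥ := by
    intro h
    rw [h, Subgroup.mem_bot] at hg₀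
    exact hd₀1 hg₀
  obtain ⟨hi₀, hi₀'⟩ := two_le_index_and_le_half hS₀bot (hStop g₀)
  -- a nonidentity element outside all conjugates of `S g₀`
  have hnt : Nontrivial {x : D // x ∈ (⊥ : Subgroup D) ∨ ∀ d : D, d⁻¹ * x * d ∉ S g₀} := by
    rw [← Finite.one_lt_card_iff_nontrivial, hcard g₀]
    omega
  obtain ⟨⟨d₁, hd₁⟩, hd₁ne⟩ := exists_ne (⟨1, Or.inl (Subgroup.mem_bot.mpr rfl)⟩ :
    {x : D // x ∈ (⊥ : Subgroup D) ∨ ∀ d : D, d⁻¹ * x * d ∉ S g₀})
  have hd₁1 : d₁ ≠ 1 := fun h => hd₁ne (Subtype.ext h)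
  have hd₁' : ∀ d : D, d⁻¹ * d₁ * d ∉ S g₀ := by
    rcases hd₁ with h | h
    · exact absurd (Subgroup.mem_bot.mp h) hd₁1
    · exact h
  obtain ⟨g₁, hg₁⟩ := hcov d₁
  have hS₁bot : S g₁ ≠ ⊥ := by
    intro h
    rw [h, Subgroup.mem_bot] at hg₁
    exact hd₁1 hg₁
  obtain ⟨hi₁, hi₁'⟩ := two_le_index_and_le_half hS₁bot (hStop g₁)
  -- the two kernels cover `D`
  let A₀ : Set D := {x : D | x ∈ (⊥ : Subgroup D) ∨ ∀ d : D, d⁻¹ * x * d ∉ S g₀}
  let A₁ : Set D := {x : D | x ∈ (⊥ : Subgroup D) ∨ ∀ d : D, d⁻¹ * x * d ∉ S g₁}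
  have hA₀ : A₀.ncard = (S g₀).index := by
    rw [← hcard g₀]; rfl
  have hA₁ : A₁.ncard = (S g₁).index := by
    rw [← hcard g₁]; rfl
  have hcover : (Set.univ : Set D) ⊆ A₀ ∪ A₁ := by
    intro x _
    by_cases hx1 : x = 1
    · exact Or.inl (Or.inl (Subgroup.mem_bot.mpr hx1))
    by_cases hx0 : ∀ d : D, d⁻¹ * x * d ∉ S g₀
    · exact Or.inl (Or.inr hx0)
    right; right
    push Not at hx0
    obtain ⟨d, hd⟩ := hx0
    intro d' hd'
    rw [hS] at hd hd'
    -- `w = g₁⁻¹ d'⁻¹ d g₀` normalises `H`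
    have hne : g₀⁻¹ * ((d⁻¹ * x * d : D) : G) * g₀ ≠ 1 := by
      intro h
      apply hx1
      apply Subtype.ext
      have e : (x : G) = (d : G) * g₀ * (g₀⁻¹ * ((d⁻¹ * x * d : D) : G) * g₀) * g₀⁻¹ * (d : G)⁻¹ := by
        simp only [Subgroup.coe_mul, Subgroup.coe_inv]; group
      rw [e, h]; simp
    have ht : (g₁⁻¹ * (d' : G)⁻¹ * (d : G) * g₀) * (g₀⁻¹ * ((d⁻¹ * x * d : D) : G) * g₀)
        * (g₁⁻¹ * (d' : G)⁻¹ * (d : G) * g₀)⁻¹ ∈ H := by
      have e : (g₁⁻¹ * (d' : G)⁻¹ * (d : G) * g₀) * (g₀⁻¹ * ((d⁻¹ * x * d : D) : G) * g₀)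
          * (g₁⁻¹ * (d' : G)⁻¹ * (d : G) * g₀)⁻¹ = g₁⁻¹ * ((d'⁻¹ * x * d' : D) : G) * g₁ := by
        simp only [Subgroup.coe_mul, Subgroup.coe_inv]; group
      rw [e]; exact hd'
    have hM := tiH_mem_normalizer hTI hd hne ht
    have hM' := (normalizer (H : Set G)).inv_mem hM
    have h1 : g₁⁻¹ * (d₁ : G) * g₁ ∈ H := (hS g₁ d₁).mp hg₁
    have h2 := (Subgroup.mem_normalizer_iff.mp hM' _).mp h1
    apply hd₁' (d'⁻¹ * d)
    rw [hS]
    have e : (g₁⁻¹ * (d' : G)⁻¹ * (d : G) * g₀)⁻¹ * (g₁⁻¹ * (d₁ : G) * g₁)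
        * (g₁⁻¹ * (d' : G)⁻¹ * (d : G) * g₀)⁻¹⁻¹
        = g₀⁻¹ * (((d'⁻¹ * d)⁻¹ * d₁ * (d'⁻¹ * d) : D) : G) * g₀ := by
      simp only [Subgroup.coe_mul, Subgroup.coe_inv]; group
    rw [e] at h2
    exact h2
  have hc1 := Set.ncard_le_ncard hcover (Set.toFinite _)
  rw [Set.ncard_univ] at hc1
  have hc2 := Set.ncard_union_add_ncard_inter A₀ A₁
  have hc3 : 1 ≤ (A₀ ∩ A₁).ncard := by
    rw [Nat.succ_le_iff, Set.ncard_pos]
    exact ⟨1, Or.inl (Subgroup.mem_bot.mpr rfl), Or.inl (Subgroup.mem_bot.mpr rfl)⟩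
  omega

end conj

section invsyl

variable {G : Type u} [Group G] [Finite G]

/-- For a TI Hall subgroup `H` with a normal complement `N`, every prime has an `H`-invariant
Sylow subgroup of `N` (Frattini argument, Schur–Zassenhaus existence, and conjugacy into `H`). -/
theorem tiH2_exists_invariant_sylow {H N : Subgroup G} (hTI : Cfsg.IsTISubset (H : Set G))
    (hHall : (Nat.card H).Coprime (H.subgroupOf (normalizer (H : Set G))).index) [hNn : N.Normal]
    (hNH : N.IsComplement' H) (q : ℕ) [Fact q.Prime] :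
    ∃ Q ∈ Cfsg.Agent.Helper35.sylowSet q N, H ≤ normalizer (Q : Set G) := by
  obtain ⟨P⟩ := (inferInstance : Nonempty (Sylow q N))
  set Q₀ : Subgroup G := (P : Subgroup N).map N.subtype with hQ₀
  have hQ₀mem : Q₀ ∈ Cfsg.Agent.Helper35.sylowSet q N :=
    Cfsg.Agent.Helper35.sylow_map_mem_sylowSet P
  have hfr : normalizer (Q₀ : Set G) ⊔ N = ⊤ := Sylow.normalizer_sup_eq_top P
  set L : Subgroup G := normalizer (Q₀ : Set G) with hL
  have hN'n : (N.subgroupOf L).Normal := Subgroup.normal_subgroupOf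
  have hcardN : Nat.card N = H.index := hNH.index_eq_card.symm
  have hcopNH : (Nat.card H).Coprime (Nat.card N) := by
    rw [hcardN]; exact tiH_coprime_index hTI hHall
  have hidx : (N.subgroupOf L).index = Nat.card H := by
    show N.relIndex L = Nat.card H
    rw [← Subgroup.relIndex_sup_right L N, hfr, Subgroup.relIndex_top_right]
    exact Cfsg.Agent.Helper35.index_eq_card_of_isComplement' hNH
  have hcop' : (Nat.card (N.subgroupOf L)).Coprime (N.subgroupOf L).index := by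
    rw [hidx]
    have h1 : Nat.card (N.subgroupOf L) ∣ Nat.card N := by
      rw [← Subgroup.inf_subgroupOf_right, Cfsg.Agent.Helper35.card_subgroupOf_of_le inf_le_right]
      exact Subgroup.card_dvd_of_le inf_le_left
    exact (Nat.Coprime.coprime_dvd_right h1 hcopNH).symm
  obtain ⟨D', hD'⟩ := Subgroup.exists_right_complement'_of_coprime hcop'
  set D : Subgroup G := D'.map L.subtype with hD
  have hDL : D ≤ L := Subgroup.map_subtype_le _
  have hDcard : Nat.card D = Nat.card H := by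
    rw [hD, Subgroup.card_map_of_injective L.subtype_injective, ← hidx]
    exact (Cfsg.Agent.Helper35.index_eq_card_of_isComplement' hD').symm
  have hDpow : ∀ d ∈ D, d ^ Nat.card H = 1 := by
    intro d hd
    rw [← hDcard]
    have := pow_card_eq_one' (G := D) (x := ⟨d, hd⟩)
    exact congrArg Subtype.val this
  obtain ⟨g, hg⟩ := tiH2_exists_conj hTI hHall hDpow
  have hle : MulAut.conj g⁻¹ • D ≤ H := by
    intro x hx
    rw [Cfsg.Agent.Helper35.mem_conj_smul, inv_inv] at hx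
    have := hg _ hx
    have e : g⁻¹ * (g * x * g⁻¹) * g = x := by group
    rwa [e] at this
  have heq : MulAut.conj g⁻¹ • D = H :=
    Subgroup.eq_of_le_of_card_ge hle (by rw [Cfsg.Agent.Helper35.card_conj_smul, hDcard])
  refine ⟨MulAut.conj g⁻¹ • Q₀, Cfsg.Agent.Helper35.conj_mem_sylowSet
    (by rw [normalizer_eq_top_iff.mpr hNn]; trivial) hQ₀mem, ?_⟩
  rw [← heq]
  exact Cfsg.Agent.Helper35.conj_smul_le_normalizer hDL g⁻¹

end invsyl

section frob

/-- Internal criterion: a complement `H` of a nontrivial normal subgroup `N` acting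
fixed-point-freely on `N` is a Frobenius complement. -/
theorem isFrobeniusComplement_of_fpf {X : Type*} [Group X] {N H : Subgroup X} [hN : N.Normal]
    (hinf : N ⊓ H = ⊥) (hsup : N ⊔ H = ⊤) (hN1 : N ≠ ⊥) (hH1 : H ≠ ⊥)
    (hfpf : ∀ h ∈ H, h ≠ 1 → ∀ n ∈ N, n * h = h * n → n = 1) :
    Cfsg.IsFrobeniusComplement H := by
  rw [Cfsg.Agent.Helper71.isFrobeniusComplement_iff]
  refine ⟨hH1, ?_, ?_⟩
  · intro htop
    apply hN1
    rw [htop, inf_top_eq] at hinf
    exact hinf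
  · intro x hx c hc hxc
    by_contra hc1
    have hxmem : x ∈ N ⊔ H := by rw [hsup]; trivial
    obtain ⟨n, hn, h, hh, rfl⟩ := Cfsg.Agent.Helper35.exists_mul_of_mem_sup_of_le_normalizer
      (N := N) (A := H) (by rw [normalizer_eq_top_iff.mpr hN]; exact le_top) hxmem
    have hn1 : n ≠ 1 := by
      rintro rfl
      apply hx
      simpa using hh
    have h1 : n⁻¹ * c * n ∈ H := by
      have := H.mul_mem (H.mul_mem hh hxc) (H.inv_mem hh)
      have e : h * ((n * h)⁻¹ * c * (n * h)) * h⁻¹ = n⁻¹ * c * n := by group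
      rwa [e] at this
    have h2 : c⁻¹ * (n⁻¹ * c * n) ∈ N ⊓ H := by
      refine ⟨?_, H.mul_mem (H.inv_mem hc) h1⟩
      have e : c⁻¹ * (n⁻¹ * c * n) = (c⁻¹ * n⁻¹ * c⁻¹⁻¹) * n := by group
      rw [e]
      exact N.mul_mem (hN.conj_mem _ (N.inv_mem hn) _) hn
    rw [hinf, Subgroup.mem_bot] at h2
    apply hn1
    apply hfpf c hc hc1 n hn
    have e : c * n = n * c * (c⁻¹ * (n⁻¹ * c * n)) := by group
    rw [h2, mul_one] at e
    exact e.symm

variable {G : Type u} [Group G] [Finite G]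

/-- Lifting fixed points of a single automorphism of coprime order through an invariant
subgroup: an `a`-invariant coset `y B` contains an element commuting with `a`. -/
theorem exists_comm_in_coset {B : Subgroup G} {a y : G} (ha : a ∈ normalizer (B : Set G))
    (hcop : (orderOf a).Coprime (Nat.card B)) (hy : y⁻¹ * a * y * a⁻¹ ∈ B) :
    ∃ c : G, c * a = a * c ∧ y⁻¹ * c ∈ B := by
  let S : Subgroup G :=
    { carrier := {x | x ∈ normalizer (B : Set G) ∧ y⁻¹ * x * y * x⁻¹ ∈ B}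
      mul_mem' := by
        rintro x₁ x₂ ⟨h1, h1'⟩ ⟨h2, h2'⟩
        refine ⟨(normalizer (B : Set G)).mul_mem h1 h2, ?_⟩
        have e : y⁻¹ * (x₁ * x₂) * y * (x₁ * x₂)⁻¹
            = (y⁻¹ * x₁ * y * x₁⁻¹) * (x₁ * (y⁻¹ * x₂ * y * x₂⁻¹) * x₁⁻¹) := by group
        rw [e]
        exact B.mul_mem h1' ((Subgroup.mem_normalizer_iff.mp h1 _).mp h2')
      one_mem' := ⟨one_mem _, by simp⟩
      inv_mem' := by
        rintro x ⟨h1, h1'⟩
        refine ⟨(normalizer (B : Set G)).inv_mem h1, ?_⟩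
        have e : y⁻¹ * x⁻¹ * y * x⁻¹⁻¹ = x⁻¹ * (y⁻¹ * x * y * x⁻¹)⁻¹ * x⁻¹⁻¹ := by group
        rw [e]
        exact (Subgroup.mem_normalizer_iff.mp ((normalizer (B : Set G)).inv_mem h1) _).mp
          (B.inv_mem h1') }
  have hS : zpowers a ≤ S := (Subgroup.zpowers_le).mpr ⟨ha, hy⟩
  obtain ⟨c, hc, hcB⟩ := Cfsg.Agent.Helper35.exists_fixed_in_coset (A := zpowers a) (N := B)
    ((Subgroup.zpowers_le).mpr ha) (by rw [Nat.card_zpowers]; exact hcop)
    (Or.inl inferInstance) y (fun a' ha' => (hS ha').2)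
  exact ⟨c, ((Subgroup.mem_centralizer_iff.mp hc) a (mem_zpowers a)).symm, hcB⟩

/-- **Fixed-point-free sections give Frobenius complements.**  `A` acts coprimely on the
`q`-group `Q`, centralises `C < Q`, and every nonidentity element of `A` has all its fixed points
on `Q` inside `C`.  Then `A` is isomorphic to a Frobenius complement (of `Q A / B` for a suitable
`A`-invariant normal subgroup `B ≥ C` of `Q`). -/
theorem exists_frobenius_of_fpf_section {q : ℕ} [Fact q.Prime]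
    {A Q C : Subgroup G} (hQ : IsPGroup q Q) (hAQ : A ≤ normalizer (Q : Set G))
    (hcop : (Nat.card A).Coprime (Nat.card Q)) (hA1 : A ≠ ⊥) (hCQ : C ≤ Q) (hCne : ¬ Q ≤ C)
    (hCA : ∀ c ∈ C, ∀ a ∈ A, a * c = c * a)
    (hfix : ∀ a ∈ A, a ≠ 1 → ∀ y ∈ Q, y * a = a * y → y ∈ C) :
    ∃ (F : Type u) (_ : Group F) (_ : Finite F) (C' : Subgroup F),
      Cfsg.IsFrobeniusComplement C' ∧ Nonempty (A ≃* C') := by
  -- a normal maximal subgroup `T` of `Q` containing `C`
  have hC'top : C.subgroupOf Q ≠ ⊤ := fun h => hCne (Subgroup.subgroupOf_eq_top.mp h)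
  obtain ⟨T', hT'co, hCT'⟩ := (eq_top_or_exists_le_coatom (C.subgroupOf Q)).resolve_left hC'top
  have hnil : Group.IsNilpotent Q := hQ.isNilpotent
  have hT'n : T'.Normal :=
    Subgroup.NormalizerCondition.normal_of_coatom T' Group.normalizerCondition_of_isNilpotent hT'co
  set T : Subgroup G := T'.map Q.subtype with hT
  have hTQ : T ≤ Q := Subgroup.map_subtype_le _
  have hTmem : ∀ y : Q, (y : G) ∈ T ↔ y ∈ T' := by
    intro y
    rw [hT, Subgroup.mem_map]
    constructor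
    · rintro ⟨t, ht, hty⟩
      have : t = y := Subtype.ext hty
      rwa [← this]
    · intro hy; exact ⟨y, hy, rfl⟩
  have hCT : C ≤ T := by
    intro c hc
    exact (hTmem ⟨c, hCQ hc⟩).mpr (hCT' (Subgroup.mem_subgroupOf.mpr hc))
  have hTn : ∀ y ∈ Q, ∀ t ∈ T, y * t * y⁻¹ ∈ T := by
    intro y hy t ht
    have ht' : (⟨t, hTQ ht⟩ : Q) ∈ T' := (hTmem _).mp ht
    have := hT'n.conj_mem _ ht' ⟨y, hy⟩
    exact (hTmem _).mpr this
  obtain ⟨y₀, hy₀⟩ : ∃ y : Q, y ∉ T' := by
    by_contra h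
    push Not at h
    exact hT'co.1 ((Subgroup.eq_top_iff' T').mpr h)
  -- the core `B` of `T` under `A`
  let B : Subgroup G :=
    { carrier := {x | ∀ a ∈ A, a⁻¹ * x * a ∈ T}
      mul_mem' := by
        intro x₁ x₂ h1 h2 a ha
        have e : a⁻¹ * (x₁ * x₂) * a = (a⁻¹ * x₁ * a) * (a⁻¹ * x₂ * a) := by group
        rw [e]; exact T.mul_mem (h1 a ha) (h2 a ha)
      one_mem' := by
        intro a ha
        have e : a⁻¹ * 1 * a = 1 := by group
        rw [e]; exact T.one_mem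
      inv_mem' := by
        intro x h a ha
        have e : a⁻¹ * x⁻¹ * a = (a⁻¹ * x * a)⁻¹ := by group
        rw [e]; exact T.inv_mem (h a ha) }
  have hBT : B ≤ T := by
    intro x hx
    have := hx 1 A.one_mem
    simpa using this
  have hBQ : B ≤ Q := hBT.trans hTQ
  have hCB : C ≤ B := by
    intro c hc a ha
    have e : a⁻¹ * c * a = c := by
      rw [mul_assoc, ← hCA c hc a ha]; group
    rw [e]; exact hCT hc
  have hQB : Q ≤ normalizer (B : Set G) := by
    apply Cfsg.Agent.Helper35.le_normalizer_of_forall_conj_mem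
    intro y hy x hx a ha
    have hyQ : a⁻¹ * y * a ∈ Q := by
      have := (Subgroup.mem_normalizer_iff.mp (hAQ (A.inv_mem ha)) y).mp hy
      simpa using this
    have e : a⁻¹ * (y * x * y⁻¹) * a = (a⁻¹ * y * a) * (a⁻¹ * x * a) * (a⁻¹ * y * a)⁻¹ := by
      group
    rw [e]
    exact hTn _ hyQ _ (hx a ha)
  have hAB : A ≤ normalizer (B : Set G) := by
    apply Cfsg.Agent.Helper35.le_normalizer_of_forall_conj_mem
    intro b hb x hx a ha
    have e : a⁻¹ * (b * x * b⁻¹) * a = (b⁻¹ * a)⁻¹ * x * (b⁻¹ * a) := by group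
    rw [e]
    exact hx _ (A.mul_mem (A.inv_mem hb) ha)
  have hy₀B : (y₀ : G) ∉ B := fun h => hy₀ ((hTmem y₀).mp (hBT h))
  have hAQbot : A ⊓ Q = ⊥ := (Subgroup.disjoint_of_coprime_natCard hcop).eq_bot
  -- the group `F = (Q ⊔ A) / B`
  set L : Subgroup G := Q ⊔ A with hL
  have hQL : Q ≤ L := le_sup_left
  have hAL : A ≤ L := le_sup_right
  have hLB : L ≤ normalizer (B : Set G) := sup_le hQB hAB
  have hLQ : L ≤ normalizer (Q : Set G) := sup_le le_normalizer hAQ
  have hB'n : (B.subgroupOf L).Normal := Subgroup.normal_subgroupOf_of_le_normalizer hLB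
  let π : L →* L ⧸ B.subgroupOf L := QuotientGroup.mk' (B.subgroupOf L)
  have hπ1 : ∀ l : L, π l = 1 ↔ (l : G) ∈ B := by
    intro l
    show (l : L ⧸ B.subgroupOf L) = 1 ↔ _
    rw [QuotientGroup.eq_one_iff, Subgroup.mem_subgroupOf]
  let f : A →* L ⧸ B.subgroupOf L := π.comp (Subgroup.inclusion hAL)
  let g : Q →* L ⧸ B.subgroupOf L := π.comp (Subgroup.inclusion hQL)
  have hf1 : ∀ a : A, f a = 1 ↔ a = 1 := by
    intro a
    constructor
    · intro h
      have h1 : (a : G) ∈ B := (hπ1 _).mp h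
      have h2 : (a : G) ∈ A ⊓ Q := ⟨a.2, hBQ h1⟩
      rw [hAQbot, Subgroup.mem_bot] at h2
      exact Subtype.ext h2
    · rintro rfl; exact map_one f
  have hg1 : ∀ y : Q, g y = 1 ↔ (y : G) ∈ B := fun y => hπ1 _
  have hfinj : Function.Injective f :=
    (injective_iff_map_eq_one f).mpr (fun a h => (hf1 a).mp h)
  have hNn : g.range.Normal := by
    constructor
    intro n hn x
    obtain ⟨y, rfl⟩ := hn
    obtain ⟨l, rfl⟩ := QuotientGroup.mk'_surjective (B.subgroupOf L) x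
    have hmem : (l : G) * (y : G) * (l : G)⁻¹ ∈ Q :=
      (Subgroup.mem_normalizer_iff.mp (hLQ l.2) _).mp y.2
    refine ⟨⟨_, hmem⟩, ?_⟩
    show π (Subgroup.inclusion hQL ⟨_, hmem⟩) = π l * π (Subgroup.inclusion hQL y) * (π l)⁻¹
    rw [← map_inv, ← map_mul, ← map_mul]
    congr 1
  refine ⟨L ⧸ B.subgroupOf L, inferInstance, inferInstance, f.range, ?_,
    ⟨MonoidHom.ofInjective hfinj⟩⟩
  apply isFrobeniusComplement_of_fpf (N := g.range) (H := f.range)
  · -- inf = ⊥
    rw [eq_bot_iff]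
    rintro x ⟨⟨y, rfl⟩, ⟨a, ha⟩⟩
    rw [Subgroup.mem_bot]
    have h1 : π ((Subgroup.inclusion hAL a)⁻¹ * Subgroup.inclusion hQL y) = 1 := by
      rw [map_mul, map_inv]
      show (f a)⁻¹ * g y = 1
      rw [ha]; group
    have h2 : (a : G)⁻¹ * (y : G) ∈ B := (hπ1 _).mp h1
    have h3 : (a : G) ∈ A ⊓ Q := by
      refine ⟨a.2, ?_⟩
      have := Q.mul_mem y.2 (Q.inv_mem (hBQ h2))
      have e : (y : G) * ((a : G)⁻¹ * (y : G))⁻¹ = (a : G) := by group
      rwa [e] at this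
    rw [hAQbot, Subgroup.mem_bot] at h3
    have h4 : a = 1 := Subtype.ext h3
    rw [← ha, h4, map_one]
  · -- sup = ⊤
    rw [eq_top_iff]
    intro x _
    obtain ⟨l, rfl⟩ := QuotientGroup.mk'_surjective (B.subgroupOf L) x
    obtain ⟨y, hy, a, ha, hl⟩ :=
      Cfsg.Agent.Helper35.exists_mul_of_mem_sup_of_le_normalizer hAQ l.2
    have e : l = Subgroup.inclusion hQL ⟨y, hy⟩ * Subgroup.inclusion hAL ⟨a, ha⟩ :=
      Subtype.ext hl
    rw [e]
    show π (Subgroup.inclusion hQL ⟨y, hy⟩ * Subgroup.inclusion hAL ⟨a, ha⟩) ∈ _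
    rw [map_mul]
    exact Subgroup.mul_mem _ (Subgroup.mem_sup_left ⟨⟨y, hy⟩, rfl⟩)
      (Subgroup.mem_sup_right ⟨⟨a, ha⟩, rfl⟩)
  · -- N ≠ ⊥
    intro h
    have h1 : g y₀ ∈ g.range := ⟨y₀, rfl⟩
    rw [h, Subgroup.mem_bot, hg1] at h1
    exact hy₀B h1
  · -- H ≠ ⊥
    intro h
    apply hA1
    rw [eq_bot_iff]
    intro a ha
    have h1 : f ⟨a, ha⟩ ∈ f.range := ⟨_, rfl⟩
    rw [h, Subgroup.mem_bot, hf1] at h1
    rw [Subgroup.mem_bot]
    exact congrArg Subtype.val h1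
  · -- fixed-point-freeness
    rintro _ ⟨a, rfl⟩ hne _ ⟨y, rfl⟩ hcomm
    have ha1 : (a : G) ≠ 1 := by
      intro h
      apply hne
      exact (hf1 a).mpr (Subtype.ext h)
    rw [hg1]
    have h1 : π ((Subgroup.inclusion hQL y)⁻¹ * Subgroup.inclusion hAL a
        * Subgroup.inclusion hQL y * (Subgroup.inclusion hAL a)⁻¹) = 1 := by
      rw [map_mul, map_mul, map_mul, map_inv, map_inv]
      show (g y)⁻¹ * f a * g y * (f a)⁻¹ = 1
      rw [mul_assoc ((g y)⁻¹), ← hcomm]; group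
    have h2 : (y : G)⁻¹ * (a : G) * (y : G) * (a : G)⁻¹ ∈ B := (hπ1 _).mp h1
    have hcopa : (orderOf (a : G)).Coprime (Nat.card B) := by
      have h3 : orderOf (a : G) ∣ Nat.card A := by
        rw [← Nat.card_zpowers]
        exact Subgroup.card_dvd_of_le ((Subgroup.zpowers_le).mpr a.2)
      have h4 : Nat.card B ∣ Nat.card Q := Subgroup.card_dvd_of_le hBQ
      exact Nat.Coprime.coprime_dvd_left h3 (Nat.Coprime.coprime_dvd_right h4 hcop)
    obtain ⟨c, hca, hcB⟩ := exists_comm_in_coset (hAB a.2) hcopa h2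
    have hcQ : c ∈ Q := by
      have := Q.mul_mem y.2 (hBQ hcB)
      have e : (y : G) * ((y : G)⁻¹ * c) = c := by group
      rwa [e] at this
    have hcC : c ∈ C := hfix a a.2 ha1 c hcQ hca
    have := B.mul_mem (hCB hcC) (B.inv_mem hcB)
    have e : c * ((y : G)⁻¹ * c)⁻¹ = (y : G) := by group
    rwa [e] at this

end frob

end Cfsg.Agent.Helper66
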