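/-
Helper library of seat helper66: Frobenius groups and order types.
Solvability of a Frobenius group in terms of elements of order 15 (modulo Zassenhaus' theorem
on perfect fixed-point-free groups, taken as a hypothesis `ZassHyp`), and the theorem that a
group with the order type of a Frobenius group is a Frobenius group.
-/
import Mathlib
import Cfsg.Agent.Helper66.OrderType
import Cfsg.Agent.Helper66.FrobTools
import Cfsg.Agent.Helper66.TIHall2
import Cfsg.Agent.S0040

set_option autoImplicit false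

namespace Cfsg.Agent.Helper66

open Cfsg Subgroup

universe u v

/-- The statement of Zassenhaus' theorem (a perfect nontrivial group of fixed-point-free
automorphisms of a finite group is `SL(2,5)`) for groups in the universe `u`. -/
def ZassHyp : Prop :=
  ∀ (K : Type u) [Group K] [Finite K] (G : Subgroup (MulAut K)),
    (∀ φ ∈ G, φ ≠ 1 → ∀ k : K, φ k = k → k = 1) → commutator G = ⊤ → G ≠ ⊥ →
    Nonempty (G ≃* Matrix.SpecialLinearGroup (Fin 2) (ZMod 5))

section general

/-- A finite non-solvable group has a nontrivial perfect normal subgroup. -/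
theorem exists_perfect_of_not_solvable {C : Type*} [Group C] [Finite C]
    (h : ¬ Group.IsSolvable C) : ∃ P : Subgroup C, P.Normal ∧ P ≠ ⊥ ∧ ⁅P, P⁆ = P := by
  have hex : ∃ k, derivedSeries C (k + 1) = derivedSeries C k := by
    by_contra hne
    push Not at hne
    have key : ∀ k, Nat.card (derivedSeries C k) + k ≤ Nat.card C := by
      intro k
      induction k with
      | zero => simp
      | succ k ih =>
        have hle : derivedSeries C (k + 1) ≤ derivedSeries C k :=
          derivedSeries_antitone C (Nat.le_succ k)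
        have hlt : Nat.card (derivedSeries C (k + 1)) < Nat.card (derivedSeries C k) := by
          by_contra hge
          push Not at hge
          exact hne k (Subgroup.eq_of_le_of_card_ge hle hge)
        omega
    have := key (Nat.card C + 1)
    omega
  obtain ⟨k, hk⟩ := hex
  refine ⟨derivedSeries C k, derivedSeries_normal C k, ?_, hk⟩
  intro hbot
  exact h ⟨⟨k, hbot⟩⟩

/-- In a finite group with cyclic Sylow `q`-subgroups, every element of order `q` lies in every
normal subgroup of order divisible by `q`. -/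
theorem mem_of_orderOf_prime_of_normal {C : Type*} [Group C] [Finite C] (q : ℕ) [hq : Fact q.Prime]
    (hcyc : ∀ S : Sylow q C, IsCyclic S) (Pc : Subgroup C) [hPn : Pc.Normal]
    (hqP : q ∣ Nat.card Pc) {x : C} (hx : orderOf x = q) : x ∈ Pc := by
  obtain ⟨w, hw⟩ := exists_prime_orderOf_dvd_card' (G := Pc) q hqP
  have hw' : orderOf (w : C) = q := by rw [Subgroup.orderOf_coe, hw]
  have hpx : IsPGroup q (zpowers x) := by
    apply IsPGroup.of_card (n := 1)
    rw [Nat.card_zpowers, hx, pow_one]
  have hpw : IsPGroup q (zpowers (w : C)) := by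
    apply IsPGroup.of_card (n := 1)
    rw [Nat.card_zpowers, hw', pow_one]
  obtain ⟨S, hS⟩ := hpx.exists_le_sylow
  obtain ⟨S', hS'⟩ := hpw.exists_le_sylow
  obtain ⟨g, hg⟩ := MulAction.exists_smul_eq C S S'
  have hwS' : (w : C) ∈ (S' : Subgroup C) := hS' (mem_zpowers _)
  have hwS : g⁻¹ * (w : C) * g ∈ (S : Subgroup C) := by
    rw [← hg, Sylow.coe_subgroup_smul] at hwS'
    exact Cfsg.Agent.Helper35.mem_conj_smul.mp hwS'
  have hxS : x ∈ (S : Subgroup C) := hS (mem_zpowers _)
  have hwP : g⁻¹ * (w : C) * g ∈ Pc := by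
    have := hPn.conj_mem _ w.2 g⁻¹
    simpa using this
  have hcS := hcyc S
  have hord : orderOf (⟨g⁻¹ * (w : C) * g, hwS⟩ : S) = q := by
    rw [← Subgroup.orderOf_coe]
    show orderOf (g⁻¹ * (w : C) * g) = q
    rw [← hw']
    have := MulEquiv.orderOf_eq (MulAut.conj g⁻¹) (w : C)
    simpa using this
  have hxq : (⟨x, hxS⟩ : S) ^ q = 1 := by
    apply Subtype.ext
    show x ^ q = 1
    rw [← hx]; exact pow_orderOf_eq_one x
  have hmem := mem_zpowers_of_isCyclic hq.out.pos hord hxq
  obtain ⟨j, hj⟩ := Subgroup.mem_zpowers_iff.mp hmem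
  have hxe : x = (g⁻¹ * (w : C) * g) ^ j := by
    have := congrArg Subtype.val hj
    simpa using this.symm
  rw [hxe]
  exact Pc.zpow_mem hwP j

end general

section FrobOT

variable {X : Type u} [Group X] [Finite X] {C N : Subgroup X}

theorem frobT_orderOf_dvd_of_not_mem (hC : IsFrobeniusComplement C)
    (hN : (N : Set X) = frobeniusKernel C) {x : X} (hx : x ∉ N) :
    ∃ h ∈ C, orderOf h = orderOf x := by
  obtain ⟨y, -, h, hh, rfl⟩ := frobT_cover hC hN hx
  refine ⟨h, hh, ?_⟩
  have := MulEquiv.orderOf_eq (MulAut.conj y) h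
  simpa using this.symm

theorem frobT_orderOf_dvd (hC : IsFrobeniusComplement C)
    (hN : (N : Set X) = frobeniusKernel C) (x : X) :
    orderOf x ∣ Nat.card N ∨ orderOf x ∣ Nat.card C := by
  by_cases hx : x ∈ N
  · exact Or.inl (orderOf_dvd_of_pow_eq_one (pow_card_eq_one_of_mem hx))
  · obtain ⟨h, hh, hord⟩ := frobT_orderOf_dvd_of_not_mem hC hN hx
    rw [← hord]
    exact Or.inr (orderOf_dvd_of_pow_eq_one (pow_card_eq_one_of_mem hh))

/-- A Frobenius group is solvable iff its complement is. -/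
theorem frobT_solvable_iff (hC : IsFrobeniusComplement C)
    (hN : (N : Set X) = frobeniusKernel C) : Group.IsSolvable X ↔ Group.IsSolvable C := by
  constructor
  · intro h
    infer_instance
  · intro h
    obtain ⟨hNn, hNC⟩ := frobT_compl hC hN
    have hnil : Group.IsNilpotent N := frobT_nilpotent hC hN
    have hq : Group.IsSolvable (X ⧸ N) := by
      apply Group.isSolvable_of_surjective (f := (QuotientGroup.mk' N).comp C.subtype)
      intro q
      obtain ⟨x, rfl⟩ := QuotientGroup.mk'_surjective N q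
      obtain ⟨n, hn, c, hc, rfl⟩ := frobT_mul hC hN x
      refine ⟨⟨c, hc⟩, ?_⟩
      show ((c : X) : X ⧸ N) = ((n * c : X) : X ⧸ N)
      rw [QuotientGroup.eq]
      have e : c⁻¹ * (n * c) = c⁻¹ * n * c⁻¹⁻¹ := by group
      rw [e]
      exact hNn.conj_mem n hn c⁻¹
    exact Group.isSolvable_of_ker_le_range N.subtype (QuotientGroup.mk' N) (by
      rw [QuotientGroup.ker_mk', Subgroup.range_subtype])

/-- Sylow subgroups of a Frobenius complement for odd primes are cyclic. -/
theorem frobT_sylow_cyclic (hC : IsFrobeniusComplement C)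
    (hN : (N : Set X) = frobeniusKernel C) (p : ℕ) [hp : Fact p.Prime] (hp2 : p ≠ 2)
    (P : Sylow p C) : IsCyclic P := by
  obtain ⟨hNn, hNC⟩ := frobT_compl hC hN
  have hfpf : ∀ h ∈ C, h ≠ 1 → N ⊓ Subgroup.centralizer {h} = ⊥ := by
    intro h hh hh1
    rw [eq_bot_iff]
    rintro x ⟨hxN, hxc⟩
    rw [Subgroup.mem_bot]
    by_contra hx1
    have hcomm : h * x = x * h := Subgroup.mem_centralizer_iff.mp hxc h (Set.mem_singleton h)
    exact hh1 (frobT_disj hC hN (frobT_cent hC hN hxN hx1 hcomm) hh)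
  rcases Cfsg.Agent.S0040.result N C hNC (frobT_ne_bot hC hN) hfpf p P with h | ⟨n, ⟨e⟩⟩
  · exact h
  · exfalso
    obtain ⟨k, hk⟩ := IsPGroup.iff_card.mp P.isPGroup'
    have h1 : Nat.card P = Nat.card (QuaternionGroup (2 ^ n)) := Nat.card_congr e.toEquiv
    rw [Nat.card_eq_fintype_card (α := QuaternionGroup (2 ^ n)), QuaternionGroup.card, hk] at h1
    have h2 : 2 ∣ p ^ k := by rw [h1]; exact Dvd.dvd.mul_right (by norm_num) _
    have h3 : 2 ∣ p := Nat.Prime.dvd_of_dvd_pow Nat.prime_two h2
    exact hp2 ((Nat.prime_dvd_prime_iff_eq Nat.prime_two hp.out).mp h3).symm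

theorem frobT_exists_fifteen_iff (hC : IsFrobeniusComplement C)
    (hN : (N : Set X) = frobeniusKernel C) (h15 : 15 ∣ Nat.card C) :
    (∃ x ∈ C, orderOf x = 15) ↔ ∃ x : X, orderOf x = 15 := by
  constructor
  · rintro ⟨x, -, hx⟩; exact ⟨x, hx⟩
  · rintro ⟨x, hx⟩
    have hxN : x ∉ N := by
      intro hxN
      have h1 : 15 ∣ Nat.card N := by
        rw [← hx]; exact orderOf_dvd_of_pow_eq_one (pow_card_eq_one_of_mem hxN)
      have := Nat.eq_one_of_dvd_coprimes (frobT_coprime hC hN) h1 h15
      omega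
    obtain ⟨h, hh, hord⟩ := frobT_orderOf_dvd_of_not_mem hC hN hxN
    exact ⟨h, hh, hord.trans hx⟩

/-- A nontrivial perfect subgroup of a Frobenius complement is `SL(2,5)` (modulo Zassenhaus). -/
theorem frobT_perfect_sl25 (hZ : ZassHyp.{u}) (hC : IsFrobeniusComplement C)
    (hN : (N : Set X) = frobeniusKernel C) (P : Subgroup C) (hP1 : P ≠ ⊥) (hPP : ⁅P, P⁆ = P) :
    Nonempty (P ≃* Matrix.SpecialLinearGroup (Fin 2) (ZMod 5)) := by
  obtain ⟨hNn, hNC⟩ := frobT_compl hC hN
  let ψ : P →* MulAut N := (MulAut.conjNormal (H := N)).comp (C.subtype.comp P.subtype)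
  have hψ : ∀ (p : P) (k : N), ((ψ p k : N) : X) = ((p : C) : X) * (k : X) * ((p : C) : X)⁻¹ :=
    fun p k => rfl
  -- a nonidentity element fixes only the identity
  have hfix : ∀ (p : P), p ≠ 1 → ∀ k : N, ψ p k = k → k = 1 := by
    intro p hp k hk
    by_contra hk1
    have h1 : ((p : C) : X) * (k : X) * ((p : C) : X)⁻¹ = (k : X) := by
      rw [← hψ, hk]
    have hcomm : ((p : C) : X) * (k : X) = (k : X) * ((p : C) : X) := by
      calc ((p : C) : X) * (k : X) = ((p : C) : X) * (k : X) * ((p : C) : X)⁻¹ * ((p : C) : X) := by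
            group
        _ = (k : X) * ((p : C) : X) := by rw [h1]
    have hk1' : (k : X) ≠ 1 := fun h => hk1 (Subtype.ext h)
    have hpN := frobT_cent hC hN k.2 hk1' hcomm
    have hp1 : ((p : C) : X) = 1 := frobT_disj hC hN hpN (p : C).2
    exact hp (Subtype.ext (Subtype.ext hp1))
  obtain ⟨n₀, hn₀, hn₀1⟩ := frobT_exists_ne_one hC hN
  have hinj : Function.Injective ψ := by
    rw [injective_iff_map_eq_one]
    intro p hp
    by_contra hp1
    have := hfix p hp1 ⟨n₀, hn₀⟩ (by rw [hp]; rfl)
    exact hn₀1 (congrArg Subtype.val this)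
  let e₀ : P ≃* ψ.range := MonoidHom.ofInjective hinj
  have hperfP : commutator P = ⊤ := by
    apply Subgroup.map_injective P.subtype_injective
    rw [Subgroup.map_subtype_commutator, hPP, ← MonoidHom.range_eq_map, Subgroup.range_subtype]
  have hperf : commutator ψ.range = ⊤ := by
    have hsurj : Function.Surjective e₀.toMonoidHom := e₀.surjective
    have htop : (⊤ : Subgroup P).map e₀.toMonoidHom = ⊤ :=
      Subgroup.map_top_of_surjective _ hsurj
    have h1 : (commutator P).map e₀.toMonoidHom = commutator ψ.range := by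
      rw [commutator_def, commutator_def, Subgroup.map_commutator, htop]
    rw [← h1, hperfP, htop]
  have hne : ψ.range ≠ ⊥ := by
    intro h
    apply hP1
    rw [eq_bot_iff]
    intro p hp
    rw [Subgroup.mem_bot]
    have h1 : ψ ⟨p, hp⟩ ∈ ψ.range := ⟨_, rfl⟩
    rw [h, Subgroup.mem_bot] at h1
    have := hinj (h1.trans (map_one ψ).symm)
    exact congrArg Subtype.val this
  have hfpf : ∀ φ ∈ ψ.range, φ ≠ 1 → ∀ k : N, φ k = k → k = 1 := by
    rintro _ ⟨p, rfl⟩ hφ k hk
    exact hfix p (fun h => hφ (by rw [h, map_one])) k hk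
  obtain ⟨e₁⟩ := hZ N ψ.range hfpf hperf hne
  exact ⟨e₀.trans e₁⟩

/-- A non-solvable Frobenius complement has order divisible by `15` but no element of order
`15` (modulo Zassenhaus). -/
theorem frobT_no_fifteen_of_not_solvable (hZ : ZassHyp.{u}) (hC : IsFrobeniusComplement C)
    (hN : (N : Set X) = frobeniusKernel C) (hns : ¬ Group.IsSolvable C) :
    15 ∣ Nat.card C ∧ ∀ x ∈ C, orderOf x ≠ 15 := by
  obtain ⟨P, hPn, hP1, hPP⟩ := exists_perfect_of_not_solvable hns
  obtain ⟨e⟩ := frobT_perfect_sl25 hZ hC hN P hP1 hPP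
  have hp3 : Fact (Nat.Prime 3) := ⟨by norm_num⟩
  have hp5 : Fact (Nat.Prime 5) := ⟨by norm_num⟩
  have hcard : Nat.card P = 120 := by
    rw [Nat.card_congr e.toEquiv, Cfsg.Agent.Helper5.card_SL2 (F := ZMod 5), ZMod.card]
    norm_num
  have h120 : 120 ∣ Nat.card C := hcard ▸ Subgroup.card_subgroup_dvd_card P
  refine ⟨dvd_trans (by norm_num) h120, ?_⟩
  intro z hz hz15
  have hz' : orderOf (⟨z, hz⟩ : C) = 15 := by rw [← Subgroup.orderOf_coe]; exact hz15
  have h3 : orderOf ((⟨z, hz⟩ : C) ^ 5) = 3 := by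
    rw [orderOf_pow' _ (by norm_num), hz']; norm_num
  have h5 : orderOf ((⟨z, hz⟩ : C) ^ 3) = 5 := by
    rw [orderOf_pow' _ (by norm_num), hz']; norm_num
  have hm3 : (⟨z, hz⟩ : C) ^ 5 ∈ P :=
    mem_of_orderOf_prime_of_normal 3 (fun S => frobT_sylow_cyclic hC hN 3 (by norm_num) S) P
      (by rw [hcard]; norm_num) h3
  have hm5 : (⟨z, hz⟩ : C) ^ 3 ∈ P :=
    mem_of_orderOf_prime_of_normal 5 (fun S => frobT_sylow_cyclic hC hN 5 (by norm_num) S) P
      (by rw [hcard]; norm_num) h5
  have hzP : (⟨z, hz⟩ : C) ∈ P := by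
    have h16 : (⟨z, hz⟩ : C) = ((⟨z, hz⟩ : C) ^ 5) ^ 2 * ((⟨z, hz⟩ : C) ^ 3) ^ 2 := by
      rw [← pow_mul, ← pow_mul, ← pow_add]
      have : (⟨z, hz⟩ : C) ^ 15 = 1 := by rw [← hz']; exact pow_orderOf_eq_one _
      calc (⟨z, hz⟩ : C) = (⟨z, hz⟩ : C) ^ 15 * (⟨z, hz⟩ : C) := by rw [this, one_mul]
        _ = (⟨z, hz⟩ : C) ^ (5 * 2 + 3 * 2) := by rw [← pow_succ]
    rw [h16]
    exact P.mul_mem (P.pow_mem hm3 2) (P.pow_mem hm5 2)
  have hord : orderOf (e ⟨⟨z, hz⟩, hzP⟩) = 15 := by
    rw [MulEquiv.orderOf_eq, ← Subgroup.orderOf_coe]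
    exact hz'
  exact sl25_orderOf_ne_fifteen _ hord

/-- A Frobenius complement is solvable iff, when its order is divisible by `15`, it has an
element of order `15` (modulo Zassenhaus). -/
theorem frobT_solvable_iff_fifteen (hZ : ZassHyp.{u}) (hC : IsFrobeniusComplement C)
    (hN : (N : Set X) = frobeniusKernel C) :
    Group.IsSolvable C ↔ (15 ∣ Nat.card C → ∃ x ∈ C, orderOf x = 15) := by
  constructor
  · intro hs h15
    have hp3 : Fact (Nat.Prime 3) := ⟨by norm_num⟩
    have hp5 : Fact (Nat.Prime 5) := ⟨by norm_num⟩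
    obtain ⟨x, hx⟩ := exists_orderOf_fifteen (C := C) hs
      (fun S => frobT_sylow_cyclic hC hN 3 (by norm_num) S)
      (fun S => frobT_sylow_cyclic hC hN 5 (by norm_num) S) h15
    exact ⟨x, x.2, by rw [Subgroup.orderOf_coe]; exact hx⟩
  · intro h
    by_contra hns
    obtain ⟨h15, hno⟩ := frobT_no_fifteen_of_not_solvable hZ hC hN hns
    obtain ⟨x, hx, hx15⟩ := h h15
    exact hno x hx hx15

end FrobOT

/-- **Order type of a Frobenius group** (modulo Zassenhaus' theorem at the two universes): a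
finite group with the same order type as a Frobenius group is a Frobenius group, and one is
solvable iff the other is. -/
theorem orderType_frobenius {F : Type u} {G : Type v} [Group F] [Finite F] [Group G] [Finite G]
    (hZF : ZassHyp.{u}) (hZG : ZassHyp.{v})
    (hF : ∃ C : Subgroup F, Cfsg.IsFrobeniusComplement C)
    (hT : ∀ m : ℕ, Nat.card {g : F // orderOf g = m} = Nat.card {h : G // orderOf h = m}) :
    (∃ C : Subgroup G, Cfsg.IsFrobeniusComplement C) ∧
      (Group.IsSolvable G ↔ Group.IsSolvable F) := by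
  obtain ⟨C, hC⟩ := hF
  obtain ⟨N, hN, hNn, hNC⟩ := Cfsg.Agent.Helper11.frobenius_kernel_subgroup C hC
  obtain ⟨φ, hφ⟩ := ot_exists_equiv hT
  have hcop : (Nat.card N).Coprime (Nat.card C) := frobT_coprime hC hN
  have hnc : Nat.card N * Nat.card C = Nat.card F := frobT_card hC hN
  have hcardG : Nat.card G = Nat.card N * Nat.card C := (Nat.card_congr φ).symm.trans hnc.symm
  have hn0 : Nat.card N ≠ 0 := Nat.card_pos.ne'
  have hc0 : Nat.card C ≠ 0 := Nat.card_pos.ne'
  have hn1 : 1 < Nat.card N := N.one_lt_card_iff_ne_bot.mpr (frobT_ne_bot hC hN)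
  have hc1 : 1 < Nat.card C := C.one_lt_card_iff_ne_bot.mpr hC.1
  have hfact : ∀ p : ℕ, p.Prime → p ∣ Nat.card N →
      (Nat.card N * Nat.card C).factorization p = (Nat.card N).factorization p := by
    intro p hpp hpn
    have hpc : ¬ p ∣ Nat.card C := by
      intro h
      have := Nat.eq_one_of_dvd_coprimes hcop hpn h
      exact hpp.one_lt.ne' this
    rw [Nat.factorization_mul hn0 hc0, Finsupp.add_apply,
      Nat.factorization_eq_zero_of_not_dvd hpc, add_zero]
  -- normal Sylow subgroups of `G` for the primes of the kernel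
  have hsyl : ∀ p ∈ (Nat.card N).primeFactors, ∃ Q : Subgroup G, Q.Normal ∧
      Nat.card Q = p ^ (Nat.card G).factorization p := by
    intro p hp
    have hpp : p.Prime := Nat.prime_of_mem_primeFactors hp
    have : Fact p.Prime := ⟨hpp⟩
    have hpn : p ∣ Nat.card N := Nat.dvd_of_mem_primeFactors hp
    obtain ⟨PN⟩ : Nonempty (Sylow p N) := inferInstance
    have hnil : Group.IsNilpotent N := frobT_nilpotent hC hN
    have hall := ((Group.isNilpotent_of_finite_tfae (G := N)).out 0 3).mp hnil
    have hPNn : (PN : Subgroup N).Normal := hall p inferInstance PN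
    have hcardPN : Nat.card ((PN : Subgroup N).map N.subtype)
        = p ^ (Nat.card F).factorization p := by
      rw [Subgroup.card_map_of_injective N.subtype_injective, Sylow.card_eq_multiplicity, ← hnc,
        hfact p hpp hpn]
    let P : Sylow p F := Sylow.ofCard ((PN : Subgroup N).map N.subtype) hcardPN
    have hPall : ∀ x : F, (∃ k, orderOf x = p ^ k) → x ∈ P := by
      rintro x ⟨k, hk⟩
      have hxN : x ∈ N := by
        by_contra hxN
        obtain ⟨h, hh, hord⟩ := frobT_orderOf_dvd_of_not_mem hC hN hxN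
        have h1 : orderOf x ∣ Nat.card C := by
          rw [← hord]; exact orderOf_dvd_of_pow_eq_one (pow_card_eq_one_of_mem hh)
        rcases Nat.eq_zero_or_pos k with rfl | hk0
        · rw [pow_zero, orderOf_eq_one_iff] at hk
          exact hxN (hk ▸ N.one_mem)
        · have h2 : p ∣ Nat.card C := by
            refine dvd_trans ?_ h1
            rw [hk]; exact dvd_pow_self p hk0.ne'
          have := Nat.eq_one_of_dvd_coprimes hcop hpn h2
          exact hpp.one_lt.ne' this
      have hpg : IsPGroup p (Subgroup.zpowers (⟨x, hxN⟩ : N)) := by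
        apply IsPGroup.of_card (n := k)
        rw [Nat.card_zpowers, ← hk, Subgroup.orderOf_mk]
      obtain ⟨P', hP'⟩ := hpg.exists_le_sylow
      have hPP' : P' = PN := by
        have := Sylow.unique_of_normal PN hPNn
        exact Subsingleton.elim _ _
      have hmem : (⟨x, hxN⟩ : N) ∈ (PN : Subgroup N) := by
        rw [← hPP']; exact hP' (Subgroup.mem_zpowers _)
      show x ∈ (PN : Subgroup N).map N.subtype
      exact ⟨⟨x, hxN⟩, hmem, rfl⟩
    obtain ⟨Q⟩ : Nonempty (Sylow p G) := inferInstance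
    exact ⟨Q, ot_normal_sylow φ hφ p P hPall Q, Sylow.card_eq_multiplicity Q⟩
  obtain ⟨M, hMn, hMc⟩ := exists_normal_of_normal_sylows (Nat.card N).primeFactors
    (fun p hp => Nat.prime_of_mem_primeFactors hp) hsyl
  have hMcard : Nat.card M = Nat.card N := by
    rw [hMc, hcardG]
    have h1 : ∏ p ∈ (Nat.card N).primeFactors, p ^ (Nat.card N * Nat.card C).factorization p
        = ∏ p ∈ (Nat.card N).primeFactors, p ^ (Nat.card N).factorization p :=
      Finset.prod_congr rfl (fun p hp => by
        rw [hfact p (Nat.prime_of_mem_primeFactors hp) (Nat.dvd_of_mem_primeFactors hp)])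
    rw [h1]
    have h2 := Nat.prod_factorization_pow_eq_self hn0
    rw [Finsupp.prod, Nat.support_factorization] at h2
    exact h2
  have hMidx : M.index = Nat.card C := by
    have h1 := M.card_mul_index
    rw [hMcard, hcardG] at h1
    exact Nat.eq_of_mul_eq_mul_left Nat.card_pos h1
  obtain ⟨D, hD⟩ := Subgroup.exists_right_complement'_of_coprime (N := M) (by
    rw [hMcard, hMidx]; exact hcop)
  have hDcard : Nat.card D = Nat.card C := by
    rw [← hMidx]; exact hD.symm.index_eq_card.symm
  have hM1 : M ≠ ⊥ := M.one_lt_card_iff_ne_bot.mp (hMcard ▸ hn1)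
  have hD1 : D ≠ ⊥ := D.one_lt_card_iff_ne_bot.mp (hDcard ▸ hc1)
  have hDfrob : Cfsg.IsFrobeniusComplement D := by
    apply isFrobeniusComplement_of_fpf (N := M) (H := D) hD.disjoint.eq_bot hD.sup_eq_top hM1 hD1
    intro h hh hh1 m hm hcomm
    by_contra hm1
    have hom : orderOf m ∣ Nat.card N := by
      rw [← hMcard]; exact orderOf_dvd_of_pow_eq_one (pow_card_eq_one_of_mem hm)
    have hoh : orderOf h ∣ Nat.card C := by
      rw [← hDcard]; exact orderOf_dvd_of_pow_eq_one (pow_card_eq_one_of_mem hh)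
    have hcop' : (orderOf m).Coprime (orderOf h) :=
      Nat.Coprime.coprime_dvd_left hom (Nat.Coprime.coprime_dvd_right hoh hcop)
    have hord : orderOf (m * h) = orderOf m * orderOf h :=
      (show Commute m h from hcomm).orderOf_mul_eq_mul_orderOf_of_coprime hcop'
    have hF' := frobT_orderOf_dvd hC hN (φ.symm (m * h))
    have hsame : orderOf (φ.symm (m * h)) = orderOf (m * h) := by
      rw [← hφ, Equiv.apply_symm_apply]
    rw [hsame, hord] at hF'
    rcases hF' with h1 | h1
    · have : orderOf h = 1 :=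
        Nat.eq_one_of_dvd_coprimes hcop ((dvd_mul_left _ _).trans h1) hoh
      exact hh1 (orderOf_eq_one_iff.mp this)
    · have : orderOf m = 1 :=
        Nat.eq_one_of_dvd_coprimes hcop hom ((dvd_mul_right _ _).trans h1)
      exact hm1 (orderOf_eq_one_iff.mp this)
  refine ⟨⟨D, hDfrob⟩, ?_⟩
  obtain ⟨N', hN', -, -⟩ := Cfsg.Agent.Helper11.frobenius_kernel_subgroup D hDfrob
  rw [frobT_solvable_iff hDfrob hN', frobT_solvable_iff hC hN,
    frobT_solvable_iff_fifteen hZG hDfrob hN', frobT_solvable_iff_fifteen hZF hC hN, hDcard]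
  apply imp_congr_right
  intro h15
  rw [frobT_exists_fifteen_iff hDfrob hN' (hDcard ▸ h15), frobT_exists_fifteen_iff hC hN h15]
  constructor
  · rintro ⟨y, hy⟩
    exact ⟨φ.symm y, by rw [← hφ, Equiv.apply_symm_apply]; exact hy⟩
  · rintro ⟨x, hx⟩
    exact ⟨φ x, by rw [hφ]; exact hx⟩

end Cfsg.Agent.Helper66
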