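import Mathlib
import Cfsg.Agent.Helper64.LW2Defs

/-!
# CALL S0745, piece C2b (helper66): `C(n, j)` divides the order of a `j`-homogeneous group

The hypothesis `hj : j ≤ Fintype.card α` has been added to the skeleton statement, which is false
without it (for `j > n` homogeneity is vacuous and `C(n, j) = 0`).
-/

set_option autoImplicit false

namespace Cfsg.Agent.Helper66.LW2C2b

open Cfsg.Agent.Lead.LW Cfsg.Agent.Helper64.LW2

variable {α : Type*} [Fintype α] [DecidableEq α]

open scoped Pointwise in
-- PIECE C2b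
theorem choose_dvd_card (G : Subgroup (Equiv.Perm α)) (j : ℕ) (hG : Homog G j)
    (hj : j ≤ Fintype.card α) :
    (Fintype.card α).choose j ∣ Nat.card G := by
  classical
  obtain ⟨Δ, hΔ⟩ : ∃ Δ : Finset α, Δ.card = j := by
    obtain ⟨Δ, -, hΔ⟩ := Finset.exists_subset_card_eq (s := (Finset.univ : Finset α)) (n := j)
      (by simpa using hj)
    exact ⟨Δ, hΔ⟩
  have horb : MulAction.orbit ↥G Δ = {T : Finset α | T.card = j} := by
    ext T
    constructor
    · rintro ⟨g, rfl⟩
      show (g • Δ).card = j
      rw [Finset.card_smul_finset, hΔ]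
    · intro hT
      obtain ⟨g, hg, hgT⟩ := hG Δ T hΔ hT
      refine ⟨⟨g, hg⟩, ?_⟩
      ext b
      show b ∈ (⟨g, hg⟩ : ↥G) • Δ ↔ b ∈ T
      rw [← Finset.inv_smul_mem_iff, ← hgT]
      have : g (((⟨g, hg⟩ : ↥G))⁻¹ • b) = b := by
        show g (g⁻¹ b) = b
        simp
      rw [this]
  have h1 : (MulAction.stabilizer ↥G Δ).index = (MulAction.orbit ↥G Δ).ncard :=
    MulAction.index_stabilizer ↥G Δ
  have h2 : (MulAction.orbit ↥G Δ).ncard = (Fintype.card α).choose j := by
    rw [horb]
    have : {T : Finset α | T.card = j} = ↑(Finset.powersetCard j (Finset.univ : Finset α)) := by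
      ext T
      simp [Finset.mem_powersetCard]
    rw [this, Set.ncard_coe_finset, Finset.card_powersetCard, Finset.card_univ]
  rw [← h2, ← h1]
  exact Subgroup.index_dvd_card _

end Cfsg.Agent.Helper66.LW2C2b
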