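import Mathlib
import Cfsg.Agent.Helper48.M11UGeo

/-!
# CALL S0420, piece SCA (helper66, double): a star has ten members
-/

set_option autoImplicit false
set_option linter.unusedSectionVars false
set_option linter.unusedVariables false
open scoped Pointwise

namespace Cfsg.Agent.Helper66

open Cfsg.Agent.Helper48.M11U

universe u
variable {G : Type u} [Group G] [Finite G]

theorem m11u_star_card (h : M11Gr G) (R S : Sylow 3 G) (hRS : Adj R S) :
    (star R S).ncard = 10 := by
  have hl1 := h.geo.l1
  have hset : star R S = insert R (Set.range (fun r : ↥(R : Subgroup G) => (r : G) • S)) := by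
    ext P
    rw [mem_star, Set.mem_insert_iff, Set.mem_range]
    constructor
    · rintro (h | ⟨r, hr, h⟩)
      · exact Or.inl h
      · exact Or.inr ⟨⟨r, hr⟩, h.symm⟩
    · rintro (h | ⟨r, h⟩)
      · exact Or.inl h
      · exact Or.inr ⟨r, r.2, h.symm⟩
  have hinj : Function.Injective (fun r : ↥(R : Subgroup G) => (r : G) • S) := by
    intro r r' hrr
    have hrr' : (r : G) • S = (r' : G) • S := hrr
    have h1 : ((r' : G)⁻¹ * (r : G)) • S = S := by
      rw [mul_smul, hrr', inv_smul_smul]
    have h2 := hl1.semireg R S _ (mul_mem (inv_mem r'.2) r.2) h1 (Ne.symm hRS.1)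
    apply Subtype.ext
    have : (r : G) = (r' : G) * ((r' : G)⁻¹ * (r : G)) := by group
    rw [this, h2, mul_one]
  have hnot : R ∉ Set.range (fun r : ↥(R : Subgroup G) => (r : G) • S) := by
    rintro ⟨r, hr⟩
    have hr' : (r : G) • S = R := hr
    have h1 : (r : G) • R = R := by
      rw [smul_eq_iff]
      exact Subgroup.le_normalizer r.2
    apply hRS.1
    have h3 : (r : G) • S = (r : G) • R := by rw [h1]; exact hr'
    exact (smul_left_cancel _ h3).symm
  rw [hset, Set.ncard_insert_of_notMem hnot (Set.toFinite _), ← Set.image_univ,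
    Set.ncard_image_of_injective _ hinj, Set.ncard_univ, hl1.raw.card3 R]

end Cfsg.Agent.Helper66
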