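import Mathlib
import Cfsg.Agent.Helper48.M11UGeo

/-!
# CALL S0420, piece STW (helper66, double): every Sylow lies in exactly two stars
-/

set_option autoImplicit false
set_option linter.unusedSectionVars false
set_option linter.unusedVariables false
open scoped Pointwise

namespace Cfsg.Agent.Helper66

open Cfsg.Agent.Helper48.M11U

universe u
variable {G : Type u} [Group G] [Finite G]

/-- the star of `R` and an `R`-conjugate of `S` is the star of `R` and `S` -/
theorem m11x66_star_smul_right (R S : Sylow 3 G) (r : G) (hr : r ∈ (R : Subgroup G)) :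
    star R (r • S) = star R S := by
  ext P
  rw [mem_star, mem_star]
  constructor
  · rintro (h | ⟨r', hr', h⟩)
    · exact Or.inl h
    · exact Or.inr ⟨r' * r, mul_mem hr' hr, by rw [h, mul_smul]⟩
  · rintro (h | ⟨r', hr', h⟩)
    · exact Or.inl h
    · refine Or.inr ⟨r' * r⁻¹, mul_mem hr' (inv_mem hr), ?_⟩
      rw [h, ← mul_smul, inv_mul_cancel_right]

theorem m11u_star_two (h : M11Gr G)
    (hcl : ∀ R S P P' : Sylow 3 G, Adj R S → P ∈ star R S → P' ∈ star R S → P ≠ P' → Adj P P')
    (heq : ∀ R S P P' : Sylow 3 G, Adj R S → P ∈ star R S → P' ∈ star R S → P ≠ P' →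
      star P P' = star R S)
    (hcard : ∀ R S : Sylow 3 G, Adj R S → (star R S).ncard = 10)
    (z : G) (R S T : Sylow 3 G) (hz : orderOf z = 2) (h1 : Inv z R) (h2 : Inv z S)
    (h3 : Inv z T) (hRS : R ≠ S) (hRT : R ≠ T) (hST : S ≠ T) :
    star R S ≠ star R T ∧ ∀ P P' : Sylow 3 G, Adj P P' → R ∈ star P P' →
      star P P' = star R S ∨ star P P' = star R T := by
  constructor
  · intro he
    have hT : T ∈ star R T := Or.inr ⟨1, one_mem _, (one_smul G T).symm⟩
    rw [← he] at hT
    rcases hT with hT | ⟨r, hr, hT⟩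
    · exact hRT hT.symm
    · exact h.orbdisj z R S T hz h1 h2 h3 hRS hRT hST r hr 1 (one_mem _)
        (by rw [one_smul]; exact hT.symm)
  · intro P P' hPP' hR
    have hc := hcard P P' hPP'
    obtain ⟨Q, hQ, hQR⟩ := Set.exists_ne_of_one_lt_ncard (by rw [hc]; norm_num) R
    have h5 : star R Q = star P P' := heq P P' R Q hPP' hR hQ (Ne.symm hQR)
    have h6 : Adj R Q := hcl P P' R Q hPP' hR hQ (Ne.symm hQR)
    obtain ⟨r, hr, hQ' | hQ'⟩ := h.nbr z R S T Q hz h1 h2 h3 hRS hRT hST h6
    · left
      rw [← h5, hQ', m11x66_star_smul_right R S r hr]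
    · right
      rw [← h5, hQ', m11x66_star_smul_right R T r hr]

end Cfsg.Agent.Helper66
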