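/-
Helper library of seat helper66: the automorphism group of `SL(2,5)` has order at most `120`,
the centre of `SL(2,5)`, and a quaternion pair in `SL(2,5)`.
-/
import Mathlib
import Cfsg.Agent.Helper56.SL25

set_option autoImplicit false

namespace Cfsg.Agent.Helper66

open Cfsg.Agent.Helper56 (SL25 X5 Y5 Z5)

section sl25aut

theorem sl25aut_eta (M : SL25) :
    (M : Matrix (Fin 2) (Fin 2) (ZMod 5)) = !![M.1 0 0, M.1 0 1; M.1 1 0, M.1 1 1] :=
  Matrix.eta_fin_two _

theorem sl25aut_det (M : SL25) : M.1 0 0 * M.1 1 1 - M.1 0 1 * M.1 1 0 = 1 := by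
  rw [← Matrix.det_fin_two]; exact M.2

theorem sl25aut_ext {M N : SL25} (h00 : M.1 0 0 = N.1 0 0) (h01 : M.1 0 1 = N.1 0 1)
    (h10 : M.1 1 0 = N.1 1 0) (h11 : M.1 1 1 = N.1 1 1) : M = N := by
  apply Subtype.ext
  ext i j
  fin_cases i <;> fin_cases j <;> assumption

theorem sl25aut_eq_one {M : SL25} (h : M.1 0 0 = 1 ∧ M.1 0 1 = 0 ∧ M.1 1 0 = 0 ∧ M.1 1 1 = 1) :
    M = 1 := by
  apply sl25aut_ext
  · rw [h.1]; rfl
  · rw [h.2.1]; rfl
  · rw [h.2.2.1]; rfl
  · rw [h.2.2.2]; rfl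

set_option maxRecDepth 100000 in
theorem sl25aut_dec5 : ∀ a b c d : ZMod 5, a * d - b * c = 1 →
    (!![a, b; c, d] : Matrix (Fin 2) (Fin 2) (ZMod 5)) ^ 5 = 1 →
    (a = 1 ∧ b = 0 ∧ c = 0 ∧ d = 1) ∨ a + d = 2 := by decide

set_option maxRecDepth 100000 in
theorem sl25aut_dec3 : ∀ a b c d : ZMod 5, a * d - b * c = 1 →
    (!![a, b; c, d] : Matrix (Fin 2) (Fin 2) (ZMod 5)) ^ 3 = 1 →
    ((!![a, b; c, d] : Matrix (Fin 2) (Fin 2) (ZMod 5)) * !![1, 1; 0, 1]) ^ 2 = !![4, 0; 0, 4] →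
    (a = 1 ∧ b = 0 ∧ c = 0 ∧ d = 1) ∨ (c = 1 ∧ a + d = 4) := by decide

set_option maxRecDepth 100000 in
theorem sl25aut_dec2 : ∀ a b c d : ZMod 5, a * d - b * c = 1 →
    (!![a, b; c, d] : Matrix (Fin 2) (Fin 2) (ZMod 5)) ^ 2 = 1 →
    (a = 1 ∧ b = 0 ∧ c = 0 ∧ d = 1) ∨ (a = 4 ∧ b = 0 ∧ c = 0 ∧ d = 4) := by decide

set_option maxRecDepth 100000 in
theorem sl25aut_decZ : ∀ a b c d : ZMod 5, a * d - b * c = 1 →
    (!![a, b; c, d] : Matrix (Fin 2) (Fin 2) (ZMod 5)) * !![0, 4; 1, 4] =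
      !![0, 4; 1, 4] * !![a, b; c, d] →
    (!![a, b; c, d] : Matrix (Fin 2) (Fin 2) (ZMod 5)) * !![1, 1; 0, 1] =
      !![1, 1; 0, 1] * !![a, b; c, d] →
    (a = 1 ∧ b = 0 ∧ c = 0 ∧ d = 1) ∨ (a = 4 ∧ b = 0 ∧ c = 0 ∧ d = 4) := by decide

/-- An element of order `5` of `SL(2,5)` has trace `2`. -/
theorem sl25aut_order5 (M : SL25) (h5 : M ^ 5 = 1) (h1 : M ≠ 1) : M.1 0 0 + M.1 1 1 = 2 := by
  have h := congrArg Subtype.val h5
  rw [Matrix.SpecialLinearGroup.coe_pow, sl25aut_eta M] at h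
  rcases sl25aut_dec5 _ _ _ _ (sl25aut_det M) h with h' | h'
  · exact absurd (sl25aut_eq_one h') h1
  · exact h'

/-- The elements `a` of order `3` with `(a Y5)^2 = Z5`. -/
theorem sl25aut_three (M : SL25) (h3 : M ^ 3 = 1) (h1 : M ≠ 1) (h : (M * Y5) ^ 2 = Z5) :
    M.1 1 0 = 1 ∧ M.1 0 0 + M.1 1 1 = 4 := by
  have h3' := congrArg Subtype.val h3
  rw [Matrix.SpecialLinearGroup.coe_pow, sl25aut_eta M] at h3'
  have h' := congrArg Subtype.val h
  rw [Matrix.SpecialLinearGroup.coe_pow, Matrix.SpecialLinearGroup.coe_mul, sl25aut_eta M] at h'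
  rcases sl25aut_dec3 _ _ _ _ (sl25aut_det M) h3' h' with h'' | h''
  · exact absurd (sl25aut_eq_one h'') h1
  · exact h''

/-- `Z5` is the only involution of `SL(2,5)`. -/
theorem sl25aut_invol (M : SL25) (h2 : M ^ 2 = 1) (h1 : M ≠ 1) : M = Z5 := by
  have h := congrArg Subtype.val h2
  rw [Matrix.SpecialLinearGroup.coe_pow, sl25aut_eta M] at h
  rcases sl25aut_dec2 _ _ _ _ (sl25aut_det M) h with h' | h'
  · exact absurd (sl25aut_eq_one h') h1
  · apply sl25aut_ext
    · rw [h'.1]; rfl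
    · rw [h'.2.1]; rfl
    · rw [h'.2.2.1]; rfl
    · rw [h'.2.2.2]; rfl

/-- The centre of `SL(2,5)` is `{1, Z5}` (elements commuting with the generators). -/
theorem sl25aut_central (M : SL25) (hx : M * X5 = X5 * M) (hy : M * Y5 = Y5 * M) :
    M = 1 ∨ M = Z5 := by
  have hx' := congrArg Subtype.val hx
  rw [Matrix.SpecialLinearGroup.coe_mul, Matrix.SpecialLinearGroup.coe_mul, sl25aut_eta M] at hx'
  have hy' := congrArg Subtype.val hy
  rw [Matrix.SpecialLinearGroup.coe_mul, Matrix.SpecialLinearGroup.coe_mul, sl25aut_eta M] at hy'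
  rcases sl25aut_decZ _ _ _ _ (sl25aut_det M) hx' hy' with h' | h'
  · exact Or.inl (sl25aut_eq_one h')
  · right
    apply sl25aut_ext
    · rw [h'.1]; rfl
    · rw [h'.2.1]; rfl
    · rw [h'.2.2.1]; rfl
    · rw [h'.2.2.2]; rfl

theorem sl25aut_closure : Subgroup.closure ({X5, Y5} : Set SL25) = ⊤ := by
  apply Cfsg.Agent.Helper56.eq_top_of_orders _ X5 (X5 * Y5) Y5
  · exact Subgroup.subset_closure (by simp)
  · exact Subgroup.mul_mem _ (Subgroup.subset_closure (by simp)) (Subgroup.subset_closure (by simp))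
  · exact Subgroup.subset_closure (by simp)
  · exact Cfsg.Agent.Helper56.order_X5
  · exact Cfsg.Agent.Helper56.order_XY5
  · exact Cfsg.Agent.Helper56.order_Y5

theorem sl25aut_ncard_five : ({M : SL25 | M ≠ 1 ∧ M ^ 5 = 1} : Set SL25).ncard ≤ 24 := by
  classical
  let F : Finset (ZMod 5 × ZMod 5 × ZMod 5) :=
    Finset.univ.filter (fun t => t.2.1 * t.2.2 = -(t.1 - 1) ^ 2 ∧ t ≠ (1, 0, 0))
  have hF : F.card = 24 := by decide
  rw [← hF, ← Set.ncard_coe_finset F]
  apply Set.ncard_le_ncard_of_injOn (fun M : SL25 => (M.1 0 0, M.1 0 1, M.1 1 0))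
  · rintro M ⟨h1, h5⟩
    have ht := sl25aut_order5 M h5 h1
    have hd := sl25aut_det M
    have hd11 : M.1 1 1 = 2 - M.1 0 0 := by rw [← ht]; ring
    simp only [F, Finset.coe_filter, Finset.mem_univ, true_and, Set.mem_ofPred_eq]
    refine ⟨?_, ?_⟩
    · rw [hd11] at hd
      linear_combination (-1 : ZMod 5) * hd
    · intro h
      simp only [Prod.mk.injEq] at h
      apply h1
      apply sl25aut_eq_one
      refine ⟨h.1, h.2.1, h.2.2, ?_⟩
      rw [hd11, h.1]; norm_num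
  · rintro M ⟨h1, h5⟩ N ⟨h1', h5'⟩ h
    simp only [Prod.mk.injEq] at h
    have ht := sl25aut_order5 M h5 h1
    have ht' := sl25aut_order5 N h5' h1'
    apply sl25aut_ext h.1 h.2.1 h.2.2
    have e1 : M.1 1 1 = 2 - M.1 0 0 := by rw [← ht]; ring
    have e2 : N.1 1 1 = 2 - N.1 0 0 := by rw [← ht']; ring
    rw [e1, e2, h.1]

theorem sl25aut_ncard_three :
    ({M : SL25 | M ≠ 1 ∧ M ^ 3 = 1 ∧ (M * Y5) ^ 2 = Z5} : Set SL25).ncard ≤ 5 := by
  have h5 : (Set.univ : Set (ZMod 5)).ncard = 5 := by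
    rw [Set.ncard_univ, Nat.card_eq_fintype_card, ZMod.card]
  refine le_trans ?_ (le_of_eq h5)
  apply Set.ncard_le_ncard_of_injOn (t := (Set.univ : Set (ZMod 5))) (fun M : SL25 => M.1 0 0)
  · intro M _; exact Set.mem_univ _
  · rintro M ⟨h1, h3, h⟩ N ⟨h1', h3', h'⟩ hMN
    have hMN' : M.1 0 0 = N.1 0 0 := hMN
    obtain ⟨hc, ht⟩ := sl25aut_three M h3 h1 h
    obtain ⟨hc', ht'⟩ := sl25aut_three N h3' h1' h'
    have hd := sl25aut_det M
    have hd' := sl25aut_det N
    have e1 : M.1 1 1 = 4 - M.1 0 0 := by rw [← ht]; ring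
    have e2 : N.1 1 1 = 4 - N.1 0 0 := by rw [← ht']; ring
    have e11 : M.1 1 1 = N.1 1 1 := by rw [e1, e2, hMN']
    apply sl25aut_ext hMN' ?_ (hc.trans hc'.symm) e11
    rw [hc] at hd
    rw [hc'] at hd'
    have e3 : M.1 0 1 = M.1 0 0 * M.1 1 1 - 1 := by linear_combination (-1 : ZMod 5) * hd
    have e4 : N.1 0 1 = N.1 0 0 * N.1 1 1 - 1 := by linear_combination (-1 : ZMod 5) * hd'
    rw [e3, e4, hMN', e11]

/-- `Aut(SL(2,5))` has order at most `120`. -/
theorem card_mulAut_SL25_le : Nat.card (MulAut SL25) ≤ 120 := by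
  classical
  have hfin : Finite (MulAut SL25) :=
    Finite.of_injective (fun e : MulAut SL25 => (e : SL25 → SL25)) DFunLike.coe_injective
  have hZ : ∀ α : MulAut SL25, α Z5 = Z5 := by
    intro α
    apply sl25aut_invol
    · rw [← map_pow, Cfsg.Agent.Helper56.Z5_2, map_one]
    · intro h
      exact Cfsg.Agent.Helper56.Z5_ne (α.injective (h.trans (map_one α).symm))
  -- the orbit of `Y5`
  have horb : (MulAction.orbit (MulAut SL25) Y5).ncard ≤ 24 := by
    refine (Set.ncard_le_ncard ?_ (Set.toFinite _)).trans sl25aut_ncard_five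
    rintro _ ⟨α, rfl⟩
    refine ⟨?_, ?_⟩
    · intro h
      have h' : α Y5 = 1 := h
      exact Cfsg.Agent.Helper56.Y5_ne (α.injective (h'.trans (map_one α).symm))
    · show (α Y5) ^ 5 = 1
      rw [← map_pow, Cfsg.Agent.Helper56.Y5_5, map_one]
  -- the stabiliser of `Y5`
  have hstab : Nat.card (MulAction.stabilizer (MulAut SL25) Y5) ≤ 5 := by
    refine le_trans ?_ sl25aut_ncard_three
    rw [← Nat.card_coe_set_eq]
    apply Nat.card_le_card_of_injective
      (fun α : MulAction.stabilizer (MulAut SL25) Y5 =>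
        (⟨(α : MulAut SL25) X5, by
          have hα : (α : MulAut SL25) Y5 = Y5 := α.2
          refine ⟨?_, ?_, ?_⟩
          · intro h
            exact Cfsg.Agent.Helper56.X5_ne
              ((α : MulAut SL25).injective (h.trans (map_one (α : MulAut SL25)).symm))
          · rw [← map_pow, Cfsg.Agent.Helper56.X5_3, map_one]
          · have e : ((α : MulAut SL25) X5 * Y5) ^ 2 = (α : MulAut SL25) ((X5 * Y5) ^ 2) := by
              rw [map_pow, map_mul, hα]
            rw [e, Cfsg.Agent.Helper56.XY5, hZ]⟩ :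
          {M : SL25 | M ≠ 1 ∧ M ^ 3 = 1 ∧ (M * Y5) ^ 2 = Z5}))
    intro α β h
    have hX : (α : MulAut SL25) X5 = (β : MulAut SL25) X5 := congrArg Subtype.val h
    have hα : (α : MulAut SL25) Y5 = Y5 := α.2
    have hβ : (β : MulAut SL25) Y5 = Y5 := β.2
    have heq : ((α : MulAut SL25) : SL25 ≃* SL25).toMonoidHom =
        ((β : MulAut SL25) : SL25 ≃* SL25).toMonoidHom := by
      apply MonoidHom.eq_of_eqOn_dense sl25aut_closure
      intro g hg
      rcases hg with rfl | rfl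
      · exact hX
      · exact hα.trans hβ.symm
    apply Subtype.ext
    apply MulEquiv.ext
    intro g
    exact DFunLike.congr_fun heq g
  have hidx := MulAction.index_stabilizer (MulAut SL25) Y5
  have hmul := Subgroup.card_mul_index (MulAction.stabilizer (MulAut SL25) Y5)
  rw [hidx] at hmul
  calc Nat.card (MulAut SL25)
      = Nat.card (MulAction.stabilizer (MulAut SL25) Y5) *
          (MulAction.orbit (MulAut SL25) Y5).ncard := hmul.symm
    _ ≤ 5 * 24 := Nat.mul_le_mul hstab horb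
    _ = 120 := by norm_num

/-- A quaternion pair in `SL(2,5)`. -/
def sl25autI : SL25 := ⟨!![2, 0; 0, 3], by decide⟩
def sl25autJ : SL25 := ⟨!![0, 1; 4, 0], by decide⟩

theorem sl25autI_sq : sl25autI * sl25autI = Z5 := by decide
theorem sl25autJ_sq : sl25autJ * sl25autJ = Z5 := by decide
theorem sl25autIJ : sl25autI * sl25autJ = Z5 * (sl25autJ * sl25autI) := by decide

/-- If `S ≅ SL(2,5)` is a normal subgroup of a finite group, its centraliser has index at most
`120`. -/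
theorem sl25aut_index_centralizer_le {Γ : Type*} [Group Γ] [Finite Γ] (S : Subgroup Γ)
    [S.Normal] (θ : S ≃* SL25) : (Subgroup.centralizer (S : Set Γ)).index ≤ 120 := by
  have hker : (MulAut.conjNormal (H := S)).ker = Subgroup.centralizer (S : Set Γ) := by
    ext h
    rw [MonoidHom.mem_ker, Subgroup.mem_centralizer_iff]
    constructor
    · intro hh s hs
      have h1 := congrArg (fun α : MulAut S => ((α ⟨s, hs⟩ : S) : Γ)) hh
      have h2 : h * s * h⁻¹ = s := by simpa [MulAut.conjNormal_apply] using h1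
      calc s * h = h * s * h⁻¹ * h := by rw [h2]
        _ = h * s := by group
    · intro hh
      apply MulEquiv.ext
      intro s
      apply Subtype.ext
      rw [MulAut.conjNormal_apply]
      have h2 := hh s.1 s.2
      show h * (s : Γ) * h⁻¹ = (s : Γ)
      rw [← h2]; group
  have hfin : Finite (MulAut S) :=
    Finite.of_injective (fun e : MulAut S => (e : S → S)) DFunLike.coe_injective
  rw [← hker, Subgroup.index_ker]
  calc Nat.card (MulAut.conjNormal (H := S)).range ≤ Nat.card (MulAut S) :=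
        Subgroup.card_le_card_group _
    _ = Nat.card (MulAut SL25) := Nat.card_congr (MulAut.congr θ).toEquiv
    _ ≤ 120 := card_mulAut_SL25_le

end sl25aut

end Cfsg.Agent.Helper66
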