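/-
Helper library of seat helper66: the insoluble sharply doubly transitive groups (Zassenhaus'
exceptional near-fields of orders 11², 29², 59²), on top of Zassenhaus' theorem in ring form
(`Helper56.zassenhaus_ring`).
-/
import Mathlib
import Cfsg.Agent.Helper66.SL25Aut
import Cfsg.Agent.Helper66.FrobOrderType
import Cfsg.Agent.Helper56.ZEnd

set_option autoImplicit false

namespace Cfsg.Agent.Helper66

open Cfsg.Agent.Helper56 (SL25 X5 Y5 Z5 Fpf)

section nfgeneral

/-- A finite group acting freely on a finite set has order dividing the size of the set. -/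
theorem card_dvd_of_free_action {C X : Type*} [Group C] [Finite C] [Finite X] [MulAction C X]
    (hfree : ∀ (c : C) (x : X), c • x = x → c = 1) : Nat.card C ∣ Nat.card X := by
  classical
  have := Fintype.ofFinite (MulAction.orbitRel.Quotient C X)
  rw [Nat.card_congr (MulAction.selfEquivSigmaOrbits C X), Nat.card_sigma]
  apply Finset.dvd_sum
  intro ω _
  have e : C ≃ MulAction.orbit C ω.out :=
    Equiv.ofBijective (fun c => ⟨c • ω.out, MulAction.mem_orbit _ _⟩) ⟨by
      intro c c' h
      have h1 : c • ω.out = c' • ω.out := congrArg Subtype.val h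
      have h2 : (c'⁻¹ * c) • ω.out = ω.out := by rw [mul_smul, h1, inv_smul_smul]
      have h3 := hfree _ _ h2
      exact (inv_mul_eq_one.mp h3).symm, by
      rintro ⟨x, c, rfl⟩
      exact ⟨c, rfl⟩⟩
  rw [Nat.card_congr e]

/-- The arithmetic of the exceptional near-fields. -/
theorem nf_arith {q c ε : ℕ} (hε : ε = 1 ∨ ε = 2) (hq : q * q = 60 * ε * c + 1)
    (hc : c ∣ q - 1) (hq1 : 1 ≤ q) (h2 : 2 ∣ c) (h4 : ¬ 4 ∣ c) (h3 : ¬ 3 ∣ c) (h5 : ¬ 5 ∣ c) :
    (q = 11 ∧ c = 2 ∧ ε = 1) ∨ (q = 29 ∧ c = 14 ∧ ε = 1) ∨ (q = 59 ∧ c = 58 ∧ ε = 1) ∨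
      (q = 119 ∧ c = 118 ∧ ε = 2) := by
  obtain ⟨j, hj⟩ := hc
  have hq' : q = c * j + 1 := by omega
  subst hq'
  have hc0 : 0 < c := by
    rcases Nat.eq_zero_or_pos c with h | h
    · subst h; exact absurd (dvd_zero 4) h4
    · exact h
  have key : j * (c * j + 2) = 60 * ε := by
    have e1 : (c * j + 1) * (c * j + 1) = c * (j * (c * j + 2)) + 1 := by ring
    rw [e1] at hq
    have e2 : c * (j * (c * j + 2)) = c * (60 * ε) := by linarith
    exact Nat.eq_of_mul_eq_mul_left hc0 e2
  have hj0 : 0 < j := by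
    rcases Nat.eq_zero_or_pos j with h | h
    · subst h
      rcases hε with rfl | rfl <;> simp at key
    · exact h
  have hj60 : j ≤ 60 := by
    have h1 : j * 2 ≤ j * (c * j + 2) := Nat.mul_le_mul_left j (by omega)
    rcases hε with rfl | rfl <;> omega
  interval_cases j <;> rcases hε with rfl | rfl <;> omega

end nfgeneral

section nfgroup

open Subgroup

variable {Γ : Type*} [Group Γ] [Finite Γ] {R : Type*} [Ring R] [Nontrivial R] {ρ : Γ →* R}
  {S : Subgroup Γ} [hSn : S.Normal]

omit [Finite Γ] hSn in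
/-- The central involution of `S ≅ SL(2,5)`. -/
theorem nf_z (θ : S ≃* SL25) :
    ((θ.symm Z5 : S) : Γ) ≠ 1 ∧ ((θ.symm Z5 : S) : Γ) * ((θ.symm Z5 : S) : Γ) = 1 := by
  constructor
  · intro h
    have h1 : θ.symm Z5 = 1 := Subtype.ext h
    exact Cfsg.Agent.Helper56.Z5_ne (θ.symm.injective (h1.trans (map_one θ.symm).symm))
  · rw [← Subgroup.coe_mul, ← map_mul, ← pow_two, Cfsg.Agent.Helper56.Z5_2, map_one]
    rfl

omit [Finite Γ] hSn in
/-- `S ∩ C_Γ(S) = {1, z}`. -/
theorem nf_inf_centralizer (θ : S ≃* SL25) {g : Γ} (hgS : g ∈ S)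
    (hgC : g ∈ centralizer (S : Set Γ)) : g = 1 ∨ g = ((θ.symm Z5 : S) : Γ) := by
  have hcomm : ∀ s : S, (⟨g, hgS⟩ : S) * s = s * ⟨g, hgS⟩ := by
    intro s
    apply Subtype.ext
    exact (Subgroup.mem_centralizer_iff.mp hgC s.1 s.2).symm
  have h1 : θ ⟨g, hgS⟩ * X5 = X5 * θ ⟨g, hgS⟩ := by
    have := congrArg θ (hcomm (θ.symm X5))
    simpa using this
  have h2 : θ ⟨g, hgS⟩ * Y5 = Y5 * θ ⟨g, hgS⟩ := by
    have := congrArg θ (hcomm (θ.symm Y5))
    simpa using this
  rcases sl25aut_central _ h1 h2 with h | h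
  · left
    have h3 : (⟨g, hgS⟩ : S) = 1 := θ.injective (h.trans (map_one θ).symm)
    exact congrArg Subtype.val h3
  · right
    have h3 : (⟨g, hgS⟩ : S) = θ.symm Z5 := by rw [← h, MulEquiv.symm_apply_apply]
    exact congrArg Subtype.val h3

/-- The order of `Γ` in terms of the centraliser of `S`. -/
theorem nf_card (hF : Fpf ρ) (θ : S ≃* SL25) :
    ∃ ε : ℕ, (ε = 1 ∨ ε = 2) ∧ Nat.card Γ = 60 * ε * Nat.card (centralizer (S : Set Γ)) ∧
      (ε = 1 → centralizer (S : Set Γ) ⊔ S = ⊤) := by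
  obtain ⟨hz1, hz2⟩ := nf_z θ
  have hzC : ((θ.symm Z5 : S) : Γ) ∈ centralizer (S : Set Γ) := by
    rw [Subgroup.mem_centralizer_iff]
    intro s _
    exact hF.invol_comm hz1 hz2 s
  have hcardS : Nat.card S = 120 := by
    rw [Nat.card_congr θ.toEquiv]; exact Cfsg.Agent.Helper56.card_SL25
  have hinf : Nat.card (centralizer (S : Set Γ) ⊓ S : Subgroup Γ) = 2 := by
    rw [Nat.card_eq_two_iff]
    refine ⟨⟨1, Subgroup.one_mem _⟩, ⟨((θ.symm Z5 : S) : Γ), hzC, (θ.symm Z5 : S).2⟩, ?_, ?_⟩
    · intro h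
      exact hz1 (congrArg Subtype.val h).symm
    · rw [Set.eq_univ_iff_forall]
      rintro ⟨g, hgC, hgS⟩
      rcases nf_inf_centralizer θ hgS hgC with h | h
      · left; exact Subtype.ext h
      · right; exact Subtype.ext h
  have hrel : (centralizer (S : Set Γ)).relIndex S = 60 := by
    have h1 : Nat.card (centralizer (S : Set Γ) ⊓ S : Subgroup Γ) *
        (centralizer (S : Set Γ) ⊓ S).relIndex S = Nat.card S :=
      Helper35.card_mul_relIndex_of_le inf_le_right
    rw [Subgroup.inf_relIndex_right, hinf, hcardS] at h1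
    omega
  have hsup : Nat.card (centralizer (S : Set Γ) ⊔ S : Subgroup Γ) =
      Nat.card (centralizer (S : Set Γ)) * 60 := by
    rw [card_sup_eq_card_mul_relIndex, hrel]
  have hidx := sl25aut_index_centralizer_le S θ
  have hmul := Subgroup.card_mul_index (centralizer (S : Set Γ))
  have hdvd : Nat.card (centralizer (S : Set Γ)) * 60 ∣ Nat.card Γ := by
    rw [← hsup]; exact Subgroup.card_subgroup_dvd_card _
  obtain ⟨ε, hε⟩ := hdvd
  have hcpos : 0 < Nat.card (centralizer (S : Set Γ)) := Nat.card_pos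
  have hε12 : ε = 1 ∨ ε = 2 := by
    have h1 : Nat.card (centralizer (S : Set Γ)) * (60 * ε) =
        Nat.card (centralizer (S : Set Γ)) * (centralizer (S : Set Γ)).index := by
      rw [hmul, hε]; ring
    have h2 : 60 * ε = (centralizer (S : Set Γ)).index := Nat.eq_of_mul_eq_mul_left hcpos h1
    have h3 : ε ≠ 0 := by
      rintro rfl
      have : Nat.card Γ = 0 := by rw [hε]; ring
      exact Nat.card_pos.ne' this
    omega
  refine ⟨ε, hε12, by rw [hε]; ring, ?_⟩
  intro h1
  apply Subgroup.eq_top_of_card_eq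
  rw [hsup, hε, h1]; ring

omit hSn in
/-- The order of the centraliser of `S` is `2 m` with `m` prime to `30`. -/
theorem nf_card_centralizer (hF : Fpf ρ) (θ : S ≃* SL25) :
    2 ∣ Nat.card (centralizer (S : Set Γ)) ∧ ¬ 4 ∣ Nat.card (centralizer (S : Set Γ)) ∧
      ¬ 3 ∣ Nat.card (centralizer (S : Set Γ)) ∧ ¬ 5 ∣ Nat.card (centralizer (S : Set Γ)) := by
  obtain ⟨hz1, hz2⟩ := nf_z θ
  have hzC : ((θ.symm Z5 : S) : Γ) ∈ centralizer (S : Set Γ) := by
    rw [Subgroup.mem_centralizer_iff]
    intro s _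
    exact hF.invol_comm hz1 hz2 s
  -- elements of `C` of odd prime order `r ∈ {3, 5}` do not exist
  have hodd : ∀ (r : ℕ) (t : SL25), r.Prime → r ≠ 2 → t ^ r = 1 → t ≠ 1 →
      ¬ r ∣ Nat.card (centralizer (S : Set Γ)) := by
    intro r t hr hr2 ht ht1 hdvd
    have : Fact r.Prime := ⟨hr⟩
    obtain ⟨⟨u, huC⟩, huo⟩ := exists_prime_orderOf_dvd_card' (G := centralizer (S : Set Γ)) r hdvd
    have huo' : orderOf u = r := by rw [← huo, Subgroup.orderOf_mk]
    have hur : u ^ r = 1 := by rw [← huo']; exact pow_orderOf_eq_one u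
    have htr : ((θ.symm t : S) : Γ) ^ r = 1 := by
      rw [← Subgroup.coe_pow, ← map_pow, ht, map_one]; rfl
    have ht1' : ((θ.symm t : S) : Γ) ≠ 1 := by
      intro h
      have h1 : θ.symm t = 1 := Subtype.ext h
      exact ht1 (θ.symm.injective (h1.trans (map_one θ.symm).symm))
    have hcomm : ((θ.symm t : S) : Γ) * u = u * ((θ.symm t : S) : Γ) :=
      Subgroup.mem_centralizer_iff.mp huC _ (θ.symm t).2
    have hmem := hF.mem_zpowers_of_commute hr hcomm htr hur ht1'
    have huS : u ∈ S := (Subgroup.zpowers_le.mpr (θ.symm t).2) hmem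
    have hu2 : u ^ 2 = 1 := by
      rcases nf_inf_centralizer θ huS huC with h | h
      · rw [h, one_pow]
      · rw [h, pow_two, hz2]
    have h1 : orderOf u ∣ 2 := orderOf_dvd_of_pow_eq_one hu2
    rw [huo'] at h1
    have h2 := (Nat.prime_dvd_prime_iff_eq hr Nat.prime_two).mp h1
    exact hr2 h2
  refine ⟨?_, ?_, ?_, ?_⟩
  · have h1 : orderOf ((θ.symm Z5 : S) : Γ) = 2 := by
      apply orderOf_eq_prime
      · rw [pow_two]; exact hz2
      · exact hz1
    rw [← h1]
    exact Subgroup.orderOf_dvd_natCard _ hzC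
  · intro h4
    obtain ⟨K, hK⟩ := Sylow.exists_subgroup_card_pow_prime (G := centralizer (S : Set Γ)) 2
      (n := 2) (by norm_num; exact h4)
    -- every element of `K` is `1` or `z`
    have hsq : ∀ g : Γ, g ∈ centralizer (S : Set Γ) → g ^ 4 = 1 →
        g = 1 ∨ g = ((θ.symm Z5 : S) : Γ) := by
      intro g hgC hg4
      by_cases hg2 : g * g = 1
      · exact hF.sq_eq_one hz1 hz2 hg2
      · exfalso
        have hgg : g * g = ((θ.symm Z5 : S) : Γ) := by
          have h1 : (g * g) * (g * g) = 1 := by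
            have e : (g * g) * (g * g) = g ^ 4 := by
              simp only [pow_succ, pow_zero, one_mul, mul_assoc]
            rw [e, hg4]
          exact (hF.sq_eq_one hz1 hz2 h1).resolve_left hg2
        have hii : ((θ.symm sl25autI : S) : Γ) * ((θ.symm sl25autI : S) : Γ) =
            ((θ.symm Z5 : S) : Γ) := by
          rw [← Subgroup.coe_mul, ← map_mul, sl25autI_sq]
        have hcomm : ((θ.symm sl25autI : S) : Γ) * g = g * ((θ.symm sl25autI : S) : Γ) :=
          Subgroup.mem_centralizer_iff.mp hgC _ (θ.symm sl25autI).2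
        have hw : (g * ((θ.symm sl25autI : S) : Γ)⁻¹) * (g * ((θ.symm sl25autI : S) : Γ)⁻¹) = 1 := by
          have e : (g * ((θ.symm sl25autI : S) : Γ)⁻¹) * (g * ((θ.symm sl25autI : S) : Γ)⁻¹) =
              (g * g) * (((θ.symm sl25autI : S) : Γ) * ((θ.symm sl25autI : S) : Γ))⁻¹ := by
            have hc2 : ((θ.symm sl25autI : S) : Γ)⁻¹ * g = g * ((θ.symm sl25autI : S) : Γ)⁻¹ := by
              rw [inv_mul_eq_iff_eq_mul, ← mul_assoc, hcomm, mul_assoc, mul_inv_cancel, mul_one]
            calc (g * ((θ.symm sl25autI : S) : Γ)⁻¹) * (g * ((θ.symm sl25autI : S) : Γ)⁻¹)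
                = g * (((θ.symm sl25autI : S) : Γ)⁻¹ * g) * ((θ.symm sl25autI : S) : Γ)⁻¹ := by
                  group
              _ = g * (g * ((θ.symm sl25autI : S) : Γ)⁻¹) * ((θ.symm sl25autI : S) : Γ)⁻¹ := by
                  rw [hc2]
              _ = (g * g) * (((θ.symm sl25autI : S) : Γ) * ((θ.symm sl25autI : S) : Γ))⁻¹ := by
                  group
          rw [e, hgg, hii, mul_inv_cancel]
        have hgS : g ∈ S := by
          rcases hF.sq_eq_one hz1 hz2 hw with h | h
          · have e : g = ((θ.symm sl25autI : S) : Γ) := by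
              rw [mul_inv_eq_one] at h; exact h
            rw [e]; exact (θ.symm sl25autI).2
          · have e : g = ((θ.symm Z5 : S) : Γ) * ((θ.symm sl25autI : S) : Γ) := by
              rw [← h]; group
            rw [e]; exact S.mul_mem (θ.symm Z5).2 (θ.symm sl25autI).2
        rcases nf_inf_centralizer θ hgS hgC with h | h
        · exact hg2 (by rw [h, one_mul])
        · exact hg2 (by rw [h, hz2])
    have hle : Nat.card K ≤ Nat.card Bool := by
      classical
      apply Nat.card_le_card_of_injective (fun g : K => decide (((g : centralizer (S : Set Γ)) : Γ) = 1))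
      intro g g' hgg'
      have hg4 : ∀ k : K, ((k : centralizer (S : Set Γ)) : Γ) ^ 4 = 1 := by
        intro k
        have h1 : k ^ Nat.card K = 1 := pow_card_eq_one'
        rw [hK] at h1
        have h2 := congrArg (fun k : K => ((k : centralizer (S : Set Γ)) : Γ)) h1
        simpa using h2
      have h1 := hsq _ (g : centralizer (S : Set Γ)).2 (hg4 g)
      have h2 := hsq _ (g' : centralizer (S : Set Γ)).2 (hg4 g')
      have h3 : (((g : centralizer (S : Set Γ)) : Γ) = 1) ↔
          (((g' : centralizer (S : Set Γ)) : Γ) = 1) := by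
        simpa using hgg'
      apply Subtype.ext
      apply Subtype.ext
      rcases h1 with h1 | h1
      · rw [h1, h3.mp h1]
      · rcases h2 with h2 | h2
        · rw [h3.mpr h2, h2]
        · rw [h1, h2]
    rw [hK, Nat.card_eq_fintype_card, Fintype.card_bool] at hle
    norm_num at hle
  · exact hodd 3 X5 Nat.prime_three (by norm_num) Cfsg.Agent.Helper56.X5_3
      Cfsg.Agent.Helper56.X5_ne
  · exact hodd 5 Y5 (by norm_num) (by norm_num) Cfsg.Agent.Helper56.Y5_5
      Cfsg.Agent.Helper56.Y5_ne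

omit hSn in
/-- If `C_Γ(S)` has order `2` and `Γ = C_Γ(S) S`, then `Γ ≅ SL(2,5)`. -/
theorem nf_iso_one (hF : Fpf ρ) (θ : S ≃* SL25) (htop : centralizer (S : Set Γ) ⊔ S = ⊤)
    (hc : Nat.card (centralizer (S : Set Γ)) = 2) : Nonempty (Γ ≃* SL25) := by
  obtain ⟨hz1, hz2⟩ := nf_z θ
  have hzC : ((θ.symm Z5 : S) : Γ) ∈ centralizer (S : Set Γ) := by
    rw [Subgroup.mem_centralizer_iff]
    intro s _
    exact hF.invol_comm hz1 hz2 s
  have ho : orderOf ((θ.symm Z5 : S) : Γ) = 2 := by
    apply orderOf_eq_prime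
    · rw [pow_two]; exact hz2
    · exact hz1
  have hzp : Subgroup.zpowers ((θ.symm Z5 : S) : Γ) = centralizer (S : Set Γ) := by
    apply Subgroup.eq_of_le_of_card_ge (Subgroup.zpowers_le.mpr hzC)
    rw [hc, Nat.card_zpowers, ho]
  have hCS : centralizer (S : Set Γ) ≤ S := by
    rw [← hzp]; exact Subgroup.zpowers_le.mpr (θ.symm Z5).2
  have hS : S = ⊤ := by
    rw [eq_top_iff, ← htop]; exact sup_le hCS le_rfl
  exact ⟨(Subgroup.topEquiv.symm.trans (MulEquiv.subgroupCongr hS.symm)).trans θ⟩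

omit [Nontrivial R] hSn in
/-- If `C_Γ(S)` has order `2 m`, `m` an odd prime, and `|Γ| = 60 |C_Γ(S)|`, then
`Γ ≅ SL(2,5) × C_m`. -/
theorem nf_iso_prime (θ : S ≃* SL25) {m : ℕ} (hm : m.Prime) (hm2 : m ≠ 2)
    (hcard : Nat.card Γ = 60 * Nat.card (centralizer (S : Set Γ)))
    (hc : Nat.card (centralizer (S : Set Γ)) = 2 * m) :
    Nonempty (Γ ≃* SL25 × Multiplicative (ZMod m)) := by
  have : Fact m.Prime := ⟨hm⟩
  obtain ⟨hz1, hz2⟩ := nf_z θ
  obtain ⟨⟨u, huC⟩, huo⟩ := exists_prime_orderOf_dvd_card' (G := centralizer (S : Set Γ)) m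
    (by rw [hc]; exact dvd_mul_left m 2)
  have huo' : orderOf u = m := by rw [← huo, Subgroup.orderOf_mk]
  have hMC : Subgroup.zpowers u ≤ centralizer (S : Set Γ) := Subgroup.zpowers_le.mpr huC
  have hcardM : Nat.card (Subgroup.zpowers u) = m := by rw [Nat.card_zpowers, huo']
  have hcardS : Nat.card S = 120 := by
    rw [Nat.card_congr θ.toEquiv]; exact Cfsg.Agent.Helper56.card_SL25
  let f : S × Subgroup.zpowers u →* Γ :=
    MonoidHom.noncommCoprod S.subtype (Subgroup.zpowers u).subtype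
      (fun s c => Subgroup.mem_centralizer_iff.mp (hMC c.2) s.1 s.2)
  have hf : ∀ (s : S) (c : Subgroup.zpowers u), f (s, c) = (s : Γ) * (c : Γ) := fun s c => rfl
  have hinj : Function.Injective f := by
    rw [injective_iff_map_eq_one]
    rintro ⟨s, c⟩ h
    rw [hf] at h
    have hcS : (c : Γ) ∈ S := by
      have e : (c : Γ) = (s : Γ)⁻¹ := by
        rw [← mul_right_inj (s : Γ), h, mul_inv_cancel]
      rw [e]; exact S.inv_mem s.2
    have hc1 : (c : Γ) = 1 := by
      have hcm : (c : Γ) ^ m = 1 := by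
        have h1 : c ^ Nat.card (Subgroup.zpowers u) = 1 := pow_card_eq_one'
        rw [hcardM] at h1
        have h2 := congrArg Subtype.val h1
        simpa using h2
      have hc2 : (c : Γ) ^ 2 = 1 := by
        rcases nf_inf_centralizer θ hcS (hMC c.2) with h' | h'
        · rw [h', one_pow]
        · rw [h', pow_two, hz2]
      have hcop : Nat.Coprime m 2 := (Nat.coprime_primes hm Nat.prime_two).mpr hm2
      exact eq_one_of_pow_eq_one_of_coprime hcop hcm hc2
    rw [hc1, mul_one] at h
    rw [Prod.mk_eq_one]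
    exact ⟨Subtype.ext h, Subtype.ext hc1⟩
  have hcard' : Nat.card (S × Subgroup.zpowers u) = Nat.card Γ := by
    rw [Nat.card_prod, hcardS, hcardM, hcard, hc]; ring
  have hbij : Function.Bijective f := (Nat.bijective_iff_injective_and_card f).mpr ⟨hinj, hcard'⟩
  have e2 : Subgroup.zpowers u ≃* Multiplicative (ZMod m) :=
    mulEquivOfPrimeCardEq (p := m) hcardM (by
      rw [Nat.card_eq_fintype_card, Fintype.card_multiplicative, ZMod.card])
  exact ⟨(MulEquiv.ofBijective f hbij).symm.trans (MulEquiv.prodCongr θ e2)⟩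

end nfgroup

section nflinear

variable {p : ℕ} [Fact p.Prime] {V : Type*} [AddCommGroup V] [Module (ZMod p) V] [Finite V]

/-- A quaternion pair `I, J` of linear maps halves the space, and a group commuting with `I, J`
and acting freely on the nonzero vectors has order dividing `q - 1`, `q² = |V|`. -/
theorem nf_linear (I J : Module.End (ZMod p) V) (hI : I * I = -1) (hJ : J * J = -1)
    (hIJ : I * J = -(J * I)) (h2 : (2 : ZMod p) ≠ 0)
    {C : Type*} [Group C] [Finite C] (σ : C →* Module.End (ZMod p) V)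
    (hσI : ∀ c, σ c * I = I * σ c) (hσJ : ∀ c, σ c * J = J * σ c)
    (hσ : ∀ c : C, c ≠ 1 → ∀ v : V, σ c v = v → v = 0) :
    ∃ q : ℕ, 1 ≤ q ∧ Nat.card V = q * q ∧ Nat.card C ∣ q - 1 := by
  classical
  obtain ⟨a, b, hab⟩ := ZMod.sq_add_sq p (-1)
  have hJI : J * I = -(I * J) := by rw [hIJ, neg_neg]
  have hIJI : I * J * I = J := by
    rw [mul_assoc, hJI, mul_neg, ← mul_assoc, hI, neg_mul, one_mul, neg_neg]
  have hIJJ : I * J * J = -I := by rw [mul_assoc, hJ, mul_neg, mul_one]
  have hIIJ : I * I * J = -J := by rw [hI, neg_mul, one_mul]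
  have hJIJ : J * I * J = I := by
    rw [hJI, neg_mul, hIJJ, neg_neg]
  -- the involution `W`
  obtain ⟨W, hW⟩ : ∃ W : Module.End (ZMod p) V, W = a • I + b • J := ⟨_, rfl⟩
  have hWW : W * W = 1 := by
    have e : W * W = (a * a) • (I * I) + (a * b) • (I * J) + (b * a) • (J * I) +
        (b * b) • (J * J) := by
      rw [hW]
      simp only [add_mul, mul_add, smul_mul_assoc, mul_smul_comm]
      module
    rw [e, hI, hJ, hIJ]
    have e2 : (a * a) • (-1 : Module.End (ZMod p) V) + (a * b) • -(J * I) + (b * a) • (J * I) +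
        (b * b) • (-1 : Module.End (ZMod p) V) = (-(a ^ 2 + b ^ 2)) • (1 : Module.End (ZMod p) V) := by
      module
    rw [e2, hab, neg_neg, one_smul]
  have hKW : (I * J) * W = -(W * (I * J)) := by
    rw [hW]
    simp only [add_mul, mul_add, smul_mul_assoc, mul_smul_comm]
    rw [hIJI, hIJJ, ← mul_assoc, ← mul_assoc, hIIJ, hJIJ]
    module
  have hKK : (I * J) * (I * J) = -1 := by
    rw [← mul_assoc, hIJI, hJ]
  have hWσ : ∀ c, σ c * W = W * σ c := by
    intro c
    rw [hW]
    simp only [add_mul, mul_add, smul_mul_assoc, mul_smul_comm, hσI, hσJ]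
  -- pointwise forms
  have hWWv : ∀ v : V, W (W v) = v := fun v => by
    have := LinearMap.congr_fun hWW v
    simpa using this
  have hKWv : ∀ v : V, (I * J) (W v) = -(W ((I * J) v)) := fun v => by
    have := LinearMap.congr_fun hKW v
    simpa using this
  have hKKv : ∀ v : V, (I * J) ((I * J) v) = -v := fun v => by
    have := LinearMap.congr_fun hKK v
    simpa using this
  have hWσv : ∀ c (v : V), σ c (W v) = W (σ c v) := fun c v => by
    have := LinearMap.congr_fun (hWσ c) v
    simpa using this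
  have h2v : ∀ v : V, v + v = 0 → v = 0 := by
    intro v hv
    rw [← two_smul (ZMod p)] at hv
    exact (smul_eq_zero.mp hv).resolve_left h2
  -- the bijection `V₊ × V₊ ≃ V`
  have hbij : Function.Bijective (fun x : {u : V // W u = u} × {u : V // W u = u} =>
      (x.1 : V) + (I * J) (x.2 : V)) := by
    constructor
    · rintro ⟨⟨u₁, h₁⟩, ⟨u₁', h₁'⟩⟩ ⟨⟨u₂, h₂⟩, ⟨u₂', h₂'⟩⟩ h
      have h' : u₁ + (I * J) u₁' = u₂ + (I * J) u₂' := h
      have hd : (u₁ - u₂) + (I * J) (u₁' - u₂') = 0 := by
        rw [map_sub]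
        have := sub_eq_zero.mpr h'
        rw [← this]; abel
      have hWd : W (u₁ - u₂) = u₁ - u₂ := by rw [map_sub, h₁, h₂]
      have hWd' : W (u₁' - u₂') = u₁' - u₂' := by rw [map_sub, h₁', h₂']
      have hd2 : (u₁ - u₂) - (I * J) (u₁' - u₂') = 0 := by
        have h3 := congrArg W hd
        rw [map_add, map_zero, hWd] at h3
        have h4 : W ((I * J) (u₁' - u₂')) = -((I * J) (u₁' - u₂')) := by
          have := hKWv (u₁' - u₂')
          rw [hWd'] at this
          exact (neg_eq_iff_eq_neg.mpr this).symm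
        rw [h4] at h3
        rw [sub_eq_add_neg]; exact h3
      have hd0 : u₁ - u₂ = 0 := by
        apply h2v
        have := congrArg₂ (· + ·) hd hd2
        simp only [add_zero] at this
        rw [← this]; abel
      have hd0' : u₁' - u₂' = 0 := by
        rw [hd0, zero_add] at hd
        have h5 := hKKv (u₁' - u₂')
        rw [hd, map_zero] at h5
        exact neg_eq_zero.mp h5.symm
      have e1 : u₁ = u₂ := sub_eq_zero.mp hd0
      have e2 : u₁' = u₂' := sub_eq_zero.mp hd0'
      subst e1; subst e2; rfl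
    · intro v
      have hu : W ((2 : ZMod p)⁻¹ • (v + W v)) = (2 : ZMod p)⁻¹ • (v + W v) := by
        rw [map_smul, map_add, hWWv, add_comm]
      have hu' : W ((2 : ZMod p)⁻¹ • -((I * J) (v - W v))) =
          (2 : ZMod p)⁻¹ • -((I * J) (v - W v)) := by
        rw [map_smul, map_neg]
        congr 1
        have hx : W (v - W v) = -(v - W v) := by rw [map_sub, hWWv]; abel
        have h3 := hKWv (v - W v)
        rw [hx, map_neg] at h3
        exact h3.symm
      refine ⟨(⟨_, hu⟩, ⟨_, hu'⟩), ?_⟩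
      show (2 : ZMod p)⁻¹ • (v + W v) + (I * J) ((2 : ZMod p)⁻¹ • -((I * J) (v - W v))) = v
      rw [map_smul, map_neg, hKKv, neg_neg, ← smul_add]
      have e : v + W v + (v - W v) = (2 : ZMod p) • v := by rw [two_smul]; abel
      rw [e, smul_smul, inv_mul_cancel₀ h2, one_smul]
  have hcardV : Nat.card V = Nat.card {u : V // W u = u} * Nat.card {u : V // W u = u} := by
    rw [← Nat.card_prod]
    exact (Nat.card_congr (Equiv.ofBijective _ hbij)).symm
  refine ⟨Nat.card {u : V // W u = u}, ?_, hcardV, ?_⟩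
  · have : Nonempty {u : V // W u = u} := ⟨⟨0, map_zero W⟩⟩
    exact Nat.card_pos
  · -- the free action of `C` on the nonzero vectors of `V₊`
    have hσinv : ∀ (c : C) (v : V), σ c⁻¹ (σ c v) = v := by
      intro c v
      have h1 : σ c⁻¹ * σ c = 1 := by rw [← map_mul, inv_mul_cancel, map_one]
      have := LinearMap.congr_fun h1 v
      simpa using this
    let act : MulAction C {u : {u : V // W u = u} // (u : V) ≠ 0} :=
      { smul := fun c u => ⟨⟨σ c (u : V), by rw [← hWσv, u.1.2]⟩, fun h0 => u.2 (by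
          have h1 := hσinv c (u : V)
          have h0' : σ c (u : V) = 0 := h0
          rw [h0', map_zero] at h1
          exact h1.symm)⟩
        one_smul := fun u => by
          apply Subtype.ext; apply Subtype.ext
          show σ 1 (u : V) = (u : V)
          rw [map_one]; rfl
        mul_smul := fun c c' u => by
          apply Subtype.ext; apply Subtype.ext
          show σ (c * c') (u : V) = σ c (σ c' (u : V))
          rw [map_mul]; rfl }
    have hfree : ∀ (c : C) (u : {u : {u : V // W u = u} // (u : V) ≠ 0}), c • u = u → c = 1 := by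
      intro c u hcu
      by_contra hc1
      have h1 : σ c ((u : {u : V // W u = u}) : V) = ((u : {u : V // W u = u}) : V) :=
        congrArg (fun w : {u : {u : V // W u = u} // (u : V) ≠ 0} =>
          ((w : {u : V // W u = u}) : V)) hcu
      exact u.2 (hσ c hc1 _ h1)
    have hdvd := card_dvd_of_free_action hfree
    have hcardX : Nat.card {u : {u : V // W u = u} // (u : V) ≠ 0} =
        Nat.card {u : V // W u = u} - 1 := by
      have := Fintype.ofFinite {u : V // W u = u}
      rw [Nat.card_eq_fintype_card, Nat.card_eq_fintype_card, Fintype.card_subtype_compl]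
      congr 1
      rw [Fintype.card_eq_one_iff]
      refine ⟨⟨⟨0, map_zero W⟩, rfl⟩, ?_⟩
      rintro ⟨⟨u, hu⟩, hu0⟩
      apply Subtype.ext; apply Subtype.ext
      exact hu0
    rw [hcardX] at hdvd
    exact hdvd

end nflinear

section nfmain

variable {p : ℕ} [Fact p.Prime] {V : Type*} [AddCommGroup V] [Module (ZMod p) V] [Finite V]

/-- The representation of a group of linear automorphisms. -/
def nfRho (H : Subgroup (V ≃ₗ[ZMod p] V)) : H →* Module.End (ZMod p) V where
  toFun h := ((h : V ≃ₗ[ZMod p] V) : V →ₗ[ZMod p] V)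
  map_one' := rfl
  map_mul' _ _ := rfl

omit [Finite V] in
theorem nfRho_apply (H : Subgroup (V ≃ₗ[ZMod p] V)) (h : H) (v : V) :
    nfRho H h v = (h : V ≃ₗ[ZMod p] V) v := rfl

/-- **The insoluble sharply doubly transitive groups** (Zassenhaus). -/
theorem nf_main (H : Subgroup (V ≃ₗ[ZMod p] V))
    (hreg : ∀ v w : V, v ≠ 0 → w ≠ 0 → ∃! h : H, (h : V ≃ₗ[ZMod p] V) v = w)
    (hsolv : ¬ Group.IsSolvable H) :
    (Nat.card V = 121 ∧ Nonempty (H ≃* SL25)) ∨
    (Nat.card V = 841 ∧ Nonempty (H ≃* SL25 × Multiplicative (ZMod 7))) ∨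
    (Nat.card V = 3481 ∧ Nonempty (H ≃* SL25 × Multiplicative (ZMod 29))) := by
  classical
  have hfinE : Finite (V ≃ₗ[ZMod p] V) :=
    Finite.of_injective (fun e : V ≃ₗ[ZMod p] V => (e : V → V)) DFunLike.coe_injective
  -- `V` is nontrivial
  have hV : ∃ v₀ : V, v₀ ≠ 0 := by
    by_contra hne
    push Not at hne
    apply hsolv
    have hsub : Subsingleton H := ⟨fun a b => Subtype.ext (LinearEquiv.ext fun v => by
      rw [hne v, map_zero, map_zero])⟩
    exact Group.isSolvable_of_comm fun a b => Subsingleton.elim _ _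
  obtain ⟨v₀, hv₀⟩ := hV
  have hnt : Nontrivial (Module.End (ZMod p) V) := by
    refine ⟨⟨0, 1, fun h => hv₀ ?_⟩⟩
    have := LinearMap.congr_fun h v₀
    simpa using this.symm
  -- fixed-point-freeness
  have hfix : ∀ h : H, h ≠ 1 → ∀ v : V, (h : V ≃ₗ[ZMod p] V) v = v → v = 0 := by
    intro h hh v hv
    by_contra hv0
    exact hh ((hreg v v hv0 hv0).unique hv (by simp))
  have hF : Fpf (nfRho H) := by
    intro h hh
    rw [Module.End.isUnit_iff]
    apply Finite.injective_iff_bijective.mp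
    rw [← LinearMap.ker_eq_bot, LinearMap.ker_eq_bot']
    intro v hv
    apply hfix h hh v
    have h1 : nfRho H h v - v = 0 := hv
    rw [nfRho_apply] at h1
    exact sub_eq_zero.mp h1
  -- the order of `H`
  have hcardH : Nat.card H + 1 = Nat.card V := by
    have e : H ≃ {w : V // w ≠ 0} :=
      Equiv.ofBijective (fun h => ⟨(h : V ≃ₗ[ZMod p] V) v₀, fun h0 => hv₀ (by simpa using h0)⟩) ⟨by
        intro h h' hh
        have h1 : (h : V ≃ₗ[ZMod p] V) v₀ = (h' : V ≃ₗ[ZMod p] V) v₀ := congrArg Subtype.val hh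
        have hw : (h' : V ≃ₗ[ZMod p] V) v₀ ≠ 0 := fun h0 => hv₀ (by simpa using h0)
        exact (hreg v₀ _ hv₀ hw).unique h1 rfl, by
        rintro ⟨w, hw⟩
        obtain ⟨h, hh, -⟩ := hreg v₀ w hv₀ hw
        exact ⟨h, Subtype.ext hh⟩⟩
    have := Fintype.ofFinite V
    rw [Nat.card_congr e, Nat.card_eq_fintype_card, Nat.card_eq_fintype_card,
      Fintype.card_subtype_compl, Fintype.card_subtype_eq]
    have : 0 < Fintype.card V := Fintype.card_pos
    omega
  -- the perfect normal subgroup `S ≅ SL(2,5)`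
  obtain ⟨S, hSn, hS1, hSS⟩ := exists_perfect_of_not_solvable hsolv
  have hperfS : commutator S = ⊤ := by
    apply Subgroup.map_injective S.subtype_injective
    rw [Subgroup.map_subtype_commutator, hSS, ← MonoidHom.range_eq_map, Subgroup.range_subtype]
  have hntS : Nontrivial S := (Subgroup.nontrivial_iff_ne_bot S).mpr hS1
  obtain ⟨θ⟩ := Cfsg.Agent.Helper56.zassenhaus_ring (hF.subgroup S) hperfS
  obtain ⟨hz1, hz2⟩ := nf_z θ
  have hρz := hF.rho_invol hz1 hz2
  -- the quaternion pair
  have hii : ((θ.symm sl25autI : S) : H) * ((θ.symm sl25autI : S) : H) =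
      ((θ.symm Z5 : S) : H) := by
    rw [← Subgroup.coe_mul, ← map_mul, sl25autI_sq]
  have hjj : ((θ.symm sl25autJ : S) : H) * ((θ.symm sl25autJ : S) : H) =
      ((θ.symm Z5 : S) : H) := by
    rw [← Subgroup.coe_mul, ← map_mul, sl25autJ_sq]
  have hij : ((θ.symm sl25autI : S) : H) * ((θ.symm sl25autJ : S) : H) =
      ((θ.symm Z5 : S) : H) * (((θ.symm sl25autJ : S) : H) * ((θ.symm sl25autI : S) : H)) := by
    rw [← Subgroup.coe_mul, ← Subgroup.coe_mul, ← Subgroup.coe_mul, ← map_mul, ← map_mul,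
      ← map_mul, sl25autIJ]
  have hI : nfRho H ((θ.symm sl25autI : S) : H) * nfRho H ((θ.symm sl25autI : S) : H) = -1 := by
    rw [← map_mul, hii, hρz]
  have hJ : nfRho H ((θ.symm sl25autJ : S) : H) * nfRho H ((θ.symm sl25autJ : S) : H) = -1 := by
    rw [← map_mul, hjj, hρz]
  have hIJ : nfRho H ((θ.symm sl25autI : S) : H) * nfRho H ((θ.symm sl25autJ : S) : H) =
      -(nfRho H ((θ.symm sl25autJ : S) : H) * nfRho H ((θ.symm sl25autI : S) : H)) := by
    rw [← map_mul, hij, map_mul, hρz, neg_one_mul, map_mul]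
  have h2 : (2 : ZMod p) ≠ 0 := by
    intro h20
    have hu := hF.isUnit_two hz1 hz2
    have h0 : (2 : Module.End (ZMod p) V) = 0 := by
      ext v
      have e : (2 : Module.End (ZMod p) V) v = (2 : ZMod p) • v := by
        rw [← one_add_one_eq_two, LinearMap.add_apply, Module.End.one_apply, two_smul]
      rw [e, h20, zero_smul]; rfl
    rw [h0] at hu
    exact not_isUnit_zero hu
  -- the linear part
  obtain ⟨q, hq1, hVq, hCq⟩ := nf_linear (nfRho H ((θ.symm sl25autI : S) : H))
    (nfRho H ((θ.symm sl25autJ : S) : H)) hI hJ hIJ h2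
    ((nfRho H).comp (Subgroup.centralizer (S : Set H)).subtype)
    (fun c => by
      have h1 := Subgroup.mem_centralizer_iff.mp c.2 _ (θ.symm sl25autI).2
      show nfRho H (c : H) * nfRho H ((θ.symm sl25autI : S) : H) =
        nfRho H ((θ.symm sl25autI : S) : H) * nfRho H (c : H)
      rw [← map_mul, ← map_mul, h1])
    (fun c => by
      have h1 := Subgroup.mem_centralizer_iff.mp c.2 _ (θ.symm sl25autJ).2
      show nfRho H (c : H) * nfRho H ((θ.symm sl25autJ : S) : H) =
        nfRho H ((θ.symm sl25autJ : S) : H) * nfRho H (c : H)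
      rw [← map_mul, ← map_mul, h1])
    (fun c hc v hv => hfix (c : H) (fun h => hc (Subtype.ext h)) v hv)
  -- the group part
  obtain ⟨ε, hε, hΓ, htop⟩ := nf_card hF θ
  obtain ⟨h2c, h4c, h3c, h5c⟩ := nf_card_centralizer hF θ
  have hq : q * q = 60 * ε * Nat.card (Subgroup.centralizer (S : Set H)) + 1 := by
    rw [← hΓ, ← hVq, hcardH]
  rcases nf_arith hε hq hCq hq1 h2c h4c h3c h5c with ⟨hq11, hc, hε1⟩ | ⟨hq29, hc, hε1⟩ |
      ⟨hq59, hc, hε1⟩ | ⟨hq119, hc, -⟩
  · left
    refine ⟨by rw [hVq, hq11], nf_iso_one hF θ (htop hε1) hc⟩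
  · right; left
    refine ⟨by rw [hVq, hq29], ?_⟩
    exact nf_iso_prime θ (m := 7) (by norm_num) (by norm_num) (by rw [hΓ, hε1])
      hc
  · right; right
    refine ⟨by rw [hVq, hq59], ?_⟩
    exact nf_iso_prime θ (m := 29) (by norm_num) (by norm_num) (by rw [hΓ, hε1])
      hc
  · exfalso
    have hpow : Nat.card V = p ^ Module.finrank (ZMod p) V := by
      rw [Module.natCard_eq_pow_finrank (K := ZMod p) (V := V), Nat.card_eq_fintype_card, ZMod.card]
    rw [hVq, hq119] at hpow
    have hp : Nat.Prime p := Fact.out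
    have h7 : 7 ∣ p ^ Module.finrank (ZMod p) V := by rw [← hpow]; norm_num
    have h17 : 17 ∣ p ^ Module.finrank (ZMod p) V := by rw [← hpow]; norm_num
    have e7 := (Nat.prime_dvd_prime_iff_eq (by norm_num) hp).mp
      (Nat.Prime.dvd_of_dvd_pow (by norm_num) h7)
    have e17 := (Nat.prime_dvd_prime_iff_eq (by norm_num) hp).mp
      (Nat.Prime.dvd_of_dvd_pow (by norm_num) h17)
    omega

end nfmain

end Cfsg.Agent.Helper66
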