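import Mathlib
import Cfsg.Prelude.Def_GeometricClasses
import Cfsg.Prelude.Def_Classical
import Cfsg.Agent.Helper58.TSDefs
import Cfsg.Agent.Helper65.TSOBDefs

set_option autoImplicit false

/-!
# Sub-CALL OB (helper65) piece HEX, core (helper66): the model isometries of the hyperbolic
coordinate space from a matrix `g` killed by `1 + X + … + X^(r-1)` and an invertible `B` with
`B g = gᵀ B`.
-/

namespace Cfsg.Agent.Helper66.OB

open Module Cfsg Cfsg.Geo Cfsg.Agent.Helper58.TS Cfsg.Agent.Helper65.TSOB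
open Matrix

section model

variable {F : Type*} [Field F]

/-- `(a, b) ↦ (A a, C b)` -/
noncomputable def hexDg {n : ℕ} (A C : Matrix (Fin n) (Fin n) F) : HSp n F →ₗ[F] HSp n F :=
  LinearMap.prod (A.mulVecLin ∘ₗ LinearMap.fst F _ _) (C.mulVecLin ∘ₗ LinearMap.snd F _ _)

/-- `(a, b) ↦ (A b, C a)` -/
noncomputable def hexSw {n : ℕ} (A C : Matrix (Fin n) (Fin n) F) : HSp n F →ₗ[F] HSp n F :=
  LinearMap.prod (A.mulVecLin ∘ₗ LinearMap.snd F _ _) (C.mulVecLin ∘ₗ LinearMap.fst F _ _)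

theorem hexDg_apply {n : ℕ} (A C : Matrix (Fin n) (Fin n) F) (u : HSp n F) :
    hexDg A C u = (A *ᵥ u.1, C *ᵥ u.2) := rfl

theorem hexSw_apply {n : ℕ} (A C : Matrix (Fin n) (Fin n) F) (u : HSp n F) :
    hexSw A C u = (A *ᵥ u.2, C *ᵥ u.1) := rfl

theorem hexDg_comp_Dg {n : ℕ} (A C A' C' : Matrix (Fin n) (Fin n) F) :
    hexDg A C ∘ₗ hexDg A' C' = hexDg (A * A') (C * C') := by
  refine LinearMap.ext fun u => ?_
  simp only [LinearMap.comp_apply, hexDg_apply, Matrix.mulVec_mulVec]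

theorem hexDg_comp_Sw {n : ℕ} (A C A' C' : Matrix (Fin n) (Fin n) F) :
    hexDg A C ∘ₗ hexSw A' C' = hexSw (A * A') (C * C') := by
  refine LinearMap.ext fun u => ?_
  simp only [LinearMap.comp_apply, hexDg_apply, hexSw_apply, Matrix.mulVec_mulVec]

theorem hexSw_comp_Dg {n : ℕ} (A C A' C' : Matrix (Fin n) (Fin n) F) :
    hexSw A C ∘ₗ hexDg A' C' = hexSw (A * C') (C * A') := by
  refine LinearMap.ext fun u => ?_
  simp only [LinearMap.comp_apply, hexDg_apply, hexSw_apply, Matrix.mulVec_mulVec]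

theorem hexSw_comp_Sw {n : ℕ} (A C A' C' : Matrix (Fin n) (Fin n) F) :
    hexSw A C ∘ₗ hexSw A' C' = hexDg (A * C') (C * A') := by
  refine LinearMap.ext fun u => ?_
  simp only [LinearMap.comp_apply, hexDg_apply, hexSw_apply, Matrix.mulVec_mulVec]

theorem hexDg_one {n : ℕ} : hexDg (1 : Matrix (Fin n) (Fin n) F) 1 = LinearMap.id := by
  refine LinearMap.ext fun u => ?_
  rw [hexDg_apply, Matrix.one_mulVec, Matrix.one_mulVec]
  rfl

theorem hexDg_pow {n : ℕ} (A C : Matrix (Fin n) (Fin n) F) (k : ℕ) :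
    (hexDg A C) ^ k = hexDg (A ^ k) (C ^ k) := by
  induction k with
  | zero => rw [pow_zero, pow_zero, pow_zero, hexDg_one]; rfl
  | succ k ih =>
    rw [pow_succ, ih, pow_succ, pow_succ, ← hexDg_comp_Dg]
    rfl

theorem hq_hexDg {n : ℕ} (A C : Matrix (Fin n) (Fin n) F) (h : Aᵀ * C = 1) (u : HSp n F) :
    hq (hexDg A C u) = hq u := by
  rw [hexDg_apply]
  show (A *ᵥ u.1) ⬝ᵥ (C *ᵥ u.2) = u.1 ⬝ᵥ u.2
  rw [← Matrix.vecMul_transpose, ← Matrix.dotProduct_mulVec, Matrix.mulVec_mulVec, h,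
    Matrix.one_mulVec]

theorem hq_hexSw {n : ℕ} (A C : Matrix (Fin n) (Fin n) F) (h : Aᵀ * C = 1) (u : HSp n F) :
    hq (hexSw A C u) = hq u := by
  rw [hexSw_apply]
  show (A *ᵥ u.2) ⬝ᵥ (C *ᵥ u.1) = u.1 ⬝ᵥ u.2
  rw [← Matrix.vecMul_transpose, ← Matrix.dotProduct_mulVec, Matrix.mulVec_mulVec, h,
    Matrix.one_mulVec, dotProduct_comm]

/-- a matrix killed by `1 + X + … + X^(r-1)` has no fixed vector when `r ≠ 0` in `F` -/
theorem hex_nofix {n : ℕ} (r : ℕ) (hrF : (r : F) ≠ 0) (A : Matrix (Fin n) (Fin n) F)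
    (hsum : ∑ j ∈ Finset.range r, A ^ j = 0) (v : Fin n → F) (hv : A *ᵥ v = v) : v = 0 := by
  have hpow : ∀ j : ℕ, (A ^ j) *ᵥ v = v := by
    intro j
    induction j with
    | zero => rw [pow_zero, Matrix.one_mulVec]
    | succ j ih => rw [pow_succ, ← Matrix.mulVec_mulVec, hv, ih]
  have h1 : (∑ j ∈ Finset.range r, A ^ j) *ᵥ v = (r : F) • v := by
    rw [Matrix.sum_mulVec, Finset.sum_congr rfl (fun j _ => hpow j), Finset.sum_const,
      Finset.card_range, Nat.cast_smul_eq_nsmul]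
  rw [hsum, Matrix.zero_mulVec] at h1
  exact (smul_eq_zero.mp h1.symm).resolve_left hrF

/-- HEX core: the model maps for given `g`, `B`. -/
theorem ob_hex_core (r : ℕ) (hodd : Odd r) (hrF : (r : F) ≠ 0) (n : ℕ)
    (hgb : ∃ g B : Matrix (Fin n) (Fin n) F, IsUnit B ∧ B * g = g.transpose * B ∧
      ∑ j ∈ Finset.range r, g ^ j = 0) :
    ∃ X Y S Y' S' : HSp n F →ₗ[F] HSp n F,
      (∀ u, hq (Y u) = hq u) ∧ (∀ u, hq (S u) = hq u) ∧
      (∀ u, hq (Y' u) = hq u) ∧ (∀ u, hq (S' u) = hq u) ∧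
      Y ∘ₗ Y' = LinearMap.id ∧ Y' ∘ₗ Y = LinearMap.id ∧
      S ∘ₗ S' = LinearMap.id ∧ S' ∘ₗ S = LinearMap.id ∧
      X = Y ∘ₗ S ∘ₗ Y' ∘ₗ S' ∧ X ^ r = 1 ∧ ∀ u, X u = u → u = 0 := by
  obtain ⟨g, B, hB, hBg, hsum⟩ := hgb
  obtain ⟨m, hm⟩ := hodd
  have hr1 : r - 1 + 1 = r := by omega
  have hgr : g ^ r = 1 := by
    have h := mul_geom_sum g r
    rw [hsum, mul_zero] at h
    exact (sub_eq_zero.mp h.symm)
  set g' : Matrix (Fin n) (Fin n) F := g ^ (r - 1) with hg'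
  have hgg' : g * g' = 1 := by rw [hg', ← pow_succ', hr1, hgr]
  have hg'g : g' * g = 1 := by rw [hg', ← pow_succ, hr1, hgr]
  have hcomm : Commute g g' := by rw [hg']; exact Commute.pow_right (Commute.refl g) _
  have hg'r : g' ^ r = 1 := by rw [hg', ← pow_mul, mul_comm, pow_mul, hgr, one_pow]
  obtain ⟨Bu, rfl⟩ := hB
  set Binv : Matrix (Fin n) (Fin n) F := ((Bu⁻¹ : (Matrix (Fin n) (Fin n) F)ˣ) :
    Matrix (Fin n) (Fin n) F) with hBinv
  have hBB : (Bu : Matrix (Fin n) (Fin n) F) * Binv = 1 := Bu.mul_inv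
  have hBB' : Binv * (Bu : Matrix (Fin n) (Fin n) F) = 1 := Bu.inv_mul
  set B : Matrix (Fin n) (Fin n) F := (Bu : Matrix (Fin n) (Fin n) F) with hBdef
  -- exponent
  set k : ℕ := m + 1 with hk
  have h2k : k + k = r + 1 := by omega
  have hgk : g ^ k * g' ^ k = 1 := by rw [← hcomm.mul_pow, hgg', one_pow]
  have hgk' : g' ^ k * g ^ k = 1 := by rw [← hcomm.symm.mul_pow, hg'g, one_pow]
  -- semiconjugation
  have hsemi : ∀ j : ℕ, B * g ^ j = (g ^ j)ᵀ * B := by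
    intro j
    induction j with
    | zero => rw [pow_zero, mul_one, Matrix.transpose_one, one_mul]
    | succ j ih =>
      have e : (g ^ (j + 1))ᵀ = (g ^ j)ᵀ * gᵀ := by rw [pow_succ', Matrix.transpose_mul]
      rw [e, pow_succ, ← mul_assoc B, ih, mul_assoc (g ^ j)ᵀ B g, hBg, ← mul_assoc]
  have hsemi' : ∀ j : ℕ, B * g' ^ j = (g' ^ j)ᵀ * B := by
    intro j
    rw [hg', ← pow_mul]
    exact hsemi _
  have hsemiT : ∀ j : ℕ, (g ^ j)ᵀ * Bᵀ = Bᵀ * g ^ j := by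
    intro j
    have h := congrArg Matrix.transpose (hsemi j)
    rw [Matrix.transpose_mul, Matrix.transpose_mul, Matrix.transpose_transpose] at h
    exact h
  refine ⟨hexDg g g'ᵀ, hexDg (g ^ k) (g' ^ k)ᵀ, hexSw Binvᵀ B, hexDg (g' ^ k) (g ^ k)ᵀ,
    hexSw Binv Bᵀ, ?_, ?_, ?_, ?_, ?_, ?_, ?_, ?_, ?_, ?_, ?_⟩
  · exact hq_hexDg _ _ (by rw [← Matrix.transpose_mul, hgk', Matrix.transpose_one])
  · exact hq_hexSw _ _ (by rw [Matrix.transpose_transpose, hBB'])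
  · exact hq_hexDg _ _ (by rw [← Matrix.transpose_mul, hgk, Matrix.transpose_one])
  · exact hq_hexSw _ _ (by rw [← Matrix.transpose_mul, hBB, Matrix.transpose_one])
  · rw [hexDg_comp_Dg, hgk, ← Matrix.transpose_mul, hgk, Matrix.transpose_one, hexDg_one]
  · rw [hexDg_comp_Dg, hgk', ← Matrix.transpose_mul, hgk', Matrix.transpose_one, hexDg_one]
  · rw [hexSw_comp_Sw, ← Matrix.transpose_mul, hBB, Matrix.transpose_one, hexDg_one]
  · rw [hexSw_comp_Sw, hBB', ← Matrix.transpose_mul, hBB', Matrix.transpose_one, hexDg_one]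
  · rw [hexDg_comp_Sw, hexSw_comp_Sw, hexDg_comp_Dg]
    have e1 : g ^ k * (Binvᵀ * ((g ^ k)ᵀ * Bᵀ)) = g := by
      rw [hsemiT, ← mul_assoc Binvᵀ, ← Matrix.transpose_mul, hBB, Matrix.transpose_one, one_mul,
        ← pow_add, h2k, pow_succ, hgr, one_mul]
    have e2 : (g' ^ k)ᵀ * (B * (g' ^ k * Binv)) = g'ᵀ := by
      rw [← mul_assoc B, hsemi', mul_assoc, hBB, mul_one, ← Matrix.transpose_mul, ← pow_add, h2k,
        pow_succ, hg'r, one_mul]
    rw [e1, e2]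
  · rw [hexDg_pow, hgr, ← Matrix.transpose_pow, hg'r, Matrix.transpose_one, hexDg_one]
    rfl
  · intro u hu
    rw [hexDg_apply] at hu
    have h1 : g *ᵥ u.1 = u.1 := congrArg Prod.fst hu
    have h2 : g'ᵀ *ᵥ u.2 = u.2 := congrArg Prod.snd hu
    have h3 : gᵀ *ᵥ u.2 = u.2 := by
      conv_lhs => rw [← h2, Matrix.mulVec_mulVec, ← Matrix.transpose_mul, hg'g,
        Matrix.transpose_one, Matrix.one_mulVec]
    have hsumT : ∑ j ∈ Finset.range r, gᵀ ^ j = 0 := by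
      have h := congrArg Matrix.transpose hsum
      rw [Matrix.transpose_sum, Matrix.transpose_zero] at h
      rw [← h]
      exact Finset.sum_congr rfl (fun j _ => (Matrix.transpose_pow g j).symm)
    exact Prod.ext (hex_nofix r hrF g hsum u.1 h1) (hex_nofix r hrF gᵀ hsumT u.2 h3)

end model

end Cfsg.Agent.Helper66.OB
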