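import Mathlib
import Cfsg.Prelude.Def_GeometricClasses
import Cfsg.Prelude.Def_Classical
import Cfsg.Agent.Helper58.TSDefs
import Cfsg.Agent.Helper65.TSOBDefs
import Cfsg.Agent.Helper98.OPar
import Cfsg.Agent.Helper82.OBGB
import Cfsg.Agent.Helper66.OBHEXcore

set_option autoImplicit false

/-!
# Sub-CALL OB (helper65) piece HEX (helper66, double): `ob_hex` verbatim, from the core
`Cfsg.Agent.Helper66.OB.ob_hex_core` and GB (`Cfsg.Agent.Helper82.OB.ob_gb`).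
-/

namespace Cfsg.Agent.Helper66.OB

open Module Cfsg Cfsg.Geo Cfsg.Agent.Helper58.TS Cfsg.Agent.Helper65.TSOB

section model

variable {F : Type*} [Field F] [Fintype F]

/-- HEX: the model isometries of the hyperbolic coordinate space. -/
theorem ob_hex (r : ℕ) [Fact r.Prime] (hr2 : 2 < r) (hrF : (r : F) ≠ 0) (i a : ℕ)
    (hi : i = orderOf ((Fintype.card F : ℕ) : ZMod r)) :
    ∃ X Y S Y' S' : HSp (i * a) F →ₗ[F] HSp (i * a) F,
      (∀ u, hq (Y u) = hq u) ∧ (∀ u, hq (S u) = hq u) ∧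
      (∀ u, hq (Y' u) = hq u) ∧ (∀ u, hq (S' u) = hq u) ∧
      Y ∘ₗ Y' = LinearMap.id ∧ Y' ∘ₗ Y = LinearMap.id ∧
      S ∘ₗ S' = LinearMap.id ∧ S' ∘ₗ S = LinearMap.id ∧
      X = Y ∘ₗ S ∘ₗ Y' ∘ₗ S' ∧ X ^ r = 1 ∧ ∀ u, X u = u → u = 0 :=
  ob_hex_core r ((Fact.out : r.Prime).odd_of_ne_two (by omega)) hrF (i * a)
    (Cfsg.Agent.Helper82.OB.ob_gb r hrF i a hi)

end model

end Cfsg.Agent.Helper66.OB
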