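import Mathlib
import Cfsg.Agent.Helper95.OTSDefs

/-!
# CALL S5972 (helper95), piece PAIR (helper66)

`sym_pair`, statement verbatim from `tools/calls/OTSSkel.lean.txt`: `-1` a square, an orthogonal list
of even length `2k` whose `Qf`-values have a square product: its span contains a totally isotropic
`k`-space.  Auxiliary lemmas are prefixed `pair_`.
-/

set_option autoImplicit false

namespace Cfsg.Agent.Helper66.OTS

open Module Polynomial
open Cfsg.Agent.Helper13.TIsp Cfsg.Agent.Helper42.SpGroup Cfsg.Agent.Helper42.SpModels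
open Cfsg.Agent.Helper95.OTS

variable {F : Type*} [Field F] {V : Type*} [AddCommGroup V] [Module F V] [FiniteDimensional F V]
  (B : LinearMap.BilinForm F V)

/-- among three nonzero elements of a finite field, two have a square product -/
theorem pair_three_sq [Fintype F] (a b c : F) (ha : a ≠ 0) (hb : b ≠ 0) (hc : c ≠ 0) :
    IsSquare (a * b) ∨ IsSquare (a * c) ∨ IsSquare (b * c) := by
  classical
  have key : ∀ x y : F, x ≠ 0 → y ≠ 0 → quadraticChar F x = quadraticChar F y →
      IsSquare (x * y) := by
    intro x y hx hy hxy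
    rw [← quadraticChar_one_iff_isSquare (mul_ne_zero hx hy), map_mul, hxy]
    rcases quadraticChar_dichotomy hy with h | h <;> rw [h] <;> norm_num
  rcases quadraticChar_dichotomy ha with h1 | h1 <;>
  rcases quadraticChar_dichotomy hb with h2 | h2 <;>
  rcases quadraticChar_dichotomy hc with h3 | h3
  · exact Or.inl (key a b ha hb (h1.trans h2.symm))
  · exact Or.inl (key a b ha hb (h1.trans h2.symm))
  · exact Or.inr (Or.inl (key a c ha hc (h1.trans h3.symm)))
  · exact Or.inr (Or.inr (key b c hb hc (h2.trans h3.symm)))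
  · exact Or.inr (Or.inr (key b c hb hc (h2.trans h3.symm)))
  · exact Or.inr (Or.inl (key a c ha hc (h1.trans h3.symm)))
  · exact Or.inl (key a b ha hb (h1.trans h2.symm))
  · exact Or.inl (key a b ha hb (h1.trans h2.symm))

/-- a list of length `≥ 2` of nonzero field elements with square product can be permuted so that the
first two have a square product -/
theorem pair_perm [Fintype F] (Qf : V → F) (vs : List V) (hne : ∀ v ∈ vs, Qf v ≠ 0)
    (hsq : IsSquare (vs.map Qf).prod) (hlen : 2 ≤ vs.length) :
    ∃ (v v' : V) (rest : List V), vs.Perm (v :: v' :: rest) ∧ IsSquare (Qf v * Qf v') := by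
  match vs, hne, hsq, hlen with
  | [], _, _, hlen => simp at hlen
  | [_], _, _, hlen => simp at hlen
  | [a, b], _, hsq, _ =>
    refine ⟨a, b, [], List.Perm.refl _, ?_⟩
    simpa using hsq
  | a :: b :: c :: tl, hne, _, _ =>
    have ha : Qf a ≠ 0 := hne a (by simp)
    have hb : Qf b ≠ 0 := hne b (by simp)
    have hc : Qf c ≠ 0 := hne c (by simp)
    rcases pair_three_sq (Qf a) (Qf b) (Qf c) ha hb hc with h | h | h
    · exact ⟨a, b, c :: tl, List.Perm.refl _, h⟩
    · refine ⟨a, c, b :: tl, ?_, h⟩
      exact List.Perm.cons a (List.Perm.swap c b tl)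
    · refine ⟨b, c, a :: tl, ?_, h⟩
      exact (List.Perm.swap b a (c :: tl)).trans (List.Perm.cons b (List.Perm.swap c a tl))

/-- induction form of `sym_pair` -/
theorem pair_aux [Fintype F] (hsym : ∀ u v, B u v = B v u) (h2 : (2 : F) ≠ 0)
    (hm1 : IsSquare (-1 : F)) (Qf : V → F) (hQf : ∀ v, B v v = 2 * Qf v) :
    ∀ (k : ℕ) (vs : List V), vs.Pairwise (fun u v => B u v = 0) → (∀ v ∈ vs, Qf v ≠ 0) →
      IsSquare (vs.map Qf).prod → vs.length = 2 * k →
      ∃ A : Submodule F V, A ≤ Submodule.span F {v | v ∈ vs} ∧ TI B A ∧ finrank F A = k := by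
  obtain ⟨ι, hι⟩ := hm1
  intro k
  induction k with
  | zero =>
    intro vs _ _ _ _
    refine ⟨⊥, bot_le, ?_, by simp⟩
    intro u hu v _
    rw [(Submodule.mem_bot F).1 hu, map_zero, LinearMap.zero_apply]
  | succ k ih =>
    intro vs hort hne hsq hlen
    obtain ⟨v, v', rest, hperm, hvv⟩ := pair_perm Qf vs hne hsq (by omega)
    have hort' : (v :: v' :: rest).Pairwise (fun u v => B u v = 0) :=
      (hperm.pairwise_iff (fun {x y} (h : B x y = 0) => show B y x = 0 by rw [hsym]; exact h)).1
        hort
    have hmem : ∀ x, x ∈ vs ↔ x ∈ v :: v' :: rest := fun x => hperm.mem_iff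
    have hspan : Submodule.span F {x | x ∈ vs} = Submodule.span F {x | x ∈ v :: v' :: rest} := by
      congr 1
      ext x
      exact hmem x
    have hv0 : Qf v ≠ 0 := hne v ((hmem v).2 (by simp))
    have hv'0 : Qf v' ≠ 0 := hne v' ((hmem v').2 (by simp))
    obtain ⟨s, hs⟩ := hvv
    have hs0 : s ≠ 0 := by
      rintro rfl
      rw [mul_zero] at hs
      exact mul_ne_zero hv0 hv'0 hs
    have hprod : (vs.map Qf).prod = Qf v * Qf v' * (rest.map Qf).prod := by
      rw [(hperm.map Qf).prod_eq]
      simp [mul_assoc]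
    have hsq' : IsSquare (rest.map Qf).prod := by
      obtain ⟨t, ht⟩ := hsq
      refine ⟨t / s, ?_⟩
      rw [hprod, hs] at ht
      field_simp
      linear_combination ht
    have hort2 := List.pairwise_cons.1 hort'
    have hort3 := List.pairwise_cons.1 hort2.2
    have hlen' : rest.length = 2 * k := by
      have := hperm.length_eq
      simp at this
      omega
    obtain ⟨A', hA'le, hA'TI, hA'k⟩ := ih rest hort3.2
      (fun x hx => hne x ((hmem x).2 (by simp [hx]))) hsq' hlen'
    -- orthogonality of `v`, `v'` to the span of `rest`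
    have hvrest : ∀ a ∈ Submodule.span F {x | x ∈ rest}, B v a = 0 := by
      intro a ha
      have hle : Submodule.span F {x | x ∈ rest} ≤ LinearMap.ker (B v) := by
        rw [Submodule.span_le]
        intro x hx
        exact hort2.1 x (by simp [show x ∈ rest from hx])
      exact hle ha
    have hv'rest : ∀ a ∈ Submodule.span F {x | x ∈ rest}, B v' a = 0 := by
      intro a ha
      have hle : Submodule.span F {x | x ∈ rest} ≤ LinearMap.ker (B v') := by
        rw [Submodule.span_le]
        intro x hx
        exact hort3.1 x hx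
      exact hle ha
    have hvv' : B v v' = 0 := hort2.1 v' (by simp)
    have hv'v : B v' v = 0 := by rw [hsym]; exact hvv'
    obtain ⟨c, hc⟩ : ∃ c : F, c * c * Qf v = - Qf v' := by
      refine ⟨ι * s / Qf v, ?_⟩
      have h1 : ι * s / Qf v * (ι * s / Qf v) * Qf v = (ι * ι) * (s * s) / Qf v := by
        field_simp
      rw [h1, ← hι, ← hs]
      field_simp
    obtain ⟨w, hw⟩ : ∃ w : V, w = c • v + v' := ⟨_, rfl⟩
    have hww : B w w = 0 := by
      rw [hw]
      simp only [map_add, map_smul, LinearMap.add_apply, LinearMap.smul_apply, smul_eq_mul,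
        hvv', hv'v, hQf]
      linear_combination 2 * hc
    have hwrest : ∀ a ∈ Submodule.span F {x | x ∈ rest}, B w a = 0 := by
      intro a ha
      rw [hw]
      simp only [map_add, map_smul, LinearMap.add_apply, LinearMap.smul_apply, smul_eq_mul,
        hvrest a ha, hv'rest a ha]
      ring
    have hv'w : B v' w = 2 * Qf v' := by
      rw [hw]
      simp only [map_add, map_smul, smul_eq_mul, hv'v, hQf]
      ring
    have hwA' : w ∉ A' := by
      intro hwA
      have h1 : B v' w = 0 := hv'rest w (hA'le hwA)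
      rw [hv'w] at h1
      exact mul_ne_zero h2 hv'0 h1
    have hw0 : w ≠ 0 := by
      rintro h0
      exact hwA' (h0 ▸ A'.zero_mem)
    refine ⟨A' ⊔ Submodule.span F {w}, ?_, ?_, ?_⟩
    · rw [hspan]
      apply sup_le
      · refine hA'le.trans (Submodule.span_mono ?_)
        intro x hx
        simp [show x ∈ rest from hx]
      · rw [Submodule.span_singleton_le_iff_mem, hw]
        exact Submodule.add_mem _
          (Submodule.smul_mem _ _ (Submodule.subset_span (by simp)))
          (Submodule.subset_span (by simp))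
    · intro x hx y hy
      obtain ⟨a₁, ha₁, b₁, hb₁, rfl⟩ := Submodule.mem_sup.1 hx
      obtain ⟨a₂, ha₂, b₂, hb₂, rfl⟩ := Submodule.mem_sup.1 hy
      obtain ⟨t₁, rfl⟩ := Submodule.mem_span_singleton.1 hb₁
      obtain ⟨t₂, rfl⟩ := Submodule.mem_span_singleton.1 hb₂
      have e1 : B a₁ a₂ = 0 := hA'TI a₁ ha₁ a₂ ha₂
      have e2 : B w a₂ = 0 := hwrest a₂ (hA'le ha₂)
      have e3 : B a₁ w = 0 := by rw [hsym]; exact hwrest a₁ (hA'le ha₁)
      simp only [map_add, map_smul, LinearMap.add_apply, LinearMap.smul_apply, smul_eq_mul,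
        e1, e2, e3, hww]
      ring
    · have hdisj : Disjoint A' (Submodule.span F {w}) :=
        (Submodule.disjoint_span_singleton' hw0).2 hwA'
      have h3 := Submodule.finrank_sup_add_finrank_inf_eq A' (Submodule.span F {w})
      rw [hdisj.eq_bot, finrank_bot, add_zero, hA'k, finrank_span_singleton hw0] at h3
      exact h3

/-- PIECE PAIR: `-1` a square, an orthogonal list of even length `2k` whose `Qf`-values have a
square product: its span contains a totally isotropic `k`-space. -/
theorem sym_pair [Fintype F] (hsym : ∀ u v, B u v = B v u) (h2 : (2 : F) ≠ 0)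
    (hm1 : IsSquare (-1 : F)) (Qf : V → F) (hQf : ∀ v, B v v = 2 * Qf v)
    (vs : List V) (hort : vs.Pairwise (fun u v => B u v = 0)) (hne : ∀ v ∈ vs, Qf v ≠ 0)
    (hsq : IsSquare (vs.map Qf).prod) (k : ℕ) (hlen : vs.length = 2 * k) :
    ∃ A : Submodule F V, A ≤ Submodule.span F {v | v ∈ vs} ∧ TI B A ∧ finrank F A = k :=
  pair_aux B hsym h2 hm1 Qf hQf k vs hort hne hsq hlen

end Cfsg.Agent.Helper66.OTS
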