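import Mathlib

/-!
# Piece X of CALL S2359 (helper66): a group with a self-centralizing-type four-group as Sylow
2-subgroup in which the centralizers of the three involutions are abelian, and of order prime
to 3, is the centralizer of each of these involutions (Burnside transfer + coprime action).
-/

set_option autoImplicit false

namespace Cfsg.Agent.Helper66

/-- In a subgroup of odd order, squaring is injective. -/
theorem ree_sq_inj {C : Type*} [Group C] [Finite C] (K : Subgroup C) (hodd : Odd (Nat.card K))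
    {x y : C} (hx : x ∈ K) (hy : y ∈ K) (h : x * x = y * y) : x = y := by
  have hcop : (Nat.card K).Coprime 2 := Nat.coprime_two_right.mpr hodd
  have h1 := (powCoprime hcop).injective
  have h2 : (powCoprime hcop) ⟨x, hx⟩ = (powCoprime hcop) ⟨y, hy⟩ := by
    apply Subtype.ext
    show x ^ 2 = y ^ 2
    rw [pow_two, pow_two]
    exact h
  exact congrArg Subtype.val (h1 h2)

/-- Fitting-type factorisation for an involution acting on a normal subgroup of odd order. -/
theorem ree_factor {C : Type*} [Group C] [Finite C] (K : Subgroup C) [hKn : K.Normal]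
    (hodd : Odd (Nat.card K)) (z : C) (hz : z * z = 1) (x : C) (hx : x ∈ K) :
    ∃ c i : C, c ∈ K ∧ i ∈ K ∧ z * c * z⁻¹ = c ∧ z * i * z⁻¹ = i⁻¹ ∧ x = c * i := by
  obtain ⟨m, hm⟩ := hodd
  have hzinv : z⁻¹ = z := inv_eq_of_mul_eq_one_left hz
  obtain ⟨s, hs⟩ : ∃ s, s = x⁻¹ * (z * x * z⁻¹) := ⟨_, rfl⟩
  have hsK : s ∈ K := by
    rw [hs]; exact K.mul_mem (K.inv_mem hx) (hKn.conj_mem x hx z)
  have hsinv : z * s * z⁻¹ = s⁻¹ := by
    rw [hs, hzinv]
    have e1 : z * (x⁻¹ * (z * x * z)) * z = z * x⁻¹ * z * x * (z * z) := by group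
    have e2 : (x⁻¹ * (z * x * z))⁻¹ = z⁻¹ * x⁻¹ * z⁻¹ * x := by group
    rw [e1, e2, hz, hzinv, mul_one]
  have hsn : s ^ (2 * m + 1) = 1 := by
    have h1 : (⟨s, hsK⟩ : K) ^ Nat.card K = 1 := pow_card_eq_one'
    rw [hm] at h1
    exact congrArg Subtype.val h1
  obtain ⟨r, hr⟩ : ∃ r, r = s ^ (m + 1) := ⟨_, rfl⟩
  have hrK : r ∈ K := by rw [hr]; exact K.pow_mem hsK _
  have hrr : r * r = s := by
    rw [hr, ← pow_add]
    have : m + 1 + (m + 1) = (2 * m + 1) + 1 := by ring
    rw [this, pow_succ, hsn, one_mul]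
  have hrinv : z * r * z⁻¹ = r⁻¹ := by
    rw [hr, ← conj_pow, hsinv, inv_pow]
  refine ⟨x * r, r⁻¹, K.mul_mem hx hrK, K.inv_mem hrK, ?_, ?_, by group⟩
  · have e1 : z * (x * r) * z⁻¹ = (z * x * z⁻¹) * (z * r * z⁻¹) := by group
    have e2 : z * x * z⁻¹ = x * s := by rw [hs]; group
    rw [e1, e2, hrinv, ← hrr]; group
  · have e1 : z * r⁻¹ * z⁻¹ = (z * r * z⁻¹)⁻¹ := by group
    rw [e1, hrinv]

/-- Uniqueness of the factorisation. -/
theorem ree_factor_unique {C : Type*} [Group C] [Finite C] (K : Subgroup C)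
    (hodd : Odd (Nat.card K)) (z : C) {c i c' i' : C} (hi : i ∈ K) (hi' : i' ∈ K)
    (hc : z * c * z⁻¹ = c) (hc' : z * c' * z⁻¹ = c') (hii : z * i * z⁻¹ = i⁻¹)
    (hii' : z * i' * z⁻¹ = i'⁻¹) (h : c * i = c' * i') : c = c' ∧ i = i' := by
  have h1 : c * i⁻¹ = c' * i'⁻¹ := by
    have e : z * (c * i) * z⁻¹ = z * (c' * i') * z⁻¹ := by rw [h]
    have e1 : z * (c * i) * z⁻¹ = (z * c * z⁻¹) * (z * i * z⁻¹) := by group
    have e2 : z * (c' * i') * z⁻¹ = (z * c' * z⁻¹) * (z * i' * z⁻¹) := by group
    rw [e1, e2, hc, hc', hii, hii'] at e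
    exact e
  have e3 : c = c' * i' * i⁻¹ := by rw [← h]; group
  rw [e3] at h1
  have e4 : i' * i⁻¹ * i⁻¹ = i'⁻¹ := by
    calc i' * i⁻¹ * i⁻¹ = c'⁻¹ * (c' * i' * i⁻¹ * i⁻¹) := by group
      _ = c'⁻¹ * (c' * i'⁻¹) := by rw [h1]
      _ = i'⁻¹ := by group
  have e5 : (i * i)⁻¹ = (i' * i')⁻¹ := by
    calc (i * i)⁻¹ = i'⁻¹ * (i' * i⁻¹ * i⁻¹) := by group
      _ = i'⁻¹ * i'⁻¹ := by rw [e4]
      _ = (i' * i')⁻¹ := by group
  have h2 : i = i' := ree_sq_inj K hodd hi hi' (inv_injective e5)
  refine ⟨?_, h2⟩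
  rw [h2] at h
  exact mul_right_cancel h

theorem eq_centralizer_of_four_sylow {C : Type*} [Group C] [Finite C]
    (h3 : ¬ 3 ∣ Nat.card C) (h8 : ¬ 8 ∣ Nat.card C)
    (a b : C) (ha : a ≠ 1) (hb : b ≠ 1) (hab : a ≠ b) (ha2 : a * a = 1) (hb2 : b * b = 1)
    (hcomm : a * b = b * a)
    (hA : ∀ x y : C, x * a = a * x → y * a = a * y → x * y = y * x)
    (hB : ∀ x y : C, x * b = b * x → y * b = b * y → x * y = y * x)
    (hAB : ∀ x y : C, x * (a * b) = (a * b) * x → y * (a * b) = (a * b) * y → x * y = y * x) :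
    ∀ x : C, x * a = a * x := by
  classical
  have hainv : a⁻¹ = a := inv_eq_of_mul_eq_one_left ha2
  have hbinv : b⁻¹ = b := inv_eq_of_mul_eq_one_left hb2
  -- (0) the three centralizers coincide
  have hab_of_a : ∀ x : C, x * a = a * x → x * b = b * x := fun x hx => hA x b hx hcomm.symm
  have ha_of_b : ∀ x : C, x * b = b * x → x * a = a * x := fun x hx => hB x a hx hcomm
  have hab2 : (a * b) * (a * b) = 1 := by
    calc (a * b) * (a * b) = a * (b * a) * b := by group
      _ = a * (a * b) * b := by rw [hcomm]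
      _ = (a * a) * (b * b) := by group
      _ = 1 := by rw [ha2, hb2, one_mul]
  have ha_of_ab : ∀ x : C, x * (a * b) = (a * b) * x → x * a = a * x := fun x hx =>
    hAB x a hx (by
      calc a * (a * b) = a * (b * a) := by rw [hcomm]
        _ = a * b * a := by group)
  have hab_of_a' : ∀ x : C, x * a = a * x → x * (a * b) = (a * b) * x := fun x hx => by
    have h1 := hab_of_a x hx
    calc x * (a * b) = (x * a) * b := by group
      _ = (a * x) * b := by rw [hx]
      _ = a * (x * b) := by group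
      _ = a * (b * x) := by rw [h1]
      _ = a * b * x := by group
  -- (1) the four-group
  have hne_ab1 : a * b ≠ 1 := by
    intro h
    apply hab
    calc a = a * b * b⁻¹ := by group
      _ = b⁻¹ := by rw [h, one_mul]
      _ = b := hbinv
  have hne_a_ab : a ≠ a * b := by
    intro h
    apply hb
    calc b = a⁻¹ * (a * b) := by group
      _ = a⁻¹ * a := by rw [← h]
      _ = 1 := by group
  have hne_b_ab : b ≠ a * b := by
    intro h
    apply ha
    calc a = (a * b) * b⁻¹ := by group
      _ = b * b⁻¹ := by rw [← h]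
      _ = 1 := by group
  have e_a_ab : a * (a * b) = b := by rw [← mul_assoc, ha2, one_mul]
  have e_b_a : b * a = a * b := hcomm.symm
  have e_b_ab : b * (a * b) = a := by rw [hcomm, ← mul_assoc, hb2, one_mul]
  have e_ab_a : a * b * a = b := by rw [mul_assoc, ← hcomm, ← mul_assoc, ha2, one_mul]
  have e_ab_b : a * b * b = a := by rw [mul_assoc, hb2, mul_one]
  obtain ⟨P, hP⟩ : ∃ P : Subgroup C, ∀ x, x ∈ P ↔ (x = 1 ∨ x = a ∨ x = b ∨ x = a * b) := by
    refine ⟨{ carrier := {x | x = 1 ∨ x = a ∨ x = b ∨ x = a * b}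
              one_mem' := Or.inl rfl
              mul_mem' := ?_
              inv_mem' := ?_ }, fun x => Iff.rfl⟩
    · intro x y hx hy
      show x * y = 1 ∨ x * y = a ∨ x * y = b ∨ x * y = a * b
      rcases hx with hx | hx | hx | hx <;> rcases hy with hy | hy | hy | hy <;> rw [hx, hy]
      · left; rw [one_mul]
      · right; left; rw [one_mul]
      · right; right; left; rw [one_mul]
      · right; right; right; rw [one_mul]
      · right; left; rw [mul_one]
      · left; exact ha2
      · right; right; right; rfl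
      · right; right; left; exact e_a_ab
      · right; right; left; rw [mul_one]
      · right; right; right; exact e_b_a
      · left; exact hb2
      · right; left; exact e_b_ab
      · right; right; right; rw [mul_one]
      · right; right; left; exact e_ab_a
      · right; left; exact e_ab_b
      · left; exact hab2
    · intro x hx
      show x⁻¹ = 1 ∨ x⁻¹ = a ∨ x⁻¹ = b ∨ x⁻¹ = a * b
      rcases hx with hx | hx | hx | hx <;> rw [hx]
      · left; exact inv_one
      · right; left; exact hainv
      · right; right; left; exact hbinv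
      · right; right; right; exact inv_eq_of_mul_eq_one_left hab2
  have hPcard : Nat.card P = 4 := by
    have h1 : (P : Set C) = {1, a, b, a * b} := by
      ext x
      rw [SetLike.mem_coe, hP]
      simp only [Set.mem_insert_iff, Set.mem_singleton_iff]
    have h2 : Nat.card P = (P : Set C).ncard := Nat.card_coe_set_eq _
    have n1 : b ∉ ({a * b} : Set C) := fun h => hne_b_ab h
    have n2 : a ∉ ({b, a * b} : Set C) := by
      rintro (h | h)
      · exact hab h
      · exact hne_a_ab h
    have n3 : (1 : C) ∉ ({a, b, a * b} : Set C) := by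
      rintro (h | h | h)
      · exact ha h.symm
      · exact hb h.symm
      · exact hne_ab1 h.symm
    rw [h2, h1, Set.ncard_insert_of_notMem n3, Set.ncard_insert_of_notMem n2,
      Set.ncard_insert_of_notMem n1, Set.ncard_singleton]
  have hfact : (Nat.card C).factorization 2 = 2 := by
    have hpos : Nat.card C ≠ 0 := Nat.card_pos.ne'
    have h4 : 2 ^ 2 ∣ Nat.card C := by
      have := Subgroup.card_subgroup_dvd_card P
      rw [hPcard] at this
      exact this
    have hle : 2 ≤ (Nat.card C).factorization 2 :=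
      (Nat.Prime.pow_dvd_iff_le_factorization Nat.prime_two hpos).mp h4
    have hlt : ¬ 3 ≤ (Nat.card C).factorization 2 := by
      intro h
      have := (Nat.Prime.pow_dvd_iff_le_factorization Nat.prime_two hpos).mpr h
      norm_num at this
      exact h8 this
    omega
  haveI : Fact (Nat.Prime 2) := ⟨Nat.prime_two⟩
  obtain ⟨S, hS⟩ : ∃ S : Sylow 2 C, (S : Subgroup C) = P :=
    ⟨Sylow.ofCard P (by rw [hPcard, hfact]; norm_num), rfl⟩
  have hmemS : ∀ x, x ∈ (S : Subgroup C) ↔ (x = 1 ∨ x = a ∨ x = b ∨ x = a * b) := by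
    intro x; rw [hS]; exact hP x
  -- (2) the normalizer centralizes
  have hNC : Subgroup.normalizer ((S : Subgroup C) : Set C) ≤
      Subgroup.centralizer ((S : Subgroup C) : Set C) := by
    intro c hc
    rw [Subgroup.mem_normalizer_iff] at hc
    have hca : c * a = a * c := by
      have h1 : c * a * c⁻¹ = 1 ∨ c * a * c⁻¹ = a ∨ c * a * c⁻¹ = b ∨ c * a * c⁻¹ = a * b :=
        (hmemS _).mp ((hc a).mp ((hmemS a).mpr (Or.inr (Or.inl rfl))))
      have h2 : c * b * c⁻¹ = 1 ∨ c * b * c⁻¹ = a ∨ c * b * c⁻¹ = b ∨ c * b * c⁻¹ = a * b :=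
        (hmemS _).mp ((hc b).mp ((hmemS b).mpr (Or.inr (Or.inr (Or.inl rfl)))))
      have hconj_ab : c * (a * b) * c⁻¹ = (c * a * c⁻¹) * (c * b * c⁻¹) := by group
      have hcube : ∀ x : C, c ^ 3 * x * (c ^ 3)⁻¹ = c * (c * (c * x * c⁻¹) * c⁻¹) * c⁻¹ := by
        intro x
        have h33 : c ^ 3 = c * c * c := by rw [pow_succ, pow_two]
        rw [h33]; group
      have hfin : c ^ 3 * a = a * c ^ 3 → c * a = a * c := by
        intro h
        have hcop : (Nat.card C).Coprime 3 :=
          ((Nat.Prime.coprime_iff_not_dvd Nat.prime_three).mpr h3).symm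
        have hinj := (powCoprime hcop).injective
        have e : (powCoprime hcop) (a * c * a⁻¹) = (powCoprime hcop) c := by
          show (a * c * a⁻¹) ^ 3 = c ^ 3
          rw [conj_pow, ← h]; group
        have h' := hinj e
        calc c * a = (a * c * a⁻¹) * a := by rw [h']
          _ = a * c := by group
      rcases h1 with h1 | h1 | h1 | h1
      · exfalso; apply ha
        calc a = c⁻¹ * (c * a * c⁻¹) * c := by group
          _ = 1 := by rw [h1]; group
      · calc c * a = (c * a * c⁻¹) * c := by group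
          _ = a * c := by rw [h1]
      · exfalso
        rcases h2 with h2 | h2 | h2 | h2
        · apply hb
          calc b = c⁻¹ * (c * b * c⁻¹) * c := by group
            _ = 1 := by rw [h2]; group
        · have h4 : c * (a * b) = (a * b) * c := by
            calc c * (a * b) = (c * (a * b) * c⁻¹) * c := by group
              _ = (b * a) * c := by rw [hconj_ab, h1, h2]
              _ = (a * b) * c := by rw [hcomm]
          have h5 := ha_of_ab c h4
          apply hab
          calc a = (a * c) * c⁻¹ := by group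
            _ = (c * a) * c⁻¹ := by rw [h5]
            _ = b := h1
        · apply hab
          calc a = c⁻¹ * (c * a * c⁻¹) * c := by group
            _ = c⁻¹ * (c * b * c⁻¹) * c := by rw [h1, h2]
            _ = b := by group
        · have h4 : c * (a * b) * c⁻¹ = a := by
            rw [hconj_ab, h1, h2]; exact e_b_ab
          have h5 : c ^ 3 * a = a * c ^ 3 := by
            have h6 := hcube a
            rw [h1, h2, h4] at h6
            calc c ^ 3 * a = (c ^ 3 * a * (c ^ 3)⁻¹) * c ^ 3 := by group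
              _ = a * c ^ 3 := by rw [h6]
          have h6 := hfin h5
          apply hab
          calc a = (a * c) * c⁻¹ := by group
            _ = (c * a) * c⁻¹ := by rw [h6]
            _ = b := h1
      · exfalso
        rcases h2 with h2 | h2 | h2 | h2
        · apply hb
          calc b = c⁻¹ * (c * b * c⁻¹) * c := by group
            _ = 1 := by rw [h2]; group
        · have h4 : c * (a * b) * c⁻¹ = b := by
            rw [hconj_ab, h1, h2]; exact e_ab_a
          have h5 : c ^ 3 * a = a * c ^ 3 := by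
            have h6 := hcube a
            rw [h1, h4, h2] at h6
            calc c ^ 3 * a = (c ^ 3 * a * (c ^ 3)⁻¹) * c ^ 3 := by group
              _ = a * c ^ 3 := by rw [h6]
          have h6 := hfin h5
          apply hne_a_ab
          calc a = (a * c) * c⁻¹ := by group
            _ = (c * a) * c⁻¹ := by rw [h6]
            _ = a * b := h1
        · have h4 : c * b = b * c := by
            calc c * b = (c * b * c⁻¹) * c := by group
              _ = b * c := by rw [h2]
          have h5 := ha_of_b c h4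
          apply hne_a_ab
          calc a = (a * c) * c⁻¹ := by group
            _ = (c * a) * c⁻¹ := by rw [h5]
            _ = a * b := h1
        · apply hab
          calc a = c⁻¹ * (c * a * c⁻¹) * c := by group
            _ = c⁻¹ * (c * b * c⁻¹) * c := by rw [h1, h2]
            _ = b := by group
    rw [Subgroup.mem_centralizer_iff]
    intro x hx
    rcases (hmemS x).mp hx with hx | hx | hx | hx
    · rw [hx, one_mul, mul_one]
    · rw [hx]; exact hca.symm
    · rw [hx]; exact (hab_of_a c hca).symm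
    · rw [hx]; exact (hab_of_a' c hca).symm
  -- (3) Burnside
  obtain ⟨τ, hτ⟩ : ∃ τ : C →* (S : Subgroup C), τ = MonoidHom.transferSylow S hNC := ⟨_, rfl⟩
  have hcompl : Subgroup.IsComplement' τ.ker (S : Subgroup C) := by
    rw [hτ]; exact MonoidHom.ker_transferSylow_isComplement' S hNC
  have hker : ¬ 2 ∣ Nat.card τ.ker := by
    rw [hτ]; exact MonoidHom.not_dvd_card_ker_transferSylow S hNC
  have hodd : Odd (Nat.card τ.ker) := Nat.odd_iff.mpr (Nat.two_dvd_ne_zero.mp hker)
  have hKn : τ.ker.Normal := MonoidHom.normal_ker τ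
  -- (5) the complement centralizes `a`
  have hK : ∀ x ∈ τ.ker, x * a = a * x := by
    intro x hx
    obtain ⟨c, i, hcK, hiK, hc, hi, hxci⟩ := ree_factor τ.ker hodd a ha2 x hx
    obtain ⟨c', j, hc'K, hjK, hc', hj, hij⟩ := ree_factor τ.ker hodd b hb2 i hiK
    have hc'b : c' * b = b * c' := by
      calc c' * b = (b * c' * b⁻¹) * b := by rw [hc']
        _ = b * c' := by group
    have hc'a : c' * a = a * c' := ha_of_b c' hc'b
    have hc'a' : a * c' * a⁻¹ = c' := by rw [← hc'a]; group
    have f1 : i⁻¹ = c' * (a * j * a⁻¹) := by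
      rw [← hi, hij]
      calc a * (c' * j) * a⁻¹ = (a * c' * a⁻¹) * (a * j * a⁻¹) := by group
        _ = c' * (a * j * a⁻¹) := by rw [hc'a']
    have f2 : i⁻¹ = c'⁻¹ * (c' * j⁻¹ * c'⁻¹) := by rw [hij]; group
    have g1 : b * (a * j * a⁻¹) * b⁻¹ = (a * j * a⁻¹)⁻¹ := by
      calc b * (a * j * a⁻¹) * b⁻¹ = (b * a) * j * (b * a)⁻¹ := by group
        _ = (a * b) * j * (a * b)⁻¹ := by rw [hcomm]
        _ = a * (b * j * b⁻¹) * a⁻¹ := by group
        _ = a * j⁻¹ * a⁻¹ := by rw [hj]
        _ = (a * j * a⁻¹)⁻¹ := by group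
    have g2 : b * (c' * j⁻¹ * c'⁻¹) * b⁻¹ = (c' * j⁻¹ * c'⁻¹)⁻¹ := by
      calc b * (c' * j⁻¹ * c'⁻¹) * b⁻¹
          = (b * c' * b⁻¹) * (b * j * b⁻¹)⁻¹ * (b * c' * b⁻¹)⁻¹ := by group
        _ = c' * (j⁻¹)⁻¹ * c'⁻¹ := by rw [hc', hj]
        _ = (c' * j⁻¹ * c'⁻¹)⁻¹ := by group
    have g3 : b * c'⁻¹ * b⁻¹ = c'⁻¹ := by
      calc b * c'⁻¹ * b⁻¹ = (b * c' * b⁻¹)⁻¹ := by group
        _ = c'⁻¹ := by rw [hc']
    have hm1 : a * j * a⁻¹ ∈ τ.ker := hKn.conj_mem j hjK a
    have hm2 : c' * j⁻¹ * c'⁻¹ ∈ τ.ker := hKn.conj_mem _ (τ.ker.inv_mem hjK) c'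
    have huniq := ree_factor_unique τ.ker hodd b hm1 hm2 hc' g3 g1 g2 (f1.symm.trans f2)
    have hc'1 : c' = 1 := by
      have h1 : c' * c' = 1 * 1 := by
        rw [one_mul]
        nth_rewrite 2 [huniq.1]
        exact mul_inv_cancel c'
      exact ree_sq_inj τ.ker hodd hc'K τ.ker.one_mem h1
    have hij' : i = j := by rw [hij, hc'1, one_mul]
    have hib : b * i * b⁻¹ = i⁻¹ := by rw [hij']; exact hj
    have hiab : i * (a * b) = (a * b) * i := by
      have h1 : (a * b) * i * (a * b)⁻¹ = i := by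
        calc (a * b) * i * (a * b)⁻¹ = a * (b * i * b⁻¹) * a⁻¹ := by group
          _ = a * i⁻¹ * a⁻¹ := by rw [hib]
          _ = (a * i * a⁻¹)⁻¹ := by group
          _ = i := by rw [hi, inv_inv]
      calc i * (a * b) = ((a * b) * i * (a * b)⁻¹) * (a * b) := by rw [h1]
        _ = (a * b) * i := by group
    have hia : i * a = a * i := ha_of_ab i hiab
    have hi1 : i = 1 := by
      have h1 : i * i = 1 * 1 := by
        rw [one_mul]
        have h2 : i⁻¹ = i := by
          rw [← hi, ← hia]; group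
        nth_rewrite 2 [← h2]
        exact mul_inv_cancel i
      exact ree_sq_inj τ.ker hodd hiK τ.ker.one_mem h1
    rw [hxci, hi1, mul_one]
    calc c * a = (a * c * a⁻¹) * a := by rw [hc]
      _ = a * c := by group
  -- (6) conclusion
  intro x
  obtain ⟨⟨o, p⟩, hop⟩ := hcompl.2 x
  have hop' : (o : C) * (p : C) = x := hop
  have ho := hK o o.2
  have hp : (p : C) * a = a * (p : C) := by
    rcases (hmemS _).mp p.2 with h | h | h | h
    · rw [h, one_mul, mul_one]
    · rw [h]
    · rw [h]; exact hcomm.symm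
    · rw [h]; exact e_ab_a.trans e_a_ab.symm
  rw [← hop']
  calc (o : C) * p * a = o * (p * a) := by group
    _ = o * (a * p) := by rw [hp]
    _ = (o * a) * p := by group
    _ = (a * o) * p := by rw [ho]
    _ = a * (o * p) := by group

end Cfsg.Agent.Helper66
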