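import Mathlib
import Cfsg.Prelude.Def_GeometricClasses
import Cfsg.Prelude.Def_Classical
import Cfsg.Agent.Helper65.S74Defs
import Cfsg.Agent.Helper35.S88Defs
import Cfsg.Agent.Helper35.TSSTDP
import Cfsg.Agent.Helper80.S88SCAL
import Cfsg.Agent.Helper97.OForm
import Cfsg.Agent.Helper96.OHAux
import Cfsg.Agent.Helper96.S88Good

set_option autoImplicit false
set_option linter.unusedSectionVars false
set_option linter.unusedVariables false

/-!
# CALL S74 (helper65; row S5974), stage OOG (helper66, double): `s74_odd_good`, verbatim.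

`s74g_odd_good`: the generic form (port of `Cfsg.Agent.Helper96.S88G.s88g_odd_good` from elliptic
to hyperbolic `m`-spaces; the fixed space `Fx` is of plus type because `⊤` and `P` are).
-/

namespace Cfsg.Agent.Helper66.S74

open Module Cfsg Cfsg.Geo Cfsg.Agent.Helper65.S74
open scoped MatrixGroups

section generic

open Cfsg.Agent.Helper13.TIu Cfsg.Agent.Helper96.OH Cfsg.Agent.Helper96.OHAll
open Cfsg.Agent.Helper96.S88G

variable {ι : Type} [Fintype ι] [DecidableEq ι] {F : Type*} [Field F] (Q : (ι → F) → F)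

/-- OOG, generic: `i` odd, hyperbolic `m`-spaces. -/
theorem s74g_odd_good [Fintype F] (hQ : IsNondegenerateQuadraticForm Q) (hpl : OPl Q ⊤)
    (d m : ℕ) (hcard : Fintype.card ι = 2 * d) (hme : Even m) (hmd : m < d)
    (T : Module.End F (ι → F)) (hT : OPres Q T) (r : ℕ) [Fact r.Prime] (hr2 : 2 < r)
    (hrF : (r : F) ≠ 0) (hTr : T ^ r = 1) (i : ℕ)
    (hi : i = orderOf ((Fintype.card F : ℕ) : ZMod r)) (hodd : Odd i)
    (hcond : 2 * i ≤ m ∧ m % (2 * i) ≤ (2 * d) % (2 * i)) :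
    ∃ W : Submodule F (ι → F), (finrank F W = m ∧ ONd Q W ∧ OPl Q W) ∧ W.map T ≤ W := by
  obtain ⟨c, hc2⟩ : ∃ c, c = 2 * i := ⟨_, rfl⟩
  have hc : c = if Even i then i else 2 * i := by
    rw [if_neg (Nat.not_even_iff_odd.mpr hodd)]
    exact hc2
  rw [← hc2] at hcond
  obtain ⟨hcm, hmc⟩ := hcond
  have hi0 : 0 < i := by
    obtain ⟨k, hk⟩ := hodd
    omega
  have hc0 : 0 < c := by omega
  have hceven : Even c := by
    rw [hc2]
    exact even_two_mul i
  obtain ⟨ρ, Fx, P, hρ, hn, hFx, hP, horth, hsup, hfix, hPT, hPk, -, hsub⟩ :=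
    s88g_split Q hQ T hT r hr2 hrF hTr i c hi hc
  obtain ⟨h₁, hh₁⟩ : ∃ h₁ : ℕ, h₁ = min (m / c) ρ := ⟨_, rfl⟩
  obtain ⟨N₁, hN₁P, hN₁T, hN₁, hN₁dim, hN₁k⟩ := hsub h₁ (by rw [hh₁]; exact min_le_right _ _)
  have hle : c * h₁ ≤ m := by
    calc c * h₁ ≤ c * (m / c) := by
          rw [hh₁]
          exact Nat.mul_le_mul_left c (min_le_left _ _)
      _ ≤ m := Nat.mul_div_le m c
  have hN₁pl : OPl Q N₁ :=
    oall_type_odd Q hQ T hT r hr2 hrF hTr (by rw [← hi]; exact hodd) N₁ hN₁T hN₁ hN₁k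
  have hPpl : OPl Q P :=
    oall_type_odd Q hQ T hT r hr2 hrF hTr (by rw [← hi]; exact hodd) P hPT hP hPk
  have hN₁even : Even (finrank F N₁) := by
    rw [hN₁dim]
    exact hceven.mul_right h₁
  have hPeven : Even (finrank F P) := by
    rw [hρ]
    exact hceven.mul_right ρ
  have hdm := Nat.div_add_mod m c
  have he₁even : Even (m - c * h₁) :=
    (Nat.even_sub hle).mpr ⟨fun _ => hceven.mul_right h₁, fun _ => hme⟩
  have hFxdim : finrank F Fx = 2 * (d - i * ρ) := by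
    have h1 : c * ρ = 2 * (i * ρ) := by
      rw [hc2]
      ring
    omega
  have hFxeven : Even (finrank F Fx) := by
    rw [hFxdim]
    exact even_two_mul _
  have hFxpl : OPl Q Fx := by
    have h1 := Cfsg.Agent.Helper33.o_type_mul Q hQ Fx P hFx hP horth hFxeven hPeven
    rw [hsup] at h1
    exact (h1.mp hpl).mpr hPpl
  have he₁le : m - c * h₁ ≤ finrank F Fx := by
    rcases le_or_gt (m / c) ρ with hle' | hgt
    · have hh : h₁ = m / c := by
        rw [hh₁]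
        exact min_eq_left hle'
      have h1 : m - c * h₁ = m % c := by
        rw [hh]
        omega
      have h3 : (2 * d) % c ≤ finrank F Fx := by
        rw [← hcard, ← hn, hρ, Nat.mul_add_mod]
        exact Nat.mod_le _ _
      omega
    · have hh : h₁ = ρ := by
        rw [hh₁]
        exact min_eq_right hgt.le
      rw [hh]
      omega
  -- the hyperbolic part inside the fixed space
  have hX : ∃ X : Submodule F (ι → F), X ≤ Fx ∧ ONd Q X ∧ finrank F X = m - c * h₁ ∧ OPl Q X := by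
    rcases Nat.eq_zero_or_pos (m - c * h₁) with h0 | hpos
    · refine ⟨⊥, bot_le, ?_, by rw [finrank_bot, h0], Cfsg.Agent.Helper33.o_plus_bot Q hQ⟩
      intro w hw hw0
      exact absurd ((Submodule.mem_bot F).mp hw) hw0
    · rcases he₁le.lt_or_eq with hlt | heq
      · obtain ⟨X, hXFx, hX, hXdim, hXty⟩ :=
          Cfsg.Agent.Helper35.EL.el_sub Q hQ Fx hFx (d - i * ρ) hFxdim (m - c * h₁) he₁even hpos
            (by rw [← hFxdim]; exact hlt) True
        exact ⟨X, hXFx, hX, hXdim, hXty.mpr trivial⟩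
      · exact ⟨Fx, le_rfl, hFx, heq.symm, hFxpl⟩
  obtain ⟨X, hXFx, hX, hXdim, hXpl⟩ := hX
  have horthX : OOrth Q X N₁ := fun u hu v hv => horth u (hXFx hu) v (hN₁P hv)
  refine ⟨X ⊔ N₁, ⟨?_, ?_, ?_⟩, ?_⟩
  · rw [Cfsg.Agent.Helper33.OType.finrank_sup_of_orth Q X N₁ hX horthX, hXdim, hN₁dim]
    omega
  · exact Cfsg.Agent.Helper33.OType.nondeg_sup Q hQ X N₁ hX hN₁ horthX
  · exact (Cfsg.Agent.Helper33.o_type_mul Q hQ X N₁ hX hN₁ horthX
      (by rw [hXdim]; exact he₁even) hN₁even).mpr ⟨fun _ => hN₁pl, fun _ => hXpl⟩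
  · rw [Submodule.map_sup]
    refine sup_le_sup ?_ hN₁T
    rintro _ ⟨x, hx, rfl⟩
    rw [hfix x (hXFx hx)]
    exact hx

end generic

open Cfsg.Agent.Helper96.OH Cfsg.Agent.Helper96.OHAux

variable {F : Type*} [Field F] [Fintype F]

/-- OOG. -/
theorem s74_odd_good {p : ℕ} [Fact p.Prime] [CharP F p] {q : ℕ} (hq : Fintype.card F = q)
    (d m : ℕ) (hd : 4 ≤ d) (hm : 2 ≤ m) (hme : Even m) (hmd : m < d) (r : ℕ) [Fact r.Prime]
    (hr2 : 2 < r) (hrp : r ≠ p) (i : ℕ) (hi : i = orderOf (q : ZMod r)) (hodd : Odd i)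
    (hcond : 2 * i ≤ m ∧ m % (2 * i) ≤ (2 * d) % (2 * i)) :
    AllHyp (Cfsg.quadFormPlus d F) r m := by
  classical
  subst hq
  have hrpr : r.Prime := Fact.out
  have hrodd : Odd r := hrpr.odd_of_ne_two (by omega)
  have hrF : (r : F) ≠ 0 := oh_rF p r hrp
  have hQ := (Cfsg.Agent.Helper35.TS5973.ts_std_plus (F := F) d).1
  have hpl := (Cfsg.Agent.Helper35.TS5973.ts_std_plus (F := F) d).2
  have hcard : Fintype.card (Fin d ⊕ Fin d) = 2 * d := by simp; omega
  intro x hx hxr hns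
  have hxiso := Cfsg.Agent.Helper97.Gen.omegaGL_le _ hx
  obtain ⟨x', hx', hx'r, hx'1, hinv, -⟩ :=
    Cfsg.Agent.Helper80.S88.s88_scal (Cfsg.quadFormPlus d F) hQ r hrodd x hxiso hxr hns
  rw [invHyp_iff]
  have hT := oh_opres_toLin' (Cfsg.quadFormPlus d F) x' hx'
  have hTr : Matrix.toLin' (x' : Matrix (Fin d ⊕ Fin d) (Fin d ⊕ Fin d) F) ^ r = 1 := by
    have h2 : (x' : Matrix (Fin d ⊕ Fin d) (Fin d ⊕ Fin d) F) ^ r = 1 := by
      rw [← Units.val_pow_eq_pow_val, hx'r]; rfl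
    rw [oh_toLin'_pow_eq, h2, Matrix.toLin'_one]; rfl
  obtain ⟨W, hW, hWT⟩ := s74g_odd_good (Cfsg.quadFormPlus d F) hQ hpl d m hcard hme hmd _ hT r
    hr2 hrF hTr i hi hodd hcond
  exact ⟨W, hW, hinv W hWT⟩

end Cfsg.Agent.Helper66.S74
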