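import Mathlib
import Cfsg.Prelude.Def_GeometricClasses
import Cfsg.Prelude.Def_Classical
import Cfsg.Agent.Helper35.S88Defs
import Cfsg.Agent.Helper96.OHAll
import Cfsg.Agent.Helper96.OHAux
import Cfsg.Agent.Helper35.TBXODD
import Cfsg.Agent.Helper35.TSSTDM
import Cfsg.Agent.Helper80.TSNONSCAL
import Cfsg.Agent.Helper86.ELNDIVCore
import Cfsg.Agent.Helper47.ODDBADM

set_option autoImplicit false
set_option linter.unusedSectionVars false
set_option linter.unusedVariables false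

/-!
# CALL S90 (helper98; row S5990), stage OOB (helper66): `s90_odd_bad`, verbatim.

`r` odd `≠ p`, `i = ord_r(q)` odd, direction `⟹`, ambient form of MINUS type, ALL characteristics.
* `s90_bad_minus`: an isometry of order `r` of the minus form with fixed space of dimension
  `(2 d) % c` (= `Cfsg.Agent.Helper47.OD59.od_bad_minus` without its unused hypothesis `2 ≠ 0`).
* `s90_ndiv_of_bad`: generic NDIV from a bad element (= `Cfsg.Agent.Helper86.EL5988.el_ndiv_of_bad`
  without the plus-type hypothesis; second alternative: the fixed space has dimension `m` and is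
  not of plus type).
* `s90_bad_core`, `s90_fix_type`: invariant elliptic `W` and the fixed space (`i` odd).
-/

namespace Cfsg.Agent.Helper66.S90

open Module Polynomial Cfsg Cfsg.Geo
open Cfsg.Agent.Helper13.TIu Cfsg.Agent.Helper96.OH
open Cfsg.Agent.Helper31.OH5992 Cfsg.Agent.Helper37.OH5992 Cfsg.Agent.Helper96.OHAll
open Cfsg.Agent.Helper47.OD59 (odbadm_key47)
open Cfsg.Agent.Helper86.EL5988 (el_ndiv_core el_pres_map)
open scoped MatrixGroups

section generic

variable {ι : Type} [Fintype ι] [DecidableEq ι] {F : Type*} [Field F] (Q : (ι → F) → F)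

/-- the bad element of the minus form, all characteristics. -/
theorem s90_bad_minus [Fintype F] (p : ℕ) [Fact p.Prime] [CharP F p] (d : ℕ)
    (hd : 1 ≤ d) (a b : F) (hab : ∀ x y : F, x ^ 2 + a * x * y + b * y ^ 2 = 0 → x = 0 ∧ y = 0)
    (r : ℕ) [Fact r.Prime] (hr2 : 2 < r) (hrp : r ≠ p) (i c : ℕ)
    (hi : i = orderOf ((Fintype.card F : ℕ) : ZMod r)) (hc : c = if Even i then i else 2 * i)
    (hcn : c ≤ 2 * d) (hcond : 0 < (2 * d) % c ∨ (Even i ∧ Odd ((2 * d) / i))) :
    ∃ g : GL ((Fin (d - 1) ⊕ Fin (d - 1)) ⊕ Fin 2) F,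
      g ∈ Cfsg.isometryGroup F (Cfsg.quadFormMinus (d - 1) F a b) ∧ orderOf g = r ∧
      finrank F (LinearMap.ker (Matrix.toLin' (g : Matrix ((Fin (d - 1) ⊕ Fin (d - 1)) ⊕ Fin 2)
        ((Fin (d - 1) ⊕ Fin (d - 1)) ⊕ Fin 2) F) - 1)) = (2 * d) % c := by
  classical
  have hr : r.Prime := Fact.out
  have hrF : (r : F) ≠ 0 := Cfsg.Agent.Helper43.CycFactors.natCast_ne_zero_of_ne (p := p) hr hrp
  -- `i > 0`
  have hi0 : 0 < i := by
    rw [hi, orderOf_pos_iff, isOfFinOrder_iff_isUnit, ZMod.isUnit_iff_coprime]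
    obtain ⟨n, hpn, hcard⟩ := FiniteField.card F p
    rw [hcard]
    apply Nat.Coprime.pow_left
    exact (Nat.coprime_primes hpn hr).mpr (fun h => hrp h.symm)
  have hc0 : 0 < c := by
    rw [hc]
    split_ifs <;> omega
  have hu : 1 ≤ (2 * d) / c := Nat.div_pos hcn hc0
  have hdm := Nat.div_add_mod (2 * d) c
  have hcard := Cfsg.Agent.Helper43.CycFactors.cycJ_card_mul (p := p)
    (rfl : Fintype.card F = Fintype.card F) hr hrp
  have hne : (Cfsg.Agent.Helper43.CycFactors.cycJ F r).Nonempty := by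
    rw [Finset.nonempty_iff_ne_empty]
    intro h
    rw [h, Finset.card_empty, zero_mul] at hcard
    omega
  obtain ⟨P₀, hP₀⟩ := hne
  obtain ⟨u, hudef⟩ : ∃ u, u = (2 * d) / c := ⟨_, rfl⟩
  rw [← hudef] at hu hdm
  have key : ∃ g : ↥(Cfsg.isometryGroup F (Cfsg.quadFormMinus (d - 1) F a b)), orderOf g = r ∧
      finrank F (LinearMap.ker (Matrix.toLin'
        ((g : Matrix.GeneralLinearGroup ((Fin (d - 1) ⊕ Fin (d - 1)) ⊕ Fin 2) F) :
          Matrix ((Fin (d - 1) ⊕ Fin (d - 1)) ⊕ Fin 2) ((Fin (d - 1) ⊕ Fin (d - 1)) ⊕ Fin 2) F)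
        - 1)) = (2 * d) % c := by
    by_cases hev : Even i
    · rw [if_pos hev] at hc
      subst hc
      refine odbadm_key47 p r (by omega) hrp d hd a b hab ((2 * d) % c)
        (fun P => if P = P₀ then u else 0) ?_ ⟨P₀, hP₀, ?_⟩ ?_ ?_
      · intro P hP
        show (if Cfsg.Agent.Helper43.SpReal.star P = P₀ then u else 0) = if P = P₀ then u else 0
        rw [Cfsg.Agent.Helper43.StarPoly.star_eq_self_of_even (p := p)
          (rfl : Fintype.card F = Fintype.card F) hr hrp (hi ▸ hev) hP]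
      · show (if P₀ = P₀ then u else 0) ≠ 0
        rw [if_pos rfl]
        omega
      · rw [Finset.sum_ite_eq', if_pos hP₀, ← hi]
        omega
      · rw [Finset.sum_ite_eq', if_pos hP₀, ← hi]
        rcases hcond with h | ⟨_, h⟩
        · exact Or.inl h
        · refine Or.inr ⟨Nat.not_odd_iff_even.mpr hev, ?_⟩
          rw [hudef]
          exact h
    · rw [if_neg hev] at hc
      subst hc
      have hc0' : 0 < (2 * d) % (2 * i) := by
        rcases hcond with h | ⟨h, _⟩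
        · exact h
        · exact absurd h hev
      have hP₀' := Cfsg.Agent.Helper43.CycFactors.mem_cycJ.mp hP₀
      have hsP₀ : Cfsg.Agent.Helper43.SpReal.star P₀ ∈ Cfsg.Agent.Helper43.CycFactors.cycJ F r :=
        Cfsg.Agent.Helper43.StarPoly.star_mem_cycJ hr hrF hP₀
      have hss₀ : Cfsg.Agent.Helper43.SpReal.star (Cfsg.Agent.Helper43.SpReal.star P₀) = P₀ :=
        Cfsg.Agent.Helper43.StarPoly.star_star hP₀'.1
          (Cfsg.Agent.Helper43.StarPoly.coeff_zero_ne_of_mem hr hP₀)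
      refine odbadm_key47 p r (by omega) hrp d hd a b hab ((2 * d) % (2 * i))
        (fun P => (if P = P₀ then u else 0) +
          (if P = Cfsg.Agent.Helper43.SpReal.star P₀ then u else 0)) ?_ ⟨P₀, hP₀, ?_⟩ ?_
          (Or.inl hc0')
      · intro P hP
        have hP' := Cfsg.Agent.Helper43.CycFactors.mem_cycJ.mp hP
        have hss : Cfsg.Agent.Helper43.SpReal.star (Cfsg.Agent.Helper43.SpReal.star P) = P :=
          Cfsg.Agent.Helper43.StarPoly.star_star hP'.1
            (Cfsg.Agent.Helper43.StarPoly.coeff_zero_ne_of_mem hr hP)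
        have e1 : Cfsg.Agent.Helper43.SpReal.star P = P₀ ↔
            P = Cfsg.Agent.Helper43.SpReal.star P₀ := by
          constructor
          · intro h
            rw [← h, hss]
          · intro h
            rw [h, hss₀]
        have e2 : Cfsg.Agent.Helper43.SpReal.star P = Cfsg.Agent.Helper43.SpReal.star P₀ ↔
            P = P₀ := by
          constructor
          · intro h
            rw [← hss, h, hss₀]
          · intro h
            rw [h]
        show (if Cfsg.Agent.Helper43.SpReal.star P = P₀ then u else 0) +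
          (if Cfsg.Agent.Helper43.SpReal.star P = Cfsg.Agent.Helper43.SpReal.star P₀ then u
            else 0) = (if P = P₀ then u else 0) +
          (if P = Cfsg.Agent.Helper43.SpReal.star P₀ then u else 0)
        rw [if_congr e1 rfl rfl, if_congr e2 rfl rfl, add_comm]
      · show (if P₀ = P₀ then u else 0) +
          (if P₀ = Cfsg.Agent.Helper43.SpReal.star P₀ then u else 0) ≠ 0
        rw [if_pos rfl]
        omega
      · rw [Finset.sum_add_distrib, Finset.sum_ite_eq', Finset.sum_ite_eq', if_pos hP₀,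
          if_pos hsP₀, ← hi]
        have h3 : i * (u + u) = 2 * i * u := by ring
        omega
  obtain ⟨g, hg, hfix⟩ := key
  refine ⟨(g : Matrix.GeneralLinearGroup ((Fin (d - 1) ⊕ Fin (d - 1)) ⊕ Fin 2) F), g.2, ?_, hfix⟩
  rw [Subgroup.orderOf_coe]
  exact hg

/-- NDIV from a bad element, any ambient type. -/
theorem s90_ndiv_of_bad [Fintype F] (hQ : IsNondegenerateQuadraticForm Q)
    (d : ℕ) (hcard : Fintype.card ι = 2 * d)
    (r : ℕ) [Fact r.Prime] (hr2 : 2 < r) (hrF : (r : F) ≠ 0) (i c : ℕ)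
    (hi : i = orderOf ((Fintype.card F : ℕ) : ZMod r)) (hc : c = if Even i then i else 2 * i)
    (m : ℕ) (hme : Even m) (hm0 : 0 < m) (hmc : m < c)
    (T : Module.End F (ι → F)) (hT : OPres Q T) (hTr : T ^ r = 1)
    (hfix : finrank F (LinearMap.ker (T - 1)) < c)
    (hk : m < finrank F (LinearMap.ker (T - 1)) ∨
      (m = finrank F (LinearMap.ker (T - 1)) ∧ ¬ OPl Q (LinearMap.ker (T - 1)))) :
    ¬ r ∣ Nat.card {W : Submodule F (ι → F) // finrank F W = m ∧ ONd Q W ∧ ¬ OPl Q W} := by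
  classical
  have hrpr : r.Prime := Fact.out
  have hinj : Function.Injective T := by
    have h1 : T ^ (r - 1) * T = 1 := by
      rw [← pow_succ, Nat.sub_add_cancel hrpr.one_le, hTr]
    intro u v huv
    have h2 := congrArg (T ^ (r - 1)) huv
    rw [← Module.End.mul_apply, ← Module.End.mul_apply, h1] at h2
    exact h2
  have hcev : Even c := by
    rw [hc]
    split_ifs with h
    · exact h
    · exact even_two_mul i
  -- the fixed space and its complement
  obtain ⟨hCnd, P, -, hPT, hPnd, hPk, hsup, horth, hdim⟩ :=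
    o_fix Q hQ T hT r hrpr.pos hrF hTr ⊤ le_top (ond_top Q hQ)
  rw [top_inf_eq] at hCnd hsup horth hdim
  rw [finrank_top, Module.finrank_fintype_fun_eq_card] at hdim
  have hcP : c ∣ finrank F P := by
    have h1 := oall_cdvd Q hQ T hT r hr2 hrF hTr i c hi hc P hPT hPnd
    rw [hPk, finrank_bot, Nat.sub_zero] at h1
    exact h1
  have hPev : Even (finrank F P) := hcev.trans_dvd hcP
  have hCev : Even (finrank F (LinearMap.ker (T - 1))) := by
    obtain ⟨a, ha⟩ := hPev
    exact ⟨d - a, by omega⟩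
  -- the fixed point congruence
  have hcong := o_fix_congr T r hTr (fun W => finrank F W = m ∧ ONd Q W ∧ ¬ OPl Q W)
    (fun W hW => el_pres_map Q hQ T hT hinj m W hW)
  have hinC : ∀ W : Submodule F (ι → F), (finrank F W = m ∧ ONd Q W ∧ ¬ OPl Q W) →
      W.map T ≤ W → W ≤ LinearMap.ker (T - 1) := by
    intro W hW hWT
    have h1 := oall_cdvd Q hQ T hT r hr2 hrF hTr i c hi hc W hWT hW.2.1
    have h3 : finrank F (W ⊓ LinearMap.ker (T - 1) : Submodule F (ι → F)) ≤ finrank F W :=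
      Submodule.finrank_mono inf_le_left
    have h2 : finrank F W - finrank F (W ⊓ LinearMap.ker (T - 1) : Submodule F (ι → F)) = 0 :=
      Nat.eq_zero_of_dvd_of_lt h1 (by rw [hW.1]; omega)
    have h4 : W ⊓ LinearMap.ker (T - 1) = W :=
      Submodule.eq_of_le_of_finrank_eq inf_le_left (by omega)
    rw [← h4]
    exact inf_le_right
  have hCfix : ∀ W : Submodule F (ι → F), W ≤ LinearMap.ker (T - 1) → W.map T ≤ W := by
    rintro W hW _ ⟨w, hw, rfl⟩
    have h1 := hW hw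
    rw [LinearMap.mem_ker, LinearMap.sub_apply, Module.End.one_apply, sub_eq_zero] at h1
    rw [h1]
    exact hw
  have hcard2 : Nat.card {W : Submodule F (ι → F) //
      (finrank F W = m ∧ ONd Q W ∧ ¬ OPl Q W) ∧ W.map T ≤ W} =
      Nat.card {W : Submodule F (ι → F) //
        (finrank F W = m ∧ ONd Q W ∧ ¬ OPl Q W) ∧ W ≤ LinearMap.ker (T - 1)} :=
    Nat.card_congr (Equiv.subtypeEquivRight (fun W =>
      ⟨fun h => ⟨h.1, hinC W h.1 h.2⟩, fun h => ⟨h.1, hCfix W h.2⟩⟩))
  rw [hcard2] at hcong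
  intro hr
  have hr' : r ∣ Nat.card {W : Submodule F (ι → F) //
      (finrank F W = m ∧ ONd Q W ∧ ¬ OPl Q W) ∧ W ≤ LinearMap.ker (T - 1)} :=
    (Nat.ModEq.dvd_iff hcong (dvd_refl r)).mp hr
  rcases hk with hk | ⟨hmeq, hCnpl⟩
  · obtain ⟨k, hk'⟩ := hCev
    obtain ⟨X, hXC, hXnd, hXdim, hXty⟩ := Cfsg.Agent.Helper35.EL.el_sub Q hQ
      (LinearMap.ker (T - 1)) hCnd k (by omega) m hme hm0 (by omega) False
    exact el_ndiv_core Q hQ r hr2 hrF i c hi hc m hme _ hCnd hfix X
      ⟨⟨hXdim, hXnd, fun h => hXty.mp h⟩, hXC⟩ hr'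
  · have huniq : Nat.card {W : Submodule F (ι → F) //
        (finrank F W = m ∧ ONd Q W ∧ ¬ OPl Q W) ∧ W ≤ LinearMap.ker (T - 1)} = 1 := by
      rw [Nat.card_eq_one_iff_unique]
      refine ⟨⟨fun a b => Subtype.ext ?_⟩,
        ⟨⟨LinearMap.ker (T - 1), ⟨hmeq.symm, hCnd, hCnpl⟩, le_refl _⟩⟩⟩
      have ha : a.1 = LinearMap.ker (T - 1) :=
        Submodule.eq_of_le_of_finrank_eq a.2.2 (by rw [a.2.1.1, hmeq])
      have hb : b.1 = LinearMap.ker (T - 1) :=
        Submodule.eq_of_le_of_finrank_eq b.2.2 (by rw [b.2.1.1, hmeq])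
      rw [ha, hb]
    rw [huniq] at hr'
    exact hrpr.ne_one (Nat.dvd_one.mp hr')

/-- an invariant elliptic `W` (`i` odd): `m = 2 i s + w`, `0 < w ≤ dim (fixed space)`. -/
theorem s90_bad_core [Fintype F] (hQ : IsNondegenerateQuadraticForm Q)
    (T : Module.End F (ι → F)) (hT : OPres Q T) (r : ℕ) [Fact r.Prime] (hr2 : 2 < r)
    (hrF : (r : F) ≠ 0) (hTr : T ^ r = 1) (i : ℕ)
    (hi : i = orderOf ((Fintype.card F : ℕ) : ZMod r)) (hodd : Odd i)
    (m : ℕ) (hme : Even m) (W : Submodule F (ι → F))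
    (hW : finrank F W = m ∧ ONd Q W ∧ ¬ OPl Q W) (hWT : W.map T ≤ W) :
    ∃ s w, m = 2 * i * s + w ∧ 0 < w ∧ w ≤ finrank F (LinearMap.ker (T - 1)) := by
  classical
  have hrpr : r.Prime := Fact.out
  have hc : 2 * i = if Even i then i else 2 * i := by
    rw [if_neg (Nat.not_even_iff_odd.2 hodd)]
  have hodd' : Odd (orderOf ((Fintype.card F : ℕ) : ZMod r)) := by rw [← hi]; exact hodd
  obtain ⟨hWm, hWnd, hWnp⟩ := hW
  obtain ⟨hWk, P, hPW, hPT, hP, hPk, hsup, horth, hdim⟩ :=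
    Cfsg.Agent.Helper31.OH5992.o_fix Q hQ T hT r hrpr.pos hrF hTr W hWT hWnd
  obtain ⟨s, hs⟩ := Cfsg.Agent.Helper96.OHAll.oall_cdvd_aux Q hQ T hT r hr2 hrF hTr i (2 * i) hi hc
    (finrank F P) P rfl hPT hP hPk
  have hPpl : OPl Q P :=
    Cfsg.Agent.Helper96.OHAll.oall_type_odd Q hQ T hT r hr2 hrF hTr hodd' P hPT hP hPk
  have hPev : Even (finrank F P) := by rw [hs, mul_assoc]; exact even_two_mul _
  have hKev : Even (finrank F (W ⊓ LinearMap.ker (T - 1) : Submodule F (ι → F))) := by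
    have h1 : Even (finrank F P +
        finrank F (W ⊓ LinearMap.ker (T - 1) : Submodule F (ι → F))) := by
      rw [hdim, hWm]; exact hme
    exact (Nat.even_add.1 h1).1 hPev
  have hmul := Cfsg.Agent.Helper33.o_type_mul Q hQ (W ⊓ LinearMap.ker (T - 1)) P hWk hP horth
    hKev hPev
  rw [hsup] at hmul
  have hKnp : ¬ OPl Q (W ⊓ LinearMap.ker (T - 1)) :=
    fun h => hWnp (hmul.2 ⟨fun _ => hPpl, fun _ => h⟩)
  refine ⟨s, finrank F (W ⊓ LinearMap.ker (T - 1) : Submodule F (ι → F)), ?_, ?_, ?_⟩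
  · rw [← hs, hdim, hWm]
  · rw [Nat.pos_iff_ne_zero]
    intro h0
    have h1 : (W ⊓ LinearMap.ker (T - 1) : Submodule F (ι → F)) = ⊥ :=
      Submodule.finrank_eq_zero.1 h0
    rw [h1] at hKnp
    exact hKnp (Cfsg.Agent.Helper33.o_plus_bot Q hQ)
  · exact Submodule.finrank_mono inf_le_right

/-- the fixed space of an isometry of order `r` (`i` odd) has the type of the whole space. -/
theorem s90_fix_type [Fintype F] (hQ : IsNondegenerateQuadraticForm Q)
    (hmin : ¬ OPl Q ⊤) (hev : Even (Fintype.card ι))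
    (T : Module.End F (ι → F)) (hT : OPres Q T) (r : ℕ) [Fact r.Prime] (hr2 : 2 < r)
    (hrF : (r : F) ≠ 0) (hTr : T ^ r = 1) (i : ℕ)
    (hi : i = orderOf ((Fintype.card F : ℕ) : ZMod r)) (hodd : Odd i) :
    ¬ OPl Q (LinearMap.ker (T - 1)) := by
  classical
  have hrpr : r.Prime := Fact.out
  have hc : 2 * i = if Even i then i else 2 * i := by
    rw [if_neg (Nat.not_even_iff_odd.2 hodd)]
  have hodd' : Odd (orderOf ((Fintype.card F : ℕ) : ZMod r)) := by rw [← hi]; exact hodd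
  obtain ⟨hTk, P', -, hP'T, hP', hP'k, hsup', horth', hdim'⟩ :=
    Cfsg.Agent.Helper31.OH5992.o_fix Q hQ T hT r hrpr.pos hrF hTr ⊤ le_top
      (ond_top Q hQ)
  rw [top_inf_eq] at hTk hsup' horth' hdim'
  obtain ⟨s', hs'⟩ := Cfsg.Agent.Helper96.OHAll.oall_cdvd_aux Q hQ T hT r hr2 hrF hTr i (2 * i) hi
    hc (finrank F P') P' rfl hP'T hP' hP'k
  have hP'pl : OPl Q P' :=
    Cfsg.Agent.Helper96.OHAll.oall_type_odd Q hQ T hT r hr2 hrF hTr hodd' P' hP'T hP' hP'k
  have hP'ev : Even (finrank F P') := by rw [hs', mul_assoc]; exact even_two_mul _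
  have hK'ev : Even (finrank F (LinearMap.ker (T - 1) : Submodule F (ι → F))) := by
    have h1 : Even (finrank F P' +
        finrank F (LinearMap.ker (T - 1) : Submodule F (ι → F))) := by
      rw [hdim', finrank_top, Module.finrank_fintype_fun_eq_card]; exact hev
    exact (Nat.even_add.1 h1).1 hP'ev
  have hmul' := Cfsg.Agent.Helper33.o_type_mul Q hQ (LinearMap.ker (T - 1)) P' hTk hP' horth'
    hK'ev hP'ev
  rw [hsup'] at hmul'
  exact fun h => hmin (hmul'.2 ⟨fun _ => hP'pl, fun _ => h⟩)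

end generic

open Cfsg.Agent.Helper35.S88

variable {F : Type*} [Field F] [Fintype F]

/-- OOB. -/
theorem s90_odd_bad {p : ℕ} [Fact p.Prime] [CharP F p] {q : ℕ} (hq : Fintype.card F = q)
    (d m : ℕ) (hd : 4 ≤ d) (hm : 2 ≤ m) (hme : Even m) (hmn : m + 2 ≤ 2 * d) (a b : F)
    (hab : ∀ x y : F, x ^ 2 + a * x * y + b * y ^ 2 = 0 → x = 0 ∧ y = 0) (r : ℕ) [Fact r.Prime]
    (hr2 : 2 < r) (hrp : r ≠ p) (i : ℕ) (hi : i = orderOf (q : ZMod r)) (hodd : Odd i)
    (hrΩ : r ∣ Nat.card {W : Submodule F ((Fin (d - 1) ⊕ Fin (d - 1)) ⊕ Fin 2 → F) //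
      Module.finrank F ↥W = m ∧
      Cfsg.Geo.IsNondegenerateOn (QuadraticMap.polar (Cfsg.quadFormMinus (d - 1) F a b)) W ∧
      ¬ Cfsg.Geo.IsPlusTypeOn (Cfsg.quadFormMinus (d - 1) F a b) W})
    (hall : AllEll (Cfsg.quadFormMinus (d - 1) F a b) r m) :
    (2 * d) % (2 * i) = 0 ∨
      (2 * i ≤ m ∧ 0 < m % (2 * i) ∧ m % (2 * i) ≤ (2 * d) % (2 * i)) := by
  classical
  have hr : r.Prime := Fact.out
  subst hq
  obtain ⟨hQ, hminus⟩ := Cfsg.Agent.Helper35.TS5973.ts_std_minus (F := F) (d - 1) a b hab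
  have hcard : Fintype.card ((Fin (d - 1) ⊕ Fin (d - 1)) ⊕ Fin 2) = 2 * d := by
    rw [Fintype.card_sum, Fintype.card_sum, Fintype.card_fin, Fintype.card_fin]
    omega
  have hrodd : Odd r := hr.odd_of_ne_two (by omega)
  have hrF : (r : F) ≠ 0 := Cfsg.Agent.Helper96.OHAux.oh_rF p r hrp
  have hc : 2 * i = if Even i then i else 2 * i := by
    rw [if_neg (Nat.not_even_iff_odd.2 hodd)]
  have hipos : 0 < i := hodd.pos
  by_cases hk0 : (2 * d) % (2 * i) = 0
  · exact Or.inl hk0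
  right
  have hmodlt : (2 * d) % (2 * i) < 2 * i := Nat.mod_lt _ (by omega)
  have hfintop : finrank F (LinearMap.ker
      ((1 : Module.End F ((Fin (d - 1) ⊕ Fin (d - 1)) ⊕ Fin 2 → F)) - 1)) = 2 * d := by
    rw [sub_self, LinearMap.ker_zero, finrank_top, Module.finrank_fintype_fun_eq_card, hcard]
  -- `c ≤ 2 d`: otherwise the identity is a bad element
  have hcd : 2 * i ≤ 2 * d := by
    by_contra hlt
    exact s90_ndiv_of_bad (Cfsg.quadFormMinus (d - 1) F a b) hQ d hcard r hr2 hrF i (2 * i) hi hc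
      m hme (by omega) (by omega) 1 (fun v => rfl) (one_pow r) (by rw [hfintop]; omega)
      (Or.inl (by rw [hfintop]; omega)) hrΩ
  obtain ⟨x, hx, hxord, hxk⟩ := s90_bad_minus (F := F) p d (by omega) a b hab r hr2 hrp i (2 * i)
    hi hc hcd (Or.inl (by omega))
  have hxr : x ^ r = 1 := by
    rw [← hxord]
    exact pow_orderOf_eq_one x
  have hx1 : x ≠ 1 := by
    intro h1
    rw [h1, orderOf_one] at hxord
    omega
  have hTpres := Cfsg.Agent.Helper96.OHAux.oh_opres_toLin' (Cfsg.quadFormMinus (d - 1) F a b) x hx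
  have hTr : (Matrix.toLin' (x : Matrix ((Fin (d - 1) ⊕ Fin (d - 1)) ⊕ Fin 2)
      ((Fin (d - 1) ⊕ Fin (d - 1)) ⊕ Fin 2) F)) ^ r = 1 := by
    rw [Cfsg.Agent.Helper96.OHAux.oh_toLin'_pow_eq, ← Units.val_pow_eq_pow_val, hxr, Units.val_one,
      Matrix.toLin'_one]
    rfl
  have hfixty := s90_fix_type (Cfsg.quadFormMinus (d - 1) F a b) hQ hminus
    (by rw [hcard]; exact even_two_mul d) _ hTpres r hr2 hrF hTr i hi hodd
  have hnlt : ¬ (m < 2 * i ∧ m ≤ (2 * d) % (2 * i)) := by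
    rintro ⟨h1, h2⟩
    refine s90_ndiv_of_bad (Cfsg.quadFormMinus (d - 1) F a b) hQ d hcard r hr2 hrF i (2 * i) hi hc
      m hme (by omega) h1 _ hTpres hTr (by rw [hxk]; exact hmodlt) ?_ hrΩ
    rcases h2.lt_or_eq with h | h
    · exact Or.inl (by rw [hxk]; exact h)
    · exact Or.inr ⟨by rw [hxk]; exact h, hfixty⟩
  have hxΩ : x ∈ omegaGL (Cfsg.quadFormMinus (d - 1) F a b) :=
    Cfsg.Agent.Helper35.TB.tb_xodd _ hQ (by rw [hcard]; omega) x hx r hrodd hxr
  have hns := Cfsg.Agent.Helper80.TS5973.ts_nonscalar _ hQ r hrodd x hx hxr hx1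
  obtain ⟨W, hW, hWT⟩ := hall x hxΩ ⟨1, by rw [hxr, one_smul]; rfl⟩ hns
  obtain ⟨s, w, hmsw, hw0, hwle⟩ := s90_bad_core (Cfsg.quadFormMinus (d - 1) F a b) hQ
    _ hTpres r hr2 hrF hTr i hi hodd m hme W hW hWT
  rw [hxk] at hwle
  have hwlt2 : w < 2 * i := by omega
  have hmod : m % (2 * i) = w := by
    rw [hmsw, Nat.mul_add_mod]
    exact Nat.mod_eq_of_lt hwlt2
  refine ⟨?_, by omega, by omega⟩
  by_contra hlt
  have hs : s = 0 := by
    by_contra hs
    have h1 : 2 * i * 1 ≤ 2 * i * s := Nat.mul_le_mul_left _ (by omega)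
    omega
  subst hs
  exact hnlt ⟨by omega, by omega⟩

end Cfsg.Agent.Helper66.S90
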