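import Mathlib
import Cfsg.Prelude.Def_GeometricClasses
import Cfsg.Agent.Helper96.SpCore
import Cfsg.Agent.Helper96.SpField
import Cfsg.Agent.Helper98.FieldSub

/-!
# The line of skew-adjoint `E`-linear maps (helper66)

`E` a field subalgebra of degree `r` of the matrix algebra in dimension `2r`, self-adjoint for a
non-degenerate symmetric form `f` (characteristic not 2).  The skew-adjoint matrices commuting with
`E` form a line `E a`, and `a * a ∈ E`.
-/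

set_option autoImplicit false
open Cfsg Cfsg.Geo Matrix

namespace Cfsg.Agent.Helper66

variable {ι : Type} [Fintype ι] [DecidableEq ι] {F : Type*} [Field F]

theorem skew_line_general (h2 : (2 : F) ≠ 0) {r : ℕ} (hr : 0 < r)
    (f : (ι → F) → (ι → F) → F) (hf : IsSymmetricForm f) (hn : Fintype.card ι = 2 * r)
    (E : Subalgebra F (Matrix ι ι F)) (hE : IsFieldSubalgebra r E) (hsa : IsSelfAdjointFor f E) :
    ∃ a : Matrix ι ι F, a ≠ 0 ∧ (∀ k ∈ E, k * a = a * k) ∧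
      (∀ u v : ι → F, f (a *ᵥ u) v = -f u (a *ᵥ v)) ∧ a * a ∈ E ∧
      ∀ b : Matrix ι ι F, (∀ k ∈ E, k * b = b * k) →
        (∀ u v : ι → F, f (b *ᵥ u) v = -f u (b *ᵥ v)) → ∃ y ∈ E, b = y * a := by
  classical
  have B := hf.bilinear
  have hsym := hf.symm
  have fnegl : ∀ x v, f (-x) v = -f x v := by
    intro x v
    have := B.smul_left (-1) x v
    simpa using this
  have fnegr : ∀ v x, f v (-x) = -f v x := by
    intro v x
    have := B.smul_right (-1) v x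
    simpa using this
  have fsubl : ∀ x y v, f (x - y) v = f x v - f y v := by
    intro x y v
    rw [sub_eq_add_neg, B.add_left, fnegl, ← sub_eq_add_neg]
  have fsubr : ∀ v x y, f v (x - y) = f v x - f v y := by
    intro v x y
    rw [sub_eq_add_neg, B.add_right, fnegr, ← sub_eq_add_neg]
  have fzl : ∀ v, f 0 v = 0 := by
    intro v
    have := B.smul_left 0 v v
    simpa using this
  have fzr : ∀ v, f v 0 = 0 := by
    intro v
    have := B.smul_right 0 v v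
    simpa using this
  have sa : ∀ k ∈ E, ∀ u v, f (k *ᵥ u) v = f u (k *ᵥ v) := hsa
  have hFS := Helper98.IsFS.of hE
  have lcomm : ∀ p ∈ E, ∀ q ∈ E, ∀ m : Matrix ι ι F, p * (q * m) = q * (p * m) := by
    intro p hp q hq m
    rw [← mul_assoc, hE.comm p hp q hq, mul_assoc]
  -- skew elements commuting with `E`
  have F1 : ∀ X : Matrix ι ι F, (∀ u v, f (X *ᵥ u) v = -f u (X *ᵥ v)) →
      (∀ k ∈ E, X * k = k * X) → ∀ k ∈ E, ∀ v, f (X *ᵥ v) (k *ᵥ v) = 0 := by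
    intro X hXs hXE k hk v
    have h1 : f (X *ᵥ v) (k *ᵥ v) = -f (X *ᵥ v) (k *ᵥ v) := by
      calc f (X *ᵥ v) (k *ᵥ v) = f (k *ᵥ (X *ᵥ v)) v := (sa k hk _ _).symm
        _ = f (X *ᵥ (k *ᵥ v)) v := by
            rw [Matrix.mulVec_mulVec v k X, Matrix.mulVec_mulVec v X k, hXE k hk]
        _ = -f (k *ᵥ v) (X *ᵥ v) := hXs _ _
        _ = -f (X *ᵥ v) (k *ᵥ v) := by rw [hsym]
    have h3 : (2 : F) * f (X *ᵥ v) (k *ᵥ v) = 0 := by linear_combination h1
    rcases mul_eq_zero.mp h3 with h4 | h4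
    · exact absurd h4 h2
    · exact h4
  -- a non-isotropic vector
  obtain ⟨u0, hu0ne⟩ : ∃ u0 : ι → F, u0 ≠ 0 := by
    have hpos : 0 < Module.finrank F (ι → F) := by
      rw [Module.finrank_fintype_fun_eq_card, hn]; omega
    exact Module.finrank_pos_iff_exists_ne_zero.mp hpos
  obtain ⟨v0, hv0⟩ : ∃ v0, f v0 v0 ≠ 0 := by
    by_contra hcon
    push Not at hcon
    obtain ⟨x, hx⟩ := (hf.nondegenerate u0 hu0ne).1
    apply hx
    have h1 := hcon (x + u0)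
    rw [B.add_left, B.add_right, B.add_right, hcon x, hcon u0, hsym u0 x] at h1
    have h3 : (2 : F) * f x u0 = 0 := by linear_combination h1
    rcases mul_eq_zero.mp h3 with h4 | h4
    · exact absurd h4 h2
    · exact h4
  have hv0ne : v0 ≠ 0 := by rintro rfl; exact hv0 (fzl 0)
  -- the pairing on `E` given by `λ₀ k = f (k v0) v0` is perfect
  have T : ∀ φ : Matrix ι ι F →ₗ[F] F, ∃ c ∈ E, ∀ k ∈ E, φ k = f ((c * k) *ᵥ v0) v0 := by
    intro φ
    have h1 : ∀ (c₁ c₂ k : Subalgebra.toSubmodule E),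
        f ((((c₁ + c₂ : Subalgebra.toSubmodule E) : Matrix ι ι F) * (k : Matrix ι ι F)) *ᵥ v0) v0
          = f (((c₁ : Matrix ι ι F) * (k : Matrix ι ι F)) *ᵥ v0) v0
            + f (((c₂ : Matrix ι ι F) * (k : Matrix ι ι F)) *ᵥ v0) v0 := by
      intro c₁ c₂ k
      rw [Submodule.coe_add, add_mul, Matrix.add_mulVec, B.add_left]
    have h2' : ∀ (t : F) (c k : Subalgebra.toSubmodule E),
        f ((((t • c : Subalgebra.toSubmodule E) : Matrix ι ι F) * (k : Matrix ι ι F)) *ᵥ v0) v0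
          = t • f (((c : Matrix ι ι F) * (k : Matrix ι ι F)) *ᵥ v0) v0 := by
      intro t c k
      rw [Submodule.coe_smul, smul_mul_assoc, Matrix.smul_mulVec, B.smul_left, smul_eq_mul]
    have h3 : ∀ (c k₁ k₂ : Subalgebra.toSubmodule E),
        f (((c : Matrix ι ι F) * ((k₁ + k₂ : Subalgebra.toSubmodule E) : Matrix ι ι F)) *ᵥ v0) v0
          = f (((c : Matrix ι ι F) * (k₁ : Matrix ι ι F)) *ᵥ v0) v0
            + f (((c : Matrix ι ι F) * (k₂ : Matrix ι ι F)) *ᵥ v0) v0 := by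
      intro c k₁ k₂
      rw [Submodule.coe_add, mul_add, Matrix.add_mulVec, B.add_left]
    have h4 : ∀ (t : F) (c k : Subalgebra.toSubmodule E),
        f (((c : Matrix ι ι F) * ((t • k : Subalgebra.toSubmodule E) : Matrix ι ι F)) *ᵥ v0) v0
          = t • f (((c : Matrix ι ι F) * (k : Matrix ι ι F)) *ᵥ v0) v0 := by
      intro t c k
      rw [Submodule.coe_smul, mul_smul_comm, Matrix.smul_mulVec, B.smul_left, smul_eq_mul]
    obtain ⟨Φ, hΦ⟩ : ∃ Φ : Subalgebra.toSubmodule E →ₗ[F] Subalgebra.toSubmodule E →ₗ[F] F,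
        ∀ c k, Φ c k = f (((c : Matrix ι ι F) * (k : Matrix ι ι F)) *ᵥ v0) v0 :=
      ⟨LinearMap.mk₂ F _ h1 h2' h3 h4, fun c k => rfl⟩
    have hinj : Function.Injective Φ := by
      rw [injective_iff_map_eq_zero]
      intro c hc
      by_contra hc0
      have hc0' : (c : Matrix ι ι F) ≠ 0 := fun h => hc0 (Subtype.ext h)
      obtain ⟨y, hy, hcy⟩ := hE.inv c c.2 hc0'
      have h5 : Φ c ⟨y, hy⟩ = 0 := by rw [hc]; rfl
      rw [hΦ] at h5
      have h6 : ((c : Matrix ι ι F) * y) *ᵥ v0 = v0 := by rw [hcy, Matrix.one_mulVec]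
      rw [h6] at h5
      exact hv0 h5
    have hfr : Module.finrank F (Subalgebra.toSubmodule E)
        = Module.finrank F (Subalgebra.toSubmodule E →ₗ[F] F) :=
      (Subspace.dual_finrank_eq (K := F) (V := Subalgebra.toSubmodule E)).symm
    have hsurj : Function.Surjective Φ :=
      (LinearMap.injective_iff_surjective_of_finrank_eq_finrank hfr).mp hinj
    obtain ⟨c, hc⟩ := hsurj (φ.domRestrict (Subalgebra.toSubmodule E))
    refine ⟨c, c.2, fun k hk => ?_⟩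
    have h5 := LinearMap.congr_fun hc ⟨k, hk⟩
    rw [hΦ] at h5
    exact h5.symm
  -- a vector `v1 ≠ 0` orthogonal to `E v0`
  have hr1 : Module.finrank F (Helper96.Sy.orb E v0) = r := by
    rw [(Helper96.Sy.orb_min E hE.inv v0 hv0ne).2, hE.finrank_eq]
  obtain ⟨w, hw⟩ : ∃ w, w ∉ Helper96.Sy.orb E v0 := by
    by_contra hcon
    push Not at hcon
    have htop : Helper96.Sy.orb E v0 = ⊤ := Submodule.eq_top_iff'.mpr hcon
    rw [htop, finrank_top, Module.finrank_fintype_fun_eq_card, hn] at hr1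
    omega
  obtain ⟨φ₁, hφ₁⟩ : ∃ φ : Matrix ι ι F →ₗ[F] F, ∀ M, φ M = f w (M *ᵥ v0) :=
    ⟨{ toFun := fun M => f w (M *ᵥ v0)
       map_add' := fun M N => by
        show f w ((M + N) *ᵥ v0) = f w (M *ᵥ v0) + f w (N *ᵥ v0)
        rw [Matrix.add_mulVec, B.add_right]
       map_smul' := fun t M => by
        show f w ((t • M) *ᵥ v0) = t * f w (M *ᵥ v0)
        rw [Matrix.smul_mulVec, B.smul_right] }, fun M => rfl⟩
  obtain ⟨c1, hc1, hc1eq⟩ := T φ₁
  obtain ⟨v1, hv1def⟩ : ∃ v1, v1 = w - c1 *ᵥ v0 := ⟨_, rfl⟩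
  have hv1ne : v1 ≠ 0 := by
    intro h
    apply hw
    rw [hv1def, sub_eq_zero] at h
    rw [h]
    exact (Helper96.Sy.mem_orb E v0 _).mpr ⟨c1, hc1, rfl⟩
  have hv1perp : ∀ k ∈ E, f v1 (k *ᵥ v0) = 0 := by
    intro k hk
    rw [hv1def, fsubl, ← hφ₁, hc1eq k hk, sa c1 hc1, Matrix.mulVec_mulVec v0 c1 k, hsym v0,
      sub_self]
  have cross : ∀ x ∈ E, ∀ y ∈ E, f (x *ᵥ v0) (y *ᵥ v1) = 0 := by
    intro x hx y hy
    rw [hsym, sa y hy, Matrix.mulVec_mulVec v0 y x]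
    exact hv1perp (y * x) (E.mul_mem hy hx)
  have cross' : ∀ x ∈ E, ∀ y ∈ E, f (y *ᵥ v1) (x *ᵥ v0) = 0 := by
    intro x hx y hy
    rw [hsym]; exact cross x hx y hy
  -- the decomposition `V = E v0 ⊕ E v1`
  have hr2 : Module.finrank F (Helper96.Sy.orb E v1) = r := by
    rw [(Helper96.Sy.orb_min E hE.inv _ hv1ne).2, hE.finrank_eq]
  have hdisj : Helper96.Sy.orb E v0 ⊓ Helper96.Sy.orb E v1 = ⊥ := by
    rw [Submodule.eq_bot_iff]
    rintro w ⟨hw1, hw2⟩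
    obtain ⟨k, hk, rfl⟩ := (Helper96.Sy.mem_orb E v0 w).mp hw1
    obtain ⟨k', hk', hkk'⟩ := (Helper96.Sy.mem_orb E v1 _).mp hw2
    by_contra hne
    have hk0 : k ≠ 0 := by rintro rfl; exact hne (Matrix.zero_mulVec _)
    obtain ⟨y, hy, hky⟩ := hE.inv k hk hk0
    have h1 : f (k *ᵥ v0) (y *ᵥ v0) = f v0 v0 := by
      rw [sa k hk, Matrix.mulVec_mulVec v0 k y, hky, Matrix.one_mulVec]
    have h2' : f (k *ᵥ v0) (y *ᵥ v0) = 0 := by
      rw [← hkk']
      exact cross' y hy k' hk'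
    exact hv0 (h1.symm.trans h2')
  have htop : Helper96.Sy.orb E v0 ⊔ Helper96.Sy.orb E v1 = ⊤ := by
    apply Submodule.eq_top_of_finrank_eq
    have h1 := Submodule.finrank_sup_add_finrank_inf_eq (Helper96.Sy.orb E v0)
      (Helper96.Sy.orb E v1)
    rw [hdisj, finrank_bot, add_zero, hr1, hr2] at h1
    rw [h1, Module.finrank_fintype_fun_eq_card, hn]; ring
  have F2 : ∀ u : ι → F, ∃ k ∈ E, ∃ k' ∈ E, u = k *ᵥ v0 + k' *ᵥ v1 := by
    intro u
    have hu : u ∈ Helper96.Sy.orb E v0 ⊔ Helper96.Sy.orb E v1 := by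
      rw [htop]; exact Submodule.mem_top
    obtain ⟨y, hy, z, hz, hyz⟩ := Submodule.mem_sup.mp hu
    obtain ⟨k, hk, rfl⟩ := (Helper96.Sy.mem_orb E v0 y).mp hy
    obtain ⟨k', hk', rfl⟩ := (Helper96.Sy.mem_orb E _ z).mp hz
    exact ⟨k, hk, k', hk', hyz.symm⟩
  have F2u : ∀ k ∈ E, ∀ k' ∈ E, k *ᵥ v0 + k' *ᵥ v1 = 0 → k = 0 ∧ k' = 0 := by
    intro k hk k' hk' h
    have h1 : k *ᵥ v0 ∈ Helper96.Sy.orb E v0 ⊓ Helper96.Sy.orb E v1 := by
      refine ⟨(Helper96.Sy.mem_orb E v0 _).mpr ⟨k, hk, rfl⟩, ?_⟩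
      refine (Helper96.Sy.mem_orb E v1 _).mpr ⟨-k', E.neg_mem hk', ?_⟩
      rw [Matrix.neg_mulVec]
      exact (eq_neg_of_add_eq_zero_left h).symm
    rw [hdisj] at h1
    have h3 : k *ᵥ v0 = 0 := (Submodule.mem_bot F).mp h1
    have hk0 : k = 0 := by
      by_contra hk0
      exact hv0ne (hFS.mulVec_eq_zero hk hk0 h3)
    refine ⟨hk0, ?_⟩
    rw [h3, zero_add] at h
    by_contra hk0'
    exact hv1ne (hFS.mulVec_eq_zero hk' hk0' h)
  have F3 : ∀ w : ι → F, (∀ k ∈ E, f w (k *ᵥ v0) = 0) →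
      (∀ k ∈ E, f w (k *ᵥ v1) = 0) → w = 0 := by
    intro w h1 h2'
    by_contra hw
    obtain ⟨x, hx⟩ := (hf.nondegenerate w hw).2
    obtain ⟨k, hk, k', hk', rfl⟩ := F2 x
    apply hx
    rw [B.add_right, h1 k hk, h2' k' hk', add_zero]
  have F4 : ∀ X : Matrix ι ι F, (∀ u v, f (X *ᵥ u) v = -f u (X *ᵥ v)) →
      (∀ k ∈ E, X * k = k * X) → X *ᵥ v0 = 0 → X = 0 := by
    intro X hXs hXE hX0
    have hXJ : X *ᵥ v1 = 0 := by
      apply F3
      · intro k hk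
        rw [hXs, Matrix.mulVec_mulVec v0 X k, hXE k hk, ← Matrix.mulVec_mulVec v0 k X, hX0,
          Matrix.mulVec_zero, fzr, neg_zero]
      · intro k hk
        exact F1 X hXs hXE k hk v1
    apply Helper98.matrix_ext_mulVec
    intro u
    obtain ⟨k, hk, k', hk', rfl⟩ := F2 u
    have e1 : X *ᵥ (k *ᵥ v0) = 0 := by
      rw [Matrix.mulVec_mulVec v0 X k, hXE k hk, ← Matrix.mulVec_mulVec v0 k X, hX0,
        Matrix.mulVec_zero]
    have e2 : X *ᵥ (k' *ᵥ v1) = 0 := by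
      rw [Matrix.mulVec_mulVec v1 X k', hXE k' hk', ← Matrix.mulVec_mulVec v1 k' X, hXJ,
        Matrix.mulVec_zero]
    rw [Matrix.mulVec_add, e1, e2, add_zero, Matrix.zero_mulVec]
  -- the functional `λ₁` and `δ`
  obtain ⟨φ₂, hφ₂⟩ : ∃ φ : Matrix ι ι F →ₗ[F] F, ∀ M, φ M = f (M *ᵥ v1) v1 :=
    ⟨{ toFun := fun M => f (M *ᵥ v1) v1
       map_add' := fun M N => by
        show f ((M + N) *ᵥ v1) v1 = f (M *ᵥ v1) v1 + f (N *ᵥ v1) v1
        rw [Matrix.add_mulVec, B.add_left]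
       map_smul' := fun t M => by
        show f ((t • M) *ᵥ v1) v1 = t * f (M *ᵥ v1) v1
        rw [Matrix.smul_mulVec, B.smul_left] }, fun M => rfl⟩
  obtain ⟨d', hd', hd'eq⟩ := T φ₂
  have hL1 : ∀ k ∈ E, f (k *ᵥ v1) v1 = f ((d' * k) *ᵥ v0) v0 := by
    intro k hk
    rw [← hφ₂]; exact hd'eq k hk
  have L0 : ∀ p ∈ E, ∀ q ∈ E, f (p *ᵥ v0) (q *ᵥ v0) = f ((q * p) *ᵥ v0) v0 := by
    intro p hp q hq
    rw [← Matrix.mulVec_mulVec v0 q p, sa q hq]
  have L1 : ∀ p ∈ E, ∀ q ∈ E, f (p *ᵥ v1) (q *ᵥ v1) = f ((d' * (q * p)) *ᵥ v0) v0 := by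
    intro p hp q hq
    rw [← hL1 (q * p) (E.mul_mem hq hp), ← Matrix.mulVec_mulVec v1 q p, sa q hq]
  have hδ : -d' ∈ E := E.neg_mem hd'
  -- the map `a`
  obtain ⟨ψ, hψ⟩ : ∃ ψ : (Subalgebra.toSubmodule E × Subalgebra.toSubmodule E) →ₗ[F] (ι → F),
      ∀ p, ψ p = (p.1 : Matrix ι ι F) *ᵥ v0 + (p.2 : Matrix ι ι F) *ᵥ v1 :=
    ⟨((Helper97.Gen.evalAt v0).domRestrict (Subalgebra.toSubmodule E)).coprod
      ((Helper97.Gen.evalAt v1).domRestrict (Subalgebra.toSubmodule E)), fun p => rfl⟩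
  have hψbij : Function.Bijective ψ := by
    constructor
    · rw [injective_iff_map_eq_zero]
      intro p hp
      rw [hψ] at hp
      obtain ⟨h1, h2'⟩ := F2u _ p.1.2 _ p.2.2 hp
      exact Prod.ext (Subtype.ext h1) (Subtype.ext h2')
    · intro u
      obtain ⟨k, hk, k', hk', rfl⟩ := F2 u
      exact ⟨(⟨k, hk⟩, ⟨k', hk'⟩), hψ _⟩
  obtain ⟨σ, hσ⟩ : ∃ σ : (Subalgebra.toSubmodule E × Subalgebra.toSubmodule E) →ₗ[F]
      (Subalgebra.toSubmodule E × Subalgebra.toSubmodule E),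
      ∀ p, ((σ p).1 : Matrix ι ι F) = -d' * (p.2 : Matrix ι ι F) ∧
        ((σ p).2 : Matrix ι ι F) = (p.1 : Matrix ι ι F) :=
    ⟨LinearMap.prod
      (((LinearMap.mulLeft F (-d')).restrict
        (p := Subalgebra.toSubmodule E) (q := Subalgebra.toSubmodule E)
        (fun x hx => E.mul_mem hδ hx)).comp (LinearMap.snd F _ _))
      (LinearMap.fst F _ _), fun p => ⟨rfl, rfl⟩⟩
  obtain ⟨al, hal⟩ : ∃ al : (ι → F) →ₗ[F] (ι → F), ∀ p, al (ψ p) = ψ (σ p) := by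
    refine ⟨ψ.comp (σ.comp (LinearEquiv.ofBijective ψ hψbij).symm.toLinearMap), fun p => ?_⟩
    show ψ (σ ((LinearEquiv.ofBijective ψ hψbij).symm (ψ p))) = ψ (σ p)
    have h1 : (LinearEquiv.ofBijective ψ hψbij).symm (ψ p) = p :=
      (LinearEquiv.ofBijective ψ hψbij).symm_apply_apply p
    rw [h1]
  obtain ⟨A, hAdef⟩ : ∃ A : Matrix ι ι F, A = LinearMap.toMatrix' al := ⟨_, rfl⟩
  have hA : ∀ u, A *ᵥ u = al u := by
    intro u
    rw [hAdef, ← Matrix.toLin'_apply, Matrix.toLin'_toMatrix']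
  have hAv : ∀ x ∈ E, ∀ y ∈ E, A *ᵥ (x *ᵥ v0 + y *ᵥ v1) = (-d' * y) *ᵥ v0 + x *ᵥ v1 := by
    intro x hx y hy
    have h1 := hal (⟨x, hx⟩, ⟨y, hy⟩)
    rw [hψ, hψ, (hσ _).1, (hσ _).2] at h1
    rw [hA]; exact h1
  have hAv0 : A *ᵥ v0 = v1 := by
    have h1 := hAv 1 E.one_mem 0 E.zero_mem
    simpa using h1
  have hAcomm : ∀ k ∈ E, k * A = A * k := by
    intro k hk
    apply Helper98.matrix_ext_mulVec
    intro u
    obtain ⟨x, hx, y, hy, rfl⟩ := F2 u
    rw [← Matrix.mulVec_mulVec _ k A, ← Matrix.mulVec_mulVec _ A k, hAv x hx y hy,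
      Matrix.mulVec_add, Matrix.mulVec_add, Matrix.mulVec_mulVec v0 k, Matrix.mulVec_mulVec v1 k,
      Matrix.mulVec_mulVec v0 k, Matrix.mulVec_mulVec v1 k,
      hAv (k * x) (E.mul_mem hk hx) (k * y) (E.mul_mem hk hy), lcomm k hk (-d') hδ y]
  have hAskew : ∀ u v : ι → F, f (A *ᵥ u) v = -f u (A *ᵥ v) := by
    intro u v
    obtain ⟨x, hx, y, hy, rfl⟩ := F2 u
    obtain ⟨x', hx', y', hy', rfl⟩ := F2 v
    have hdy : -d' * y ∈ E := E.mul_mem hδ hy
    have hdy' : -d' * y' ∈ E := E.mul_mem hδ hy'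
    rw [hAv x hx y hy, hAv x' hx' y' hy', B.add_left, B.add_right, B.add_right, B.add_left,
      B.add_right, B.add_right, cross _ hdy _ hy', cross' _ hx' _ hx, cross _ hx _ hx',
      cross' _ hdy' _ hy, L0 _ hdy _ hx', L1 _ hx _ hy', L0 _ hx _ hdy', L1 _ hy _ hx']
    have e1 : x' * (-d' * y) = -(d' * (x' * y)) := by
      rw [neg_mul, mul_neg, lcomm x' hx' d' hd' y]
    have e2 : -d' * y' * x = -(d' * (y' * x)) := by
      rw [neg_mul, neg_mul, mul_assoc]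
    rw [e1, e2, Matrix.neg_mulVec, Matrix.neg_mulVec, fnegl, fnegl]
    ring
  have hAA : A * A = -d' := by
    apply Helper98.matrix_ext_mulVec
    intro u
    obtain ⟨x, hx, y, hy, rfl⟩ := F2 u
    rw [← Matrix.mulVec_mulVec _ A A, hAv x hx y hy, hAv (-d' * y) (E.mul_mem hδ hy) x hx,
      Matrix.mulVec_add, Matrix.mulVec_mulVec v0 (-d') x, Matrix.mulVec_mulVec v1 (-d') y,
      add_comm]
  refine ⟨A, ?_, hAcomm, hAskew, ?_, ?_⟩
  · intro h
    rw [h, Matrix.zero_mulVec] at hAv0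
    exact hv1ne hAv0.symm
  · rw [hAA]; exact hδ
  · intro b hbE hbs
    have hbE' : ∀ k ∈ E, b * k = k * b := fun k hk => (hbE k hk).symm
    obtain ⟨x, hx, y, hy, hb0⟩ := F2 (b *ᵥ v0)
    have hx0 : x = 0 := by
      by_contra hx0
      obtain ⟨z, hz, hxz⟩ := hE.inv x hx hx0
      have h1 : f (b *ᵥ v0) (z *ᵥ v0) = 0 := F1 b hbs hbE' z hz v0
      rw [hb0, B.add_left, cross' z hz y hy, add_zero, sa x hx, Matrix.mulVec_mulVec v0 x z, hxz,
        Matrix.one_mulVec] at h1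
      exact hv0 h1
    refine ⟨y, hy, ?_⟩
    have hX : b - y * A = 0 := by
      apply F4
      · intro u v
        rw [Matrix.sub_mulVec, Matrix.sub_mulVec, fsubl, fsubr, hbs,
          ← Matrix.mulVec_mulVec u y A, sa y hy, hAskew, Matrix.mulVec_mulVec v A y,
          ← hAcomm y hy]
        ring
      · intro k hk
        calc (b - y * A) * k = b * k - y * (A * k) := by rw [sub_mul, mul_assoc]
          _ = k * b - y * (k * A) := by rw [hbE' k hk, hAcomm k hk]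
          _ = k * b - (y * k) * A := by rw [mul_assoc]
          _ = k * b - (k * y) * A := by rw [hE.comm y hy k hk]
          _ = k * (b - y * A) := by rw [mul_sub, mul_assoc]
      · rw [Matrix.sub_mulVec, hb0, hx0, Matrix.zero_mulVec, zero_add,
          ← Matrix.mulVec_mulVec v0 y A, hAv0, sub_self]
    exact sub_eq_zero.mp hX

end Cfsg.Agent.Helper66
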