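import Mathlib
import Cfsg.Agent.Helper13.TLDefs
import Cfsg.Agent.Helper86.TLUATOMP
import Cfsg.Agent.Helper41.TLUPERP
import Cfsg.Agent.Helper26.TLUSUM

set_option autoImplicit false

/-!
# S5954, piece USTRUCT (helper66, double)

`ustruct_p`, statement verbatim from the skeleton: orthogonal decomposition of a nondegenerate
invariant subspace into Jordan blocks (unitary case A), with selection of every sub-multiset.
Mirror of `Cfsg.Agent.Helper72.TI5956.struct_p_of`, fed with UATOMP (helper86), UPERP (helper41),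
USUM (helper26) and `jt_add` (helper37).
-/

namespace Cfsg.Agent.Helper66.TI5954

open Module Polynomial
open Cfsg.Agent.Helper13.TIu Cfsg.Agent.Helper13.TIsp

section geom2

variable {F : Type*} [Field F] {σ : F →+* F} {V : Type*} [AddCommGroup V] [Module F V]
  [FiniteDimensional F V] (B : V →ₛₗ[σ] V →ₗ[F] F)

/-- USTRUCT (case A): orthogonal decomposition into Jordan blocks, with selection of every
sub-multiset. -/
theorem ustruct_p (hσ2 : ∀ a, σ (σ a) = a) (hσne : σ ≠ RingHom.id F) (hS : B.IsSymm)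
    (T : Module.End F V) (hT : UPres B T) (n : ℕ) (hn : 0 < n) (hTn : T ^ n = 1) (p : ℕ)
    (hNp : (T - 1) ^ p = 0) :
    ∀ (E : Submodule F V), E.map T ≤ E → UNd B E →
      ∃ μ : Multiset ℕ, JT (T - 1) E μ ∧ (∀ a ∈ μ, 0 < a ∧ a ≤ p) ∧
        ∀ ν : Multiset ℕ, ν ≤ μ →
          ∃ W : Submodule F V, W ≤ E ∧ W.map T ≤ W ∧ UNd B W ∧ finrank F W = ν.sum := by
  classical
  suffices H : ∀ k : ℕ, ∀ E : Submodule F V, finrank F E = k → E.map T ≤ E → UNd B E →
      ∃ μ : Multiset ℕ, JT (T - 1) E μ ∧ (∀ a ∈ μ, 0 < a ∧ a ≤ p) ∧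
        ∀ ν : Multiset ℕ, ν ≤ μ →
          ∃ W : Submodule F V, W ≤ E ∧ W.map T ≤ W ∧ UNd B W ∧ finrank F W = ν.sum from
    fun E hET hE => H _ E rfl hET hE
  intro k
  induction k using Nat.strong_induction_on with
  | _ k ih =>
  intro E hk hET hE
  by_cases hE0 : E = ⊥
  · subst hE0
    refine ⟨0, ?_, ?_, ?_⟩
    · intro j
      simp
    · intro a ha
      simp at ha
    · intro ν hν
      have hν0 : ν = 0 := le_zero_iff.mp hν
      subst hν0
      refine ⟨⊥, le_rfl, ?_, ?_, ?_⟩
      · simp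
      · intro v hv _
        exact (Submodule.mem_bot F).mp hv
      · simp
  · obtain ⟨Z, a, hZE, hZT, hZ, ha0, hap, hJZ⟩ :=
      Cfsg.Agent.Helper86.TI5954.uatom_p B hσ2 hσne hS T hT n hn hTn p hNp E hET hE hE0
    obtain ⟨P, hPE, hPT, hP, hZP, hZPE, ho1, ho2, hfr⟩ :=
      Cfsg.Agent.Helper41.TI5954.u_perp B hσ2 hS T hT n hn hTn E Z hE hZ hZE hET hZT
    have hfZ : finrank F Z = a := by
      have h := hJZ p
      rw [hNp, LinearMap.ker_zero, inf_top_eq] at h
      rw [h, Multiset.map_replicate, Multiset.sum_replicate, smul_eq_mul, min_eq_left hap, one_mul]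
    have hlt : finrank F P < k := by
      omega
    obtain ⟨μ', hJP, hμ', hsel'⟩ := ih (finrank F P) hlt P rfl hPT hP
    have hNZ : ∀ v ∈ Z, (T - 1) v ∈ Z := by
      intro v hv
      rw [LinearMap.sub_apply, Module.End.one_apply]
      exact Z.sub_mem (hZT (Submodule.mem_map_of_mem hv)) hv
    have hNP : ∀ v ∈ P, (T - 1) v ∈ P := by
      intro v hv
      rw [LinearMap.sub_apply, Module.End.one_apply]
      exact P.sub_mem (hPT (Submodule.mem_map_of_mem hv)) hv
    refine ⟨Multiset.replicate 1 a + μ', ?_, ?_, ?_⟩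
    · rw [← hZPE]
      exact Cfsg.Agent.Helper37.TI5956.jt_add (T - 1) Z P hNZ hNP hZP _ _ hJZ hJP
    · intro b hb
      rcases Multiset.mem_add.mp hb with h | h
      · rw [Multiset.eq_of_mem_replicate h]
        exact ⟨ha0, hap⟩
      · exact hμ' b h
    · intro ν hν
      by_cases hmem : a ∈ ν
      · have hcnt : 1 ≤ ν.count a := Multiset.one_le_count_iff_mem.mpr hmem
        have hle : Multiset.replicate 1 a ≤ ν := Multiset.le_count_iff_replicate_le.mp hcnt
        obtain ⟨ν', hνeq⟩ : ∃ ν' : Multiset ℕ, ν = Multiset.replicate 1 a + ν' :=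
          ⟨ν - Multiset.replicate 1 a, (add_tsub_cancel_of_le hle).symm⟩
        subst hνeq
        have hν'le : ν' ≤ μ' := (add_le_add_iff_left _).mp hν
        obtain ⟨W', hW'P, hW'T, hW', hfW'⟩ := hsel' ν' hν'le
        obtain ⟨hnd, -, hfr2⟩ := Cfsg.Agent.Helper26.TI5954.u_sum B Z W' hZ hW'
          (fun u hu v hv => ho1 u hu v (hW'P hv)) (fun u hu v hv => ho2 u (hW'P hu) v hv)
        refine ⟨Z ⊔ W', sup_le hZE (hW'P.trans hPE), ?_, hnd, ?_⟩
        · rw [Submodule.map_sup]
          exact sup_le_sup hZT hW'T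
        · rw [hfr2, hfZ, hfW', Multiset.sum_add, Multiset.sum_replicate, smul_eq_mul, one_mul]
      · have hνle : ν ≤ μ' := by
          rw [Multiset.le_iff_count]
          intro b
          have h1 := Multiset.le_iff_count.mp hν b
          rw [Multiset.count_add, Multiset.count_replicate] at h1
          split_ifs at h1 with hab
          · subst hab
            rw [Multiset.count_eq_zero_of_notMem hmem]
            exact Nat.zero_le _
          · simpa using h1
        obtain ⟨W, hWP, hWT, hW, hfW⟩ := hsel' ν hνle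
        exact ⟨W, hWP.trans hPE, hWT, hW, hfW⟩

end geom2

end Cfsg.Agent.Helper66.TI5954
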